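import Groth.Agent.H24FMod.OfLevels
import Groth.Prelude.Def_FSch6

/-!
# Inverse image of the module of a system along a morphism of formal schemes
-/

set_option autoImplicit false
set_option linter.style.haveILetI false
set_option linter.unusedSectionVars false
universe u

open CategoryTheory CategoryTheory.Limits AlgebraicGeometry TopologicalSpace Opposite

namespace Groth.Agent.H24FMod

open H15Site.ModTensor H15Site.ModRel H15Site.LocGen H15Site.LocPres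

/-- The comparison of a composite inverse image on sections. -/
theorem pullbackComp_hom_pullSect {X Y Z : Scheme.{u}} (g : X ⟶ Y) (h : Y ⟶ Z) (M : Z.Modules) (W : Z.Opens)
    (m : Γ(M, W)) :
    ((Scheme.Modules.pullbackComp g h).hom.app M).app ((g ≫ h) ⁻¹ᵁ W)
        (OmegaSh.pullSect g ((Scheme.Modules.pullback h).obj M) (h ⁻¹ᵁ W) (OmegaSh.pullSect h M W m)) =
      OmegaSh.pullSect (g ≫ h) M W m := by
  rw [← H17.PullSect.pullSect_comp g h M W m]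
  exact congr($(congrArg (fun k => Scheme.Modules.Hom.app k ((g ≫ h) ⁻¹ᵁ W))
    ((Scheme.Modules.pullbackComp g h).inv_hom_id_app M)) (OmegaSh.pullSect (g ≫ h) M W m))

variable {𝔛 𝔜 : FSch.Sys.{u}} (φ : 𝔛 ⟶ 𝔜) (𝔐 : FSch.ModSys 𝔜)

/-- The transition of a pulled back system on pulled back sections. -/
theorem toPush_pullback_pullSect (k : ℕ) (V : (𝔜.X (k + 1)).Opens) (y : Γ(𝔐.F (k + 1), V)) :
    ((FSch.ModSys.pullback φ 𝔐).toPush k).app ((φ : FSch.Hom 𝔛 𝔜).app (k + 1) ⁻¹ᵁ V)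
        (OmegaSh.pullSect ((φ : FSch.Hom 𝔛 𝔜).app (k + 1)) (𝔐.F (k + 1)) V y) =
      ((FSch.ModSys.pullback φ 𝔐).F k).presheaf.map
        (homOfLE (show 𝔛.ι k ⁻¹ᵁ ((φ : FSch.Hom 𝔛 𝔜).app (k + 1) ⁻¹ᵁ V) ≤
            (φ : FSch.Hom 𝔛 𝔜).app k ⁻¹ᵁ (𝔜.ι k ⁻¹ᵁ V) by
          rw [← Scheme.Hom.comp_preimage, ← Scheme.Hom.comp_preimage, (φ : FSch.Hom 𝔛 𝔜).comm])).op
        (OmegaSh.pullSect ((φ : FSch.Hom 𝔛 𝔜).app k) (𝔐.F k) (𝔜.ι k ⁻¹ᵁ V) ((𝔐.toPush k).app V y)) := by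
  let ι := 𝔛.ι k
  let ι' := 𝔜.ι k
  let f₁ := (φ : FSch.Hom 𝔛 𝔜).app (k + 1)
  let f₀ := (φ : FSch.Hom 𝔛 𝔜).app k
  let M := 𝔐.F (k + 1)
  let e : ι ≫ f₁ = f₀ ≫ ι' := ((φ : FSch.Hom 𝔛 𝔜).comm k).symm
  have h1 : ((FSch.ModSys.pullback φ 𝔐).toPush k).app (f₁ ⁻¹ᵁ V) (OmegaSh.pullSect f₁ M V y) =
      ((FSch.ModSys.pullback φ 𝔐).e k).hom.app (ι ⁻¹ᵁ (f₁ ⁻¹ᵁ V))
        (OmegaSh.pullSect ι ((Scheme.Modules.pullback f₁).obj M) (f₁ ⁻¹ᵁ V) (OmegaSh.pullSect f₁ M V y)) := by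
    rw [FSch.ModSys.toPush, Adjunction.homEquiv_unit]
    rfl
  have h5 : (𝔐.toPush k).app V y = (𝔐.e k).hom.app (ι' ⁻¹ᵁ V) (OmegaSh.pullSect ι' M V y) := by
    rw [FSch.ModSys.toPush, Adjunction.homEquiv_unit]
    rfl
  refine h1.trans ?_
  rw [h5]
  let c1 := (Scheme.Modules.pullbackComp ι f₁).hom.app M
  let c2 := (Scheme.Modules.pullbackCongr e).hom.app M
  let c3 := (Scheme.Modules.pullbackComp f₀ ι').inv.app M
  let c4 := (Scheme.Modules.pullback f₀).map (𝔐.e k).hom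
  let L : ((ι ≫ f₁) ⁻¹ᵁ V) ≤ (f₀ ≫ ι') ⁻¹ᵁ V := (congrArg (fun q => q ⁻¹ᵁ V) e).le
  let O₀ := (ι ≫ f₁) ⁻¹ᵁ V
  show c4.app O₀ (c3.app O₀ (c2.app O₀ (c1.app O₀
    (OmegaSh.pullSect ι ((Scheme.Modules.pullback f₁).obj M) (f₁ ⁻¹ᵁ V) (OmegaSh.pullSect f₁ M V y))))) = _
  rw [pullbackComp_hom_pullSect ι f₁ M V y]
  refine (congrArg (fun z => c4.app O₀ (c3.app O₀ z)) (congr_pullSect' e M V y)).trans ?_
  refine (congrArg (c4.app O₀) (congr($(c3.mapPresheaf.naturality (homOfLE L).op) (OmegaSh.pullSect (f₀ ≫ ι') M V y)))).trans ?_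
  refine (congr($(c4.mapPresheaf.naturality (homOfLE L).op)
    (c3.app ((f₀ ≫ ι') ⁻¹ᵁ V) (OmegaSh.pullSect (f₀ ≫ ι') M V y)))).trans ?_
  refine congrArg (((FSch.ModSys.pullback φ 𝔐).F k).presheaf.map (homOfLE L).op) ?_
  refine (congrArg (c4.app ((f₀ ≫ ι') ⁻¹ᵁ V)) (H17.PullSect.pullSect_comp f₀ ι' M V y)).trans ?_
  exact (congrArg (fun q : (Scheme.Modules.pullback ι').obj M ⟶ (Scheme.Modules.pushforward f₀).obj
      ((Scheme.Modules.pullback f₀).obj (𝔐.F k)) => q.app (ι' ⁻¹ᵁ V) (OmegaSh.pullSect ι' M V y))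
    ((Scheme.Modules.pullbackPushforwardAdjunction f₀).unit.naturality (𝔐.e k).hom)).symm

variable (h𝔛 : 𝔛.IsFormal) (h𝔜 : 𝔜.IsFormal)

/-- The unit maps to the levels of the pulled back system. -/
noncomputable def pullUnit (k : ℕ) :
    𝔐.realMod h𝔜 ⟶ (FSch.pushF φ h𝔛 h𝔜).obj ((FSch.levelMor 𝔛 h𝔛 k).push.obj ((FSch.ModSys.pullback φ 𝔐).F k)) :=
  FSch.realProj 𝔜 h𝔜 𝔐.F 𝔐.toPush k ≫
    (FSch.levelMor 𝔜 h𝔜 k).push.map ((ModSite.RMor.ofScheme ((φ : FSch.Hom 𝔛 𝔜).app k)).adj.unit.app (𝔐.F k)) ≫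
      (FSch.lvPushSq φ h𝔛 h𝔜 k).inv.app ((FSch.ModSys.pullback φ 𝔐).F k)

/-- The sections of `pullUnit`. -/
noncomputable def pullSec (k : ℕ) (U : (𝔜.X 0).Opens) :
    Γ(𝔐.F k, 𝔜.lvU h𝔜 k U) →+
      Γ((FSch.ModSys.pullback φ 𝔐).F k, 𝔛.lvU h𝔛 k (((φ : FSch.Hom 𝔛 𝔜).app 0) ⁻¹ᵁ U)) where
  toFun m := ((FSch.ModSys.pullback φ 𝔐).F k).presheaf.map (homOfLE (FSch.Hom.lvU_preimage φ h𝔛 h𝔜 k U).ge).op
    (OmegaSh.pullSect ((φ : FSch.Hom 𝔛 𝔜).app k) (𝔐.F k) (𝔜.lvU h𝔜 k U) m)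
  map_zero' := (congrArg _ (map_zero (OmegaSh.pullSect ((φ : FSch.Hom 𝔛 𝔜).app k) (𝔐.F k) _).hom)).trans (map_zero _)
  map_add' a b := (congrArg _ (map_add (OmegaSh.pullSect ((φ : FSch.Hom 𝔛 𝔜).app k) (𝔐.F k) _).hom a b)).trans (map_add _ _ _)

theorem pullUnit_app (k : ℕ) (U : (𝔜.X 0).Opens) (x : Sec h𝔜 (𝔐.realMod h𝔜) U) :
    ((pullUnit φ 𝔐 h𝔛 h𝔜 k).val.app (op U)).hom x = pullSec φ 𝔐 h𝔛 h𝔜 k U (prS h𝔜 𝔐.F 𝔐.toPush k U x) :=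
  congrArg (fun z => ((FSch.ModSys.pullback φ 𝔐).F k).presheaf.map z
      (OmegaSh.pullSect ((φ : FSch.Hom 𝔛 𝔜).app k) (𝔐.F k) (𝔜.lvU h𝔜 k U) (prS h𝔜 𝔐.F 𝔐.toPush k U x)))
    (Subsingleton.elim _ _)

theorem tr_pullSec (k : ℕ) (U : (𝔜.X 0).Opens) (y : Γ(𝔐.F (k + 1), 𝔜.lvU h𝔜 (k + 1) U)) :
    tr h𝔛 (FSch.ModSys.pullback φ 𝔐).F (FSch.ModSys.pullback φ 𝔐).toPush k (((φ : FSch.Hom 𝔛 𝔜).app 0) ⁻¹ᵁ U)
        (pullSec φ 𝔐 h𝔛 h𝔜 (k + 1) U y) =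
      pullSec φ 𝔐 h𝔛 h𝔜 k U (tr h𝔜 𝔐.F 𝔐.toPush k U y) := by
  let P := FSch.ModSys.pullback φ 𝔐
  let f₀ := (φ : FSch.Hom 𝔛 𝔜).app k
  let f₁ := (φ : FSch.Hom 𝔛 𝔜).app (k + 1)
  let A := ((φ : FSch.Hom 𝔛 𝔜).app 0) ⁻¹ᵁ U
  show (P.F k).presheaf.map (homOfLE (𝔛.lvU_le h𝔛 k A)).op
      ((P.toPush k).app _ ((P.F (k + 1)).presheaf.map _ (OmegaSh.pullSect f₁ (𝔐.F (k + 1)) _ y))) =
    (P.F k).presheaf.map _ (OmegaSh.pullSect f₀ (𝔐.F k) _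
      ((𝔐.F k).presheaf.map (homOfLE (𝔜.lvU_le h𝔜 k U)).op ((𝔐.toPush k).app _ y)))
  have e1 := congr($((P.toPush k).mapPresheaf.naturality (homOfLE (FSch.Hom.lvU_preimage φ h𝔛 h𝔜 (k + 1) U).ge).op)
    (OmegaSh.pullSect f₁ (𝔐.F (k + 1)) _ y))
  refine (congrArg _ e1).trans ?_
  refine (congrArg (fun z => (P.F k).presheaf.map (homOfLE (𝔛.lvU_le h𝔛 k A)).op
    ((((Scheme.Modules.pushforward (𝔛.ι k)).obj (P.F k)).presheaf.map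
      (homOfLE (FSch.Hom.lvU_preimage φ h𝔛 h𝔜 (k + 1) U).ge).op) z)) (toPush_pullback_pullSect φ 𝔐 k _ y)).trans ?_
  refine (congrArg _ (map_map_eq (P.F k) _ _ _)).trans ((map_map_eq (P.F k) _ _ _).trans ?_)
  refine Eq.trans ?_ (congrArg ((P.F k).presheaf.map (homOfLE (FSch.Hom.lvU_preimage φ h𝔛 h𝔜 k U).ge).op)
    (congr($(((Scheme.Modules.pullbackPushforwardAdjunction f₀).unit.app (𝔐.F k)).mapPresheaf.naturality
      (homOfLE (𝔜.lvU_le h𝔜 k U)).op) ((𝔐.toPush k).app _ y)))).symm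
  exact (map_map_eq (P.F k) _ _ _).symm

theorem pullUnit_step (k : ℕ) :
    pullUnit φ 𝔐 h𝔛 h𝔜 (k + 1) ≫ (FSch.pushF φ h𝔛 h𝔜).map
      ((FSch.levelMor 𝔛 h𝔛 (k + 1)).push.map ((FSch.ModSys.pullback φ 𝔐).toPush k) ≫
        (FSch.pushCompare 𝔛 h𝔛 k).app ((FSch.ModSys.pullback φ 𝔐).F k)) = pullUnit φ 𝔐 h𝔛 h𝔜 k := by
  refine hom_ext_sec fun U x => ?_
  refine Eq.trans ?_ (pullUnit_app φ 𝔐 h𝔛 h𝔜 k U x).symm
  refine (congrArg (tr h𝔛 (FSch.ModSys.pullback φ 𝔐).F (FSch.ModSys.pullback φ 𝔐).toPush k (((φ : FSch.Hom 𝔛 𝔜).app 0) ⁻¹ᵁ U))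
    (pullUnit_app φ 𝔐 h𝔛 h𝔜 (k + 1) U x)).trans ?_
  exact (tr_pullSec φ 𝔐 h𝔛 h𝔜 k U _).trans (congrArg _ (tr_prS h𝔜 𝔐.F 𝔐.toPush k U x))

end Groth.Agent.H24FMod

namespace Groth.Agent.H24FMod

theorem homEquiv_comp_ofNatIsoRight {A B C : Type*} [Category A] [Category B] [Category C] {F : A ⥤ B} {G : B ⥤ A}
    {K : B ⥤ C} {H : C ⥤ B} (adjL : F ⊣ G) (adjK : K ⊣ H) {R : C ⥤ A} (iso : H ⋙ G ≅ R) {X : A} {Z : B}
    (d : F.obj X ⟶ Z) :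
    ((adjL.comp adjK).ofNatIsoRight iso).homEquiv X (K.obj Z) (K.map d) =
      adjL.homEquiv X Z d ≫ G.map (adjK.unit.app Z) ≫ iso.hom.app (K.obj Z) := by
  rw [Adjunction.homEquiv_ofNatIsoRight_apply, Adjunction.comp_homEquiv, Equiv.trans_apply, adjK.homEquiv_unit,
    ← Functor.comp_map, ← adjK.unit.naturality d, Functor.id_map, adjL.homEquiv_naturality_right, Category.assoc]
  rfl

variable {𝔛 𝔜 : FSch.Sys.{u}} (φ : 𝔛 ⟶ 𝔜) (hX : 𝔛.IsLocNoethFormal) (hY : 𝔜.IsLocNoethFormal)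
  {𝔐 : FSch.ModSys 𝔜}

/-- The inverse image of the module of a coherent system is the module of the pulled back system. -/
theorem exists_pullF_iso (h𝔐 : 𝔐.IsCoh) :
    ∃ e : (FSch.pullF φ hX.1 hY.1).obj (𝔐.realMod hY.1) ≅ (FSch.ModSys.pullback φ 𝔐).realMod hX.1,
      ∀ k : ℕ, (FSch.homMor φ hX.1 hY.1).adj.homEquiv _ _ e.hom ≫
          (FSch.pushF φ hX.1 hY.1).map (FSch.realProj 𝔛 hX.1 _ _ k) ≫
          (FSch.lvPushSq φ hX.1 hY.1 k).hom.app ((FSch.ModSys.pullback φ 𝔐).F k) =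
        FSch.realProj 𝔜 hY.1 _ _ k ≫
          (FSch.levelMor 𝔜 hY.1 k).push.map
            ((ModSite.RMor.ofScheme ((φ : FSch.Hom 𝔛 𝔜).app k)).adj.unit.app (𝔐.F k)) := by
  let S := FSch.homMor φ hX.1 hY.1
  haveI : SheafOfModules.IsFinitePresentation (R := ModSite.ringSh (𝔜.Osh hY.1)) (𝔐.realMod hY.1) :=
    isCohF_realMod (hL := hY) h𝔐
  have h𝔉 : FSch.IsCohF 𝔛 hX.1 ((FSch.pullF φ hX.1 hY.1).obj (𝔐.realMod hY.1)) :=
    H15Site.PullLocPres.isFinitePresentation_pull S (𝔐.realMod hY.1)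
  let q : ∀ k, (FSch.pullF φ hX.1 hY.1).obj (𝔐.realMod hY.1) ⟶
      (FSch.levelMor 𝔛 hX.1 k).push.obj ((FSch.ModSys.pullback φ 𝔐).F k) := fun k =>
    (S.adj.homEquiv _ _).symm (pullUnit φ 𝔐 hX.1 hY.1 k)
  have hq : ∀ k, q (k + 1) ≫ ((FSch.levelMor 𝔛 hX.1 (k + 1)).push.map ((FSch.ModSys.pullback φ 𝔐).toPush k) ≫
      (FSch.pushCompare 𝔛 hX.1 k).app ((FSch.ModSys.pullback φ 𝔐).F k)) = q k := fun k =>
    (Adjunction.homEquiv_naturality_right_symm _ _ _).symm.trans (congrArg _ (pullUnit_step φ 𝔐 hX.1 hY.1 k))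
  have hiso : ∀ k, IsIso (((FSch.levelMor 𝔛 hX.1 k).adj.homEquiv _ _).symm (q k)) := fun k => by
    let fk := ModSite.RMor.ofScheme ((φ : FSch.Hom 𝔛 𝔜).app k)
    let uY := FSch.levelMor 𝔜 hY.1 k
    let adj₁ := (uY.adj.comp fk.adj).ofNatIsoRight (FSch.lvPushSq φ hX.1 hY.1 k).symm
    let adj₂ := S.adj.comp (FSch.levelMor 𝔛 hX.1 k).adj
    let d := (uY.adj.homEquiv _ _).symm (FSch.realProj 𝔜 hY.1 𝔐.F 𝔐.toPush k)
    haveI hd : IsIso d := isIso_pull_to_level (hL := hY) h𝔐 k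
    let L := (Adjunction.leftAdjointUniq adj₂ adj₁).hom.app (𝔐.realMod hY.1) ≫ fk.pull.map d
    have h := Adjunction.homEquiv_leftAdjointUniq_hom_app adj₂ adj₁ (𝔐.realMod hY.1)
    have e : ((FSch.levelMor 𝔛 hX.1 k).adj.homEquiv _ _).symm (q k) = L := by
      refine (adj₂.homEquiv _ _).injective ?_
      refine Eq.trans (b := pullUnit φ 𝔐 hX.1 hY.1 k) ?_ ?_
      · rw [Adjunction.comp_homEquiv]
        exact (congrArg (S.adj.homEquiv _ _) (Equiv.apply_symm_apply _ _)).trans (Equiv.apply_symm_apply _ _)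
      · refine Eq.symm ?_
        refine (Adjunction.homEquiv_naturality_right _ _ _).trans ((congrArg (· ≫ _) h).trans ?_)
        refine (adj₁.homEquiv_unit _ _ _).symm.trans ?_
        exact (homEquiv_comp_ofNatIsoRight uY.adj fk.adj (FSch.lvPushSq φ hX.1 hY.1 k).symm d).trans
          (congrArg (· ≫ _) (Equiv.apply_symm_apply _ _))
    rw [e]
    haveI := ((Adjunction.leftAdjointUniq adj₂ adj₁).app (𝔐.realMod hY.1)).isIso_hom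
    haveI := (fk.pull.mapIso (asIso d)).isIso_hom
    exact IsIso.comp_isIso' ((Adjunction.leftAdjointUniq adj₂ adj₁).app (𝔐.realMod hY.1)).isIso_hom
      (fk.pull.mapIso (asIso d)).isIso_hom
  obtain ⟨e, he⟩ := exists_iso_of_levels hX h𝔉 q hq hiso
  refine ⟨e, fun k => ?_⟩
  have h1 : (FSch.homMor φ hX.1 hY.1).adj.homEquiv _ _ e.hom ≫ (FSch.pushF φ hX.1 hY.1).map (FSch.realProj 𝔛 hX.1 _ _ k) =
      pullUnit φ 𝔐 hX.1 hY.1 k :=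
    (Adjunction.homEquiv_naturality_right _ _ _).symm.trans ((congrArg _ (he k)).trans (Equiv.apply_symm_apply _ _))
  refine (Category.assoc _ _ _).symm.trans ((congrArg (· ≫ _) h1).trans ?_)
  refine (Category.assoc _ _ _).trans (congrArg (_ ≫ ·) ?_)
  refine (Category.assoc _ _ _).trans ((congrArg (_ ≫ ·) ((FSch.lvPushSq φ hX.1 hY.1 k).inv_hom_id_app _)).trans ?_)
  exact Category.comp_id _

end Groth.Agent.H24FMod
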