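import Groth.Agent.H24FMod.Sect
import Groth.Agent.H24Adic.RingLimit
import Groth.Agent.H7Lim.Thickening
import Groth.Agent.H17.PullSectLocal
import Groth.Agent.H24GE.Sys

/-!
# Sections over affine opens of a locally Noetherian formal scheme
-/

set_option autoImplicit false
set_option linter.style.haveILetI false
set_option linter.unusedSectionVars false
universe u

open CategoryTheory CategoryTheory.Limits AlgebraicGeometry TopologicalSpace Opposite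

namespace Groth.Agent.H24FMod

open H15Site.ModTensor H15Site.ModRel

section General

variable {X Y : Scheme.{u}} (f : X ⟶ Y) [IsClosedImmersion f] {V : Y.Opens} {W : X.Opens}

theorem bijective_res_of_le_le (M : X.Modules) {A B : X.Opens} (l : A ≤ B) (l' : B ≤ A) :
    Function.Bijective (M.presheaf.map (homOfLE l).op) := by
  obtain rfl : A = B := le_antisymm l l'
  rw [show (homOfLE l).op = 𝟙 (op A) from Subsingleton.elim _ _, M.presheaf.map_id]
  exact Function.bijective_id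

theorem bijective_res_ring {A B : X.Opens} (l : A ≤ B) (l' : B ≤ A) :
    Function.Bijective (X.presheaf.map (homOfLE l).op) := by
  obtain rfl : A = B := le_antisymm l l'
  rw [show (homOfLE l).op = 𝟙 (op A) from Subsingleton.elim _ _, X.presheaf.map_id]
  exact Function.bijective_id

theorem ker_appLE_of_eq (hV : IsAffineOpen V) (e : W ≤ f ⁻¹ᵁ V) (e' : f ⁻¹ᵁ V ≤ W) :
    RingHom.ker (f.appLE V W e).hom = f.ker.ideal ⟨V, hV⟩ := by
  rw [Scheme.Hom.ker_apply]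
  ext r
  rw [RingHom.mem_ker, RingHom.mem_ker]
  exact ⟨fun h => (bijective_res_ring e e').1 (h.trans (map_zero _).symm),
    fun h => (congrArg (X.presheaf.map (homOfLE e).op) h).trans (map_zero _)⟩

theorem surjective_appLE_of_eq (hV : IsAffineOpen V) (e : W ≤ f ⁻¹ᵁ V) (e' : f ⁻¹ᵁ V ≤ W) :
    Function.Surjective (f.appLE V W e) := fun r => by
  obtain ⟨z, rfl⟩ := (bijective_res_ring e e').2 r
  obtain ⟨y, rfl⟩ := f.app_surjective V hV z
  exact ⟨y, rfl⟩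

end General

variable {𝔛 : FSch.Sys.{u}} (hL : 𝔛.IsLocNoethFormal) {U : (𝔛.X 0).Opens}

theorem lvU_toX (n : ℕ) (U : (𝔛.X 0).Opens) : 𝔛.toX n ⁻¹ᵁ 𝔛.lvU hL.1 n U = U := by
  change (Opens.map ((𝔛.toX n).base ≫ 𝔛.gInv hL.1 n)).obj U = _
  rw [𝔛.toX_base_gInv hL.1 n]
  rfl

theorem isAffineOpen_lvU (hU : IsAffineOpen U) (n : ℕ) : IsAffineOpen (𝔛.lvU hL.1 n U) := by
  haveI := 𝔛.toX_isClosedImmersion hL.1 n
  haveI : IsAffine ((𝔛.toX n) ⁻¹ᵁ 𝔛.lvU hL.1 n U : (𝔛.X 0).Opens).toScheme := by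
    rw [lvU_toX hL]; exact hU
  haveI : IsClosedImmersion (𝔛.toX n ∣_ 𝔛.lvU hL.1 n U) :=
    IsZariskiLocalAtTarget.restrict (P := @IsClosedImmersion) (f := 𝔛.toX n) inferInstance _
  refine Groth.Agent.H7Lim.isAffine_of_surjective_closedImmersion (𝔛.toX n ∣_ 𝔛.lvU hL.1 n U) ?_
  haveI : Surjective (𝔛.toX n) := ⟨𝔛.toX_surjective hL.1 n⟩
  exact (IsZariskiLocalAtTarget.restrict (P := @Surjective) (f := 𝔛.toX n) inferInstance (𝔛.lvU hL.1 n U)).surj

/-- The map to the sections of the reduced level. -/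
noncomputable def tz (n : ℕ) (U : (𝔛.X 0).Opens) : Γ(𝔛.X n, 𝔛.lvU hL.1 n U) →+* Γ(𝔛.X 0, U) :=
  ((𝔛.toX n).appLE (𝔛.lvU hL.1 n U) U (lvU_toX hL n U).ge).hom

theorem tz_succ (n : ℕ) (U : (𝔛.X 0).Opens) : (tz hL n U).comp (trO hL.1 n U) = tz hL (n + 1) U :=
  congrArg CommRingCat.Hom.hom (FSch.appLE_comp_appLE_of_eq (𝔛.toX n) (𝔛.ι n) (𝔛.toX (n + 1)) rfl _ _ _ _ _ _)

theorem tz_toZero (n : ℕ) (U : (𝔛.X 0).Opens) :
    (tz hL 0 U).comp (H24Adic.toZero (R := fun k => Γ(𝔛.X k, 𝔛.lvU hL.1 k U)) (fun k => trO hL.1 k U) n) = tz hL n U := by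
  induction n with
  | zero => rfl
  | succ n ih => rw [H24Adic.toZero, ← RingHom.comp_assoc, ih, tz_succ]

theorem injective_tz_zero (U : (𝔛.X 0).Opens) : Function.Injective (tz hL 0 U) := by
  intro a b e
  exact (bijective_res_ring (X := 𝔛.X 0) (lvU_toX hL 0 U).ge (lvU_toX hL 0 U).le).1 e

theorem ker_toZero (hU : IsAffineOpen U) (n : ℕ) :
    RingHom.ker (H24Adic.toZero (R := fun k => Γ(𝔛.X k, 𝔛.lvU hL.1 k U)) (fun k => trO hL.1 k U) n) =
      (𝔛.toX n).ker.ideal ⟨_, isAffineOpen_lvU hL hU n⟩ := by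
  haveI := 𝔛.toX_isClosedImmersion hL.1 n
  rw [← ker_appLE_of_eq (𝔛.toX n) (isAffineOpen_lvU hL hU n) (lvU_toX hL n U).ge (lvU_toX hL n U).le]
  show _ = RingHom.ker (tz hL n U)
  rw [← tz_toZero hL n U, ← RingHom.comap_ker, (RingHom.injective_iff_ker_eq_bot _).1 (injective_tz_zero hL U)]
  rfl

theorem ker_trO (hU : IsAffineOpen U) (n : ℕ) :
    RingHom.ker (trO hL.1 n U) = RingHom.ker (H24Adic.toZero (R := fun k => Γ(𝔛.X k, 𝔛.lvU hL.1 k U)) (fun k => trO hL.1 k U) (n + 1)) ^ (n + 1) := by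
  haveI := (hL.1 n).1
  rw [ker_toZero hL hU, trO, ker_appLE_of_eq (𝔛.ι n) (isAffineOpen_lvU hL hU (n + 1)) _ (𝔛.lvU_succ hL.1 n U).le,
    hL.2.1 n, Scheme.IdealSheafData.ideal_pow, Pi.pow_apply]

theorem surjective_trO (hU : IsAffineOpen U) (n : ℕ) : Function.Surjective (trO hL.1 n U) := by
  haveI := (hL.1 n).1
  exact surjective_appLE_of_eq (𝔛.ι n) (isAffineOpen_lvU hL hU (n + 1)) _ (𝔛.lvU_succ hL.1 n U).le

theorem surjective_oP (hU : IsAffineOpen U) (n : ℕ) : Function.Surjective (oP hL.1 n U) := fun y => by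
  obtain ⟨x, hx⟩ := H24Adic.ringLimProj_surjective (R := fun k => Γ(𝔛.X k, 𝔛.lvU hL.1 k U)) (fun k => trO hL.1 k U) (surjective_trO hL hU) n y
  obtain ⟨r, hr⟩ := exists_oP hL.1 U x.1 x.2
  exact ⟨r, (hr n).trans hx⟩

/-- The sections of the structure sheaf over an affine open form a complete Noetherian ring. -/
theorem exists_adic (hU : IsAffineOpen U) :
    ∃ J : Ideal (OSec hL.1 U), IsNoetherianRing (OSec hL.1 U) ∧ IsAdicComplete J (OSec hL.1 U) ∧
      ∀ n, RingHom.ker (oP hL.1 n U) = J ^ (n + 1) := by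
  let f : ∀ k, Γ(𝔛.X (k + 1), 𝔛.lvU hL.1 (k + 1) U) →+* Γ(𝔛.X k, 𝔛.lvU hL.1 k U) := fun k => trO hL.1 k U
  haveI := hL.2.2
  haveI : ∀ n, IsNoetherianRing Γ(𝔛.X n, 𝔛.lvU hL.1 n U) := fun n =>
    H24GE.isNoetherianRing_sections (isAffineOpen_lvU hL hU n)
  obtain ⟨I, hN, -, hI⟩ := H24Adic.exists_adic_limit (R := fun k => Γ(𝔛.X k, 𝔛.lvU hL.1 k U)) f (surjective_trO hL hU) (ker_trO hL hU)
    (IsNoetherian.noetherian _)
  let φ : OSec hL.1 U →+* H24Adic.ringLim (R := fun k => Γ(𝔛.X k, 𝔛.lvU hL.1 k U)) f :=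
    (RingHom.pi fun n => oP hL.1 n U).codRestrict _ fun r n => trO_oP hL.1 n U r
  have hφ : Function.Bijective φ := by
    refine ⟨fun a b e => oP_ext hL.1 a b fun n => congrArg (fun z : H24Adic.ringLim (R := fun k => Γ(𝔛.X k, 𝔛.lvU hL.1 k U)) f => z.1 n) e, fun x => ?_⟩
    obtain ⟨r, hr⟩ := exists_oP hL.1 U x.1 x.2
    exact ⟨r, Subtype.ext (funext hr)⟩
  let e : OSec hL.1 U ≃+* H24Adic.ringLim (R := fun k => Γ(𝔛.X k, 𝔛.lvU hL.1 k U)) f := RingEquiv.ofBijective φ hφ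
  have hk : ∀ n, RingHom.ker (oP hL.1 n U) = (I.comap φ) ^ (n + 1) := fun n => by
    have h1 : RingHom.ker (oP hL.1 n U) = (I ^ (n + 1)).comap φ := by
      rw [← hI, RingHom.comap_ker]
      rfl
    rw [h1]
    show Ideal.comap e (I ^ (n + 1)) = Ideal.comap e I ^ (n + 1)
    rw [← Ideal.map_symm, ← Ideal.map_symm, Ideal.map_pow]
  refine ⟨I.comap φ, isNoetherianRing_of_ringEquiv _ e.symm, ?_, hk⟩
  refine { haus' := fun x hx => oP_ext hL.1 _ _ fun n => ?_, prec' := fun g hg => ?_ }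
  · have h2 := SModEq.zero.1 (hx (n + 1))
    rw [smul_eq_mul, Ideal.mul_top, ← hk, RingHom.mem_ker] at h2
    rw [h2, map_zero]
  · have hc : ∀ n m, n ≤ m → oP hL.1 n U (g (n + 1)) = oP hL.1 n U (g (m + 1)) := fun n m l => by
      have h2 := SModEq.sub_mem.1 (hg (Nat.succ_le_succ l))
      rw [smul_eq_mul, Ideal.mul_top, ← hk, RingHom.mem_ker, map_sub, sub_eq_zero] at h2
      exact h2
    obtain ⟨r, hr⟩ := exists_oP hL.1 U (fun n => oP hL.1 n U (g (n + 1))) fun n =>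
      (trO_oP hL.1 n U _).trans (hc n (n + 1) (Nat.le_succ n)).symm
    refine ⟨r, fun n => ?_⟩
    rcases n with _ | n
    · simp
    · rw [SModEq.sub_mem, smul_eq_mul, Ideal.mul_top, ← hk, RingHom.mem_ker, map_sub, hr, sub_self]

section Mod

variable (𝔐 : FSch.ModSys 𝔛)

theorem tr_toPush (hU : IsAffineOpen U) (h𝔐 : ∀ n, Coh.IsQCoh (𝔐.F n)) (n : ℕ) :
    Function.Surjective (tr hL.1 𝔐.F 𝔐.toPush n U) ∧ ∀ y, tr hL.1 𝔐.F 𝔐.toPush n U y = 0 →
      y ∈ RingHom.ker (trO hL.1 n U) • (⊤ : Submodule Γ(𝔛.X (n + 1), 𝔛.lvU hL.1 (n + 1) U)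
        Γ(𝔐.F (n + 1), 𝔛.lvU hL.1 (n + 1) U)) := by
  haveI := (hL.1 n).1
  have hV := isAffineOpen_lvU hL hU (n + 1)
  set V := 𝔛.lvU hL.1 (n + 1) U with hVdef
  let ι := 𝔛.ι n
  have hq := H17.PullSect.isQuotOn_of_isAffineOpen ι (𝔐.F (n + 1)) (h𝔐 (n + 1)) hV
  have hb := bijective_res_of_le_le (𝔐.F n) (𝔛.lvU_le hL.1 n U) (𝔛.lvU_succ hL.1 n U).le
  have ht : ∀ y, (𝔐.toPush n).app V y = (𝔐.e n).hom.app (ι ⁻¹ᵁ V) (OmegaSh.pullSect ι (𝔐.F (n + 1)) V y) := fun y => by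
    rw [FSch.ModSys.toPush, Adjunction.homEquiv_unit]
    rfl
  have he : Function.Bijective ((𝔐.e n).hom.app (ι ⁻¹ᵁ V)) :=
    ⟨H10Coh.injective_app_of_mono' (𝔐.e n).hom _, fun z => ⟨(𝔐.e n).inv.app _ z,
      congr($(congrArg (fun k => Scheme.Modules.Hom.app k (ι ⁻¹ᵁ V)) (𝔐.e n).inv_hom_id) z)⟩⟩
  refine ⟨fun z => ?_, fun y hy => ?_⟩
  · obtain ⟨z', rfl⟩ := hb.2 z
    obtain ⟨w, rfl⟩ := he.2 z'
    obtain ⟨y, rfl⟩ := hq.1 w
    exact ⟨y, congrArg ((𝔐.F n).presheaf.map (homOfLE (𝔛.lvU_le hL.1 n U)).op) (ht y)⟩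
  · have h1 : (𝔐.toPush n).app V y = 0 := hb.1 (hy.trans (map_zero _).symm)
    rw [ht] at h1
    have h2 := hq.2 y (he.1 (h1.trans (map_zero _).symm))
    rwa [trO, ker_appLE_of_eq ι hV _ (𝔛.lvU_succ hL.1 n U).le, Scheme.Hom.ker_apply]

/-- The scalars on the sections of a level. -/
@[instance_reducible]
noncomputable def lvModule (G : ∀ k, (𝔛.X k).Modules) (U : (𝔛.X 0).Opens) (n : ℕ) :
    Module (OSec hL.1 U) Γ(G n, 𝔛.lvU hL.1 n U) := Module.compHom _ (oP hL.1 n U)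

/-- The system of sections of a coherent system of modules over an affine open. -/
noncomputable def secAdic (hU : IsAffineOpen U) (h𝔐 : ∀ n, Coh.IsQCoh (𝔐.F n)) {J : Ideal (OSec hL.1 U)}
    (hJ : ∀ n, RingHom.ker (oP hL.1 n U) = J ^ (n + 1)) :
    letI := lvModule hL 𝔐.F U
    H24Adic.AdicSystem J (fun n => Γ(𝔐.F n, 𝔛.lvU hL.1 n U)) (Sec hL.1 (𝔐.realMod hL.1) U) :=
  letI := lvModule hL 𝔐.F U
  { f := fun n =>
      { toFun := tr hL.1 𝔐.F 𝔐.toPush n U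
        map_add' := map_add _
        map_smul' := fun r y => by
          show tr hL.1 𝔐.F 𝔐.toPush n U (oP hL.1 (n + 1) U r • y) = oP hL.1 n U r • _
          rw [tr_smul, trO_oP] }
    hf := fun n => (tr_toPush hL 𝔐 hU h𝔐 n).1
    hker := fun n => by
      refine le_antisymm (fun y hy => ?_) ?_
      · refine Submodule.smul_induction_on ((tr_toPush hL 𝔐 hU h𝔐 n).2 y hy)
          (fun a ha z _ => ?_) fun p q hp hq => add_mem hp hq
        obtain ⟨r, rfl⟩ := surjective_oP hL hU (n + 1) a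
        rw [RingHom.mem_ker, trO_oP] at ha
        refine Submodule.smul_mem_smul ?_ (Submodule.mem_top (x := z))
        rw [← hJ, RingHom.mem_ker]
        exact ha
      · rw [Submodule.smul_le]
        intro r hr z _
        rw [← hJ, RingHom.mem_ker] at hr
        show tr hL.1 𝔐.F 𝔐.toPush n U (oP hL.1 (n + 1) U r • z) = 0
        rw [tr_smul, trO_oP, hr, zero_smul]
    π := fun n =>
      { toFun := prS hL.1 𝔐.F 𝔐.toPush n U
        map_add' := map_add _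
        map_smul' := fun r x => prS_smul hL.1 𝔐.F 𝔐.toPush n U r x }
    hπ := fun n => LinearMap.ext fun x => tr_prS hL.1 𝔐.F 𝔐.toPush n U x
    hinj := fun x hx => prS_ext hL.1 𝔐.F 𝔐.toPush x 0 fun n => (hx n).trans (map_zero _).symm
    hlift := fun s hs => exists_prS hL.1 𝔐.F 𝔐.toPush U s hs }

theorem finite_level (hU : IsAffineOpen U) (n : ℕ) {G : ∀ k, (𝔛.X k).Modules} (hG : Coh.IsCoh (G n)) :
    @Module.Finite (OSec hL.1 U) Γ(G n, 𝔛.lvU hL.1 n U) _ _ (lvModule hL G U n) := by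
  letI := lvModule hL G U n
  haveI := hL.2.2
  obtain ⟨N, s, hs⟩ := @Module.Finite.exists_fin Γ(𝔛.X n, 𝔛.lvU hL.1 n U) _ _ _ _
    (H24GE.finite_sections' hG (isAffineOpen_lvU hL hU n))
  refine Module.Finite.of_surjective (Fintype.linearCombination (OSec hL.1 U) s) fun y => ?_
  have hy : y ∈ Submodule.span Γ(𝔛.X n, 𝔛.lvU hL.1 n U) (Set.range s) := hs ▸ Submodule.mem_top
  obtain ⟨c, rfl⟩ := (Submodule.mem_span_range_iff_exists_fun _).1 hy
  choose c' hc' using fun i => surjective_oP hL hU n (c i)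
  refine ⟨c', (Fintype.linearCombination_apply _ _ _).trans (Finset.sum_congr rfl fun i _ => ?_)⟩
  exact congrArg (· • s i) (hc' i)

end Mod

end Groth.Agent.H24FMod
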