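import Groth.Agent.H24FMod.Algebraize

/-!
# The criterion for a module on the completion along the special fibre to be algebraisable
-/

set_option autoImplicit false
set_option linter.style.haveILetI false
set_option linter.unusedSectionVars false
universe u

open CategoryTheory CategoryTheory.Limits AlgebraicGeometry TopologicalSpace Opposite

namespace Groth.Agent.H24FMod

variable (A : Type u) [CommRing A] [IsNoetherianRing A] (J : Ideal A)
  {X : Scheme.{u}} [IsLocallyNoetherian X] (f : X ⟶ Spec (CommRingCat.of A))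
  {𝓘 : X.IdealSheafData} (h𝓘 : 𝓘 = (FSch.idealSpec A J).comap f)
  (hX : (FSch.completionAlong X 𝓘).IsFormal)

/-- The points at which a module on the completion does not vanish. -/
noncomputable abbrev suppC (𝔉 : FSch.ModF (FSch.completionAlong X 𝓘) hX) : Set X :=
  suppF (H24FSch.isLocNoethFormal_completionAlong X 𝓘) (FSch.completionToX X 𝓘) 𝔉

/-- A module on the completion is the completion of a coherent module with proper support. -/
def Alg (𝔉 : FSch.ModF (FSch.completionAlong X 𝓘) hX) : Prop :=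
  ∃ G : X.Modules, Coh.IsCoh G ∧ ClSub.IsProperOver f (CohB1.support G) ∧
    Nonempty (𝔉 ≅ (FSch.complMod 𝓘 G).realMod hX)

theorem isClosedImmersion_completionToX (n : ℕ) : IsClosedImmersion (FSch.completionToX X 𝓘 n) :=
  inferInstanceAs (IsClosedImmersion (𝓘 ^ (n + 1)).subschemeι)

include h𝓘 in
theorem ker_completionToX [X.Over (Spec (CommRingCat.of A))] (hf : X ↘ Spec (CommRingCat.of A) = f) (n : ℕ) :
    (FSch.completionToX X 𝓘 n).ker = H24GE.idealOf X J ^ (n + 1) := by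
  rw [H24GE.idealOf_eq_comap, hf, ← h𝓘]
  exact Scheme.IdealSheafData.ker_subschemeι _

theorem isClosed_suppC (𝔉 : FSch.ModF (FSch.completionAlong X 𝓘) hX) : IsClosed (suppC hX 𝔉) :=
  haveI := isClosedImmersion_completionToX (𝓘 := 𝓘)
  isClosed_suppF _ _ 𝔉

include h𝓘 in
theorem Alg.mk' [IsAdicComplete J A] [IsSeparated f] [LocallyOfFiniteType f] [QuasiCompact f]
    {𝔉 : FSch.ModF (FSch.completionAlong X 𝓘) hX} (h𝔉 : FSch.IsCohF _ hX 𝔉)
    (hs : ClSub.IsProperOver f (suppC hX 𝔉)) : Alg A f hX 𝔉 := by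
  letI : X.Over (Spec (CommRingCat.of A)) := ⟨f⟩
  haveI : IsSeparated (X ↘ Spec (CommRingCat.of A)) := ‹IsSeparated f›
  haveI : LocallyOfFiniteType (X ↘ Spec (CommRingCat.of A)) := ‹LocallyOfFiniteType f›
  haveI : QuasiCompact (X ↘ Spec (CommRingCat.of A)) := ‹QuasiCompact f›
  haveI := isClosedImmersion_completionToX (𝓘 := 𝓘)
  exact exists_algebraization (H24FSch.isLocNoethFormal_completionAlong X 𝓘) (FSch.completionToX X 𝓘)
    (FSch.completionToX_comm X 𝓘) (FSch.complTransIso 𝓘) (fun _ => rfl) J (ker_completionToX A J f h𝓘 rfl) h𝔉 hs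

theorem Alg.cohProper [LocallyOfFiniteType f] {𝔉 : FSch.ModF (FSch.completionAlong X 𝓘) hX} (h : Alg A f hX 𝔉) :
    FSch.IsCohF _ hX 𝔉 ∧ ClSub.IsProperOver f (suppC hX 𝔉) := by
  haveI := isClosedImmersion_completionToX (𝓘 := 𝓘)
  obtain ⟨G, hG, hs, ⟨e⟩⟩ := h
  let hL := H24FSch.isLocNoethFormal_completionAlong X 𝓘
  let c := FSch.completionToX X 𝓘
  let T := FSch.complTransIso 𝓘
  have e' : 𝔉 ≅ (pbSys c T G).realMod hL.1 := e
  refine ⟨isCohF_of_iso e'.symm (isCohF_realMod (hL := hL) fun _ => H17.ConsProp.isCoh_pullback _ hG), ?_⟩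
  exact LeadProper.isProperOver_mono hs (isClosed_suppC hX 𝔉)
    ((suppF_subset_of_iso hL c e').trans (suppF_pbSys_subset hL c (FSch.completionToX_comm X 𝓘) T G hG))

end Groth.Agent.H24FMod

namespace Groth.Agent.H24FMod

theorem isProperOver_union' {X S : Scheme.{u}} (f : X ⟶ S) [LocallyOfFiniteType f] {Z Z' : Set X}
    (h : ClSub.IsProperOver f Z) (h' : ClSub.IsProperOver f Z') : ClSub.IsProperOver f (Z ∪ Z') := by
  rw [Set.union_eq_iUnion]
  exact LeadProper.isProperOver_iUnion f _ fun b => by cases b <;> assumption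

variable {A : Type u} [CommRing A] [IsNoetherianRing A] {J : Ideal A} [IsAdicComplete J A]
  {X : Scheme.{u}} [IsLocallyNoetherian X] {f : X ⟶ Spec (CommRingCat.of A)} [IsSeparated f] [LocallyOfFiniteType f]
  [QuasiCompact f] {𝓘 : X.IdealSheafData} (h𝓘 : 𝓘 = (FSch.idealSpec A J).comap f)
  {hX : (FSch.completionAlong X 𝓘).IsFormal} {𝔉 𝔊 : FSch.ModF (FSch.completionAlong X 𝓘) hX}

include h𝓘 in
theorem Alg.of_mono (θ : 𝔉 ⟶ 𝔊) [Mono θ] (h𝔉 : FSch.IsCohF _ hX 𝔉) (h : Alg A f hX 𝔊) : Alg A f hX 𝔉 := by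
  haveI := isClosedImmersion_completionToX (𝓘 := 𝓘)
  exact Alg.mk' A J f h𝓘 hX h𝔉 (LeadProper.isProperOver_mono (h.cohProper A f hX).2 (isClosed_suppC hX 𝔉)
    (suppF_subset_of_mono (H24FSch.isLocNoethFormal_completionAlong X 𝓘) _ θ))

include h𝓘 in
theorem Alg.of_epi (θ : 𝔉 ⟶ 𝔊) [Epi θ] (h𝔊 : FSch.IsCohF _ hX 𝔊) (h : Alg A f hX 𝔉) : Alg A f hX 𝔊 := by
  haveI := isClosedImmersion_completionToX (𝓘 := 𝓘)
  exact Alg.mk' A J f h𝓘 hX h𝔊 (LeadProper.isProperOver_mono (h.cohProper A f hX).2 (isClosed_suppC hX 𝔊)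
    (suppF_subset_of_epi (H24FSch.isLocNoethFormal_completionAlong X 𝓘) _ (h.cohProper A f hX).1 h𝔊 θ))

include h𝓘 in
theorem Alg.of_between {𝔎 : FSch.ModF (FSch.completionAlong X 𝓘) hX} (a : 𝔎 ⟶ 𝔉) (θ : 𝔉 ⟶ 𝔊)
    (hker : ∃ l : kernel θ ⟶ 𝔎, l ≫ a = kernel.ι θ) (h𝔉 : FSch.IsCohF _ hX 𝔉) (hK : Alg A f hX 𝔎)
    (hG : Alg A f hX 𝔊) : Alg A f hX 𝔉 := by
  haveI := isClosedImmersion_completionToX (𝓘 := 𝓘)
  exact Alg.mk' A J f h𝓘 hX h𝔉 (LeadProper.isProperOver_mono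
    (isProperOver_union' f (hK.cohProper A f hX).2 (hG.cohProper A f hX).2) (isClosed_suppC hX 𝔉)
    (suppF_subset_union (H24FSch.isLocNoethFormal_completionAlong X 𝓘) _ (hK.cohProper A f hX).1
      (hG.cohProper A f hX).1 a θ hker))

end Groth.Agent.H24FMod
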