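import Groth.Agent.H24FMod.ComplSec
import Groth.Agent.H24GE.PushLim
import Groth.Agent.H24GE.FlatIso

/-!
# Systems of modules on the thickenings of a closed subscheme as formal systems of modules on the scheme
-/

set_option autoImplicit false
set_option linter.style.haveILetI false
set_option linter.unusedSectionVars false
universe u

open CategoryTheory CategoryTheory.Limits AlgebraicGeometry TopologicalSpace Opposite

namespace Groth.Agent.H24FMod

open H24GE H24Formal H24Formal.HomC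

section Quot

variable {A : Type u} [CommRing A] {X : Scheme.{u}} [X.Over (Spec (CommRingCat.of A))] [IsLocallyNoetherian X]
  (I : Ideal A)

/-- A map which on affine opens is the reduction identifies the target with the truncation. -/
theorem exists_isIso_desc (hI : I.FG) (n : ℕ) {M N : X.Modules} (hM : Coh.IsCoh M) (hN : Coh.IsCoh N)
    (hk : Formal.KilledBy (I ^ (n + 1)) N) (t : M ⟶ N)
    (hs : ∀ V : X.affineOpens, Function.Surjective (t.app V.1))
    (hz : ∀ (V : X.affineOpens) (z : Γ(M, V.1)), t.app V.1 z = 0 →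
      z ∈ secIdeal I V.1 ^ (n + 1) • (⊤ : Submodule Γ(X, V.1) Γ(M, V.1))) :
    ∃ h : Formal.smulFamily (I ^ (n + 1)) M ≫ t = 0, IsIso (cokernel.desc _ t h) := by
  refine ⟨smulFamily_comp_eq_zero t hk, ?_⟩
  let d : Formal.modPow I (n + 1) M ⟶ N := cokernel.desc _ t (smulFamily_comp_eq_zero t hk)
  have hd : Formal.modPowπ I (n + 1) M ≫ d = t := cokernel.π_desc _ _ _
  show IsIso d
  have hc : Coh.IsCoh (Formal.modPow I (n + 1) M) := (isCohFormal_compl (I := I) hM).1 n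
  refine isIso_of_bijective_affine hc.1 hN.1 d (fun V z hz' => ?_) fun V y => ?_
  · obtain ⟨x, rfl⟩ := HomC.surjective_modPowπ I (n + 1) hM V.2 z
    have hx : t.app V.1 x = 0 := (comp_app_eq hd V.1 x).symm.trans hz'
    refine ((modPowπ_eq_iff hI hM V.2 (n + 1) x 0).2 ?_).trans (map_zero _)
    rw [sub_zero]
    exact hz V x hx
  · obtain ⟨x, rfl⟩ := hs V y
    exact ⟨_, comp_app_eq hd V.1 x⟩

end Quot

section Systems

variable {A : Type u} [CommRing A] {X : Scheme.{u}} [X.Over (Spec (CommRingCat.of A))]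
  {𝔛 : FSch.Sys.{u}} (c : ∀ n, 𝔛.X n ⟶ X) (hc : ∀ n, 𝔛.ι n ≫ c (n + 1) = c n)

/-- The transition maps of the direct images to the scheme. -/
noncomputable def stepMap (𝔐 : FSch.ModSys 𝔛) (n : ℕ) :
    (Scheme.Modules.pushforward (c (n + 1))).obj (𝔐.F (n + 1)) ⟶ (Scheme.Modules.pushforward (c n)).obj (𝔐.F n) :=
  (Scheme.Modules.pushforward (c (n + 1))).map (𝔐.toPush n) ≫
    ((Scheme.Modules.pushforwardComp (𝔛.ι n) (c (n + 1))).app (𝔐.F n) ≪≫
      (Scheme.Modules.pushforwardCongr (hc n)).app (𝔐.F n)).hom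

/-- The formal system on the scheme of a system of modules on the levels. -/
noncomputable def sysOf (𝔐 : FSch.ModSys 𝔛) : ℕᵒᵖ ⥤ X.Modules :=
  Functor.ofOpSequence (X := fun n => (Scheme.Modules.pushforward (c n)).obj (𝔐.F n)) (stepMap c hc 𝔐)

theorem sysOf_map_succ (𝔐 : FSch.ModSys 𝔛) (n : ℕ) :
    (sysOf c hc 𝔐).map (homOfLE (Nat.le_succ n)).op = stepMap c hc 𝔐 n :=
  Functor.ofOpSequence_map_homOfLE_succ _ n

variable [∀ n, IsClosedImmersion (c n)]

theorem exists_preimage_push (n : ℕ) {F G : (𝔛.X n).Modules}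
    (a : (Scheme.Modules.pushforward (c n)).obj F ⟶ (Scheme.Modules.pushforward (c n)).obj G) :
    ∃! φ : F ⟶ G, (Scheme.Modules.pushforward (c n)).map φ = a := by
  haveI : IsIso (Scheme.Modules.pullbackPushforwardAdjunction (c n)).counit :=
    @NatIso.isIso_of_isIso_app _ _ _ _ _ _ _ fun P => H24Hilb.Closed.isIso_counit_of_isClosedImmersion (c n) P
  let hff := (Scheme.Modules.pullbackPushforwardAdjunction (c n)).fullyFaithfulROfIsIsoCounit
  exact ⟨hff.preimage a, hff.map_preimage a, fun φ hφ => hff.map_injective (hφ.trans (hff.map_preimage a).symm)⟩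

theorem step_natural {𝔐 𝔑 : FSch.ModSys 𝔛} (φ : ∀ n, 𝔐.F n ⟶ 𝔑.F n) (n : ℕ) :
    (stepMap c hc 𝔐 n ≫ (Scheme.Modules.pushforward (c n)).map (φ n) =
      (Scheme.Modules.pushforward (c (n + 1))).map (φ (n + 1)) ≫ stepMap c hc 𝔑 n) ↔
    𝔐.toPush n ≫ (Scheme.Modules.pushforward (𝔛.ι n)).map (φ n) = φ (n + 1) ≫ 𝔑.toPush n := by
  let P := Scheme.Modules.pushforward (c (n + 1))
  let E : Scheme.Modules.pushforward (𝔛.ι n) ⋙ P ≅ Scheme.Modules.pushforward (c n) :=
    Scheme.Modules.pushforwardComp (𝔛.ι n) (c (n + 1)) ≪≫ Scheme.Modules.pushforwardCongr (hc n)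
  have h1 : stepMap c hc 𝔐 n ≫ (Scheme.Modules.pushforward (c n)).map (φ n) =
      P.map (𝔐.toPush n ≫ (Scheme.Modules.pushforward (𝔛.ι n)).map (φ n)) ≫ E.hom.app (𝔑.F n) := by
    refine (Category.assoc _ _ _).trans ((congrArg (P.map (𝔐.toPush n) ≫ ·) (E.hom.naturality (φ n)).symm).trans ?_)
    exact (Category.assoc _ _ _).symm.trans (congrArg (· ≫ E.hom.app (𝔑.F n)) (P.map_comp _ _).symm)
  have h2 : P.map (φ (n + 1)) ≫ stepMap c hc 𝔑 n = P.map (φ (n + 1) ≫ 𝔑.toPush n) ≫ E.hom.app (𝔑.F n) :=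
    (Category.assoc _ _ _).symm.trans (congrArg (· ≫ E.hom.app (𝔑.F n)) (P.map_comp _ _).symm)
  refine ⟨fun e => ?_, fun e => h1.trans ((congrArg (fun k => P.map k ≫ E.hom.app (𝔑.F n)) e).trans h2.symm)⟩
  exact (exists_preimage_push c (n + 1) _).unique ((cancel_mono (E.hom.app (𝔑.F n))).1 (h1.symm.trans (e.trans h2))) rfl

/-- Morphisms of the formal systems come from morphisms of the systems on the levels. -/
theorem exists_hom_of_sys {𝔐 𝔑 : FSch.ModSys 𝔛} (a : sysOf c hc 𝔐 ⟶ sysOf c hc 𝔑) :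
    ∃ φ : 𝔐 ⟶ 𝔑, ∀ n, (Scheme.Modules.pushforward (c n)).map (φ.app n) = a.app (op n) := by
  choose φ hφ _ using fun n => exists_preimage_push c n (a.app (op n))
  have hcomm : ∀ n, 𝔐.toPush n ≫ (Scheme.Modules.pushforward (𝔛.ι n)).map (φ n) = φ (n + 1) ≫ 𝔑.toPush n :=
    fun n => (step_natural c hc φ n).1 (by
      have h := a.naturality (homOfLE (Nat.le_succ n)).op
      rw [sysOf_map_succ, sysOf_map_succ] at h
      rw [hφ, hφ]
      exact h)
  refine ⟨⟨φ, fun n => ?_⟩, hφ⟩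
  refine ((Scheme.Modules.pullbackPushforwardAdjunction (𝔛.ι n)).homEquiv _ _).injective ?_
  rw [Adjunction.homEquiv_naturality_left, Adjunction.homEquiv_naturality_right]
  exact (hcomm n).symm

/-- Isomorphic formal systems come from isomorphic systems on the levels. -/
theorem nonempty_iso_of_sys {𝔐 𝔑 : FSch.ModSys 𝔛} (a : sysOf c hc 𝔐 ≅ sysOf c hc 𝔑) : Nonempty (𝔐 ≅ 𝔑) := by
  obtain ⟨φ, hφ⟩ := exists_hom_of_sys c hc a.hom
  obtain ⟨ψ, hψ⟩ := exists_hom_of_sys c hc a.inv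
  refine ⟨⟨φ, ψ, FSch.ModSys.Hom.ext (funext fun n => ?_), FSch.ModSys.Hom.ext (funext fun n => ?_)⟩⟩
  · refine (exists_preimage_push c n (𝟙 _)).unique ?_ (CategoryTheory.Functor.map_id _ _)
    show (Scheme.Modules.pushforward (c n)).map (φ.app n ≫ ψ.app n) = _
    refine (Functor.map_comp _ _ _).trans ?_
    rw [hφ, hψ]
    exact congr($(a.hom_inv_id).app (op n))
  · refine (exists_preimage_push c n (𝟙 _)).unique ?_ (CategoryTheory.Functor.map_id _ _)
    show (Scheme.Modules.pushforward (c n)).map (ψ.app n ≫ φ.app n) = _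
    refine (Functor.map_comp _ _ _).trans ?_
    rw [hφ, hψ]
    exact congr($(a.inv_hom_id).app (op n))

variable [IsLocallyNoetherian X] (I : Ideal A) (hk : ∀ n, (c n).ker = idealOf X I ^ (n + 1))

include hk in
theorem killedBy_sysOf (𝔐 : FSch.ModSys 𝔛) (n : ℕ) :
    Formal.KilledBy (I ^ (n + 1)) ((sysOf c hc 𝔐).obj (op n)) :=
  (killedByIdeal_iff I (n + 1) _).1 (hk n ▸ killedByIdeal_pushforward_ker (c n) (𝔐.F n))

include hk in
theorem step_isQuot (h : 𝔛.IsFormal) (𝔐 : FSch.ModSys 𝔛) (h𝔐 : 𝔐.IsCoh) (n : ℕ) (V : X.affineOpens) :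
    Function.Surjective ((stepMap c hc 𝔐 n).app V.1) ∧
    ∀ z, (stepMap c hc 𝔐 n).app V.1 z = 0 →
      z ∈ secIdeal I V.1 ^ (n + 1) •
        (⊤ : Submodule Γ(X, V.1) Γ((Scheme.Modules.pushforward (c (n + 1))).obj (𝔐.F (n + 1)), V.1)) := by
  haveI := (h n).1
  let W := c (n + 1) ⁻¹ᵁ V.1
  have hW : IsAffineOpen W := V.2.preimage _
  obtain ⟨hs, hker⟩ := H17.PullSect.isQuotOn_of_isAffineOpen (𝔛.ι n) (𝔐.F (n + 1)) (h𝔐 (n + 1)).1 hW
  let e := (𝔐.e n).hom.app (𝔛.ι n ⁻¹ᵁ W)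
  have he : Function.Bijective e := by
    refine ⟨fun a b hab => ?_, fun y => ⟨(𝔐.e n).inv.app _ y, comp_app_eq (𝔐.e n).inv_hom_id _ y⟩⟩
    exact (comp_app_eq (𝔐.e n).hom_inv_id _ a).symm.trans
      ((congrArg _ hab).trans (comp_app_eq (𝔐.e n).hom_inv_id _ b))
  have hVV : 𝔛.ι n ⁻¹ᵁ W = c n ⁻¹ᵁ V.1 := by rw [← Scheme.Hom.comp_preimage, hc]
  have hb := bijective_res_of_le_le (𝔐.F n) hVV.ge hVV.le
  have ht : ∀ z : Γ(𝔐.F (n + 1), W), (stepMap c hc 𝔐 n).app V.1 z =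
      (𝔐.F n).presheaf.map (homOfLE hVV.ge).op (e (OmegaSh.pullSect (𝔛.ι n) (𝔐.F (n + 1)) W z)) := fun z => by
    refine congrArg ((𝔐.F n).presheaf.map (homOfLE hVV.ge).op) ?_
    rw [FSch.ModSys.toPush, Adjunction.homEquiv_unit]
    rfl
  refine ⟨fun y => ?_, fun z hz => ?_⟩
  · obtain ⟨y₁, rfl⟩ := hb.2 y
    obtain ⟨y₂, rfl⟩ := he.2 y₁
    obtain ⟨z, rfl⟩ := hs y₂
    exact ⟨z, ht z⟩
  have hz' : OmegaSh.pullSect (𝔛.ι n) (𝔐.F (n + 1)) W z = 0 :=
    he.1 ((hb.1 (((ht z).symm.trans hz).trans (map_zero _).symm)).trans (map_zero _).symm)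
  refine Submodule.smul_induction_on (p := fun q : Γ(𝔐.F (n + 1), W) =>
    (show Γ((Scheme.Modules.pushforward (c (n + 1))).obj (𝔐.F (n + 1)), V.1) from q) ∈ secIdeal I V.1 ^ (n + 1) •
      (⊤ : Submodule Γ(X, V.1) Γ((Scheme.Modules.pushforward (c (n + 1))).obj (𝔐.F (n + 1)), V.1))) (hker z hz')
    (fun r hr m _ => ?_) fun a b ha hb => add_mem ha hb
  obtain ⟨s, rfl⟩ := (c (n + 1)).app_surjective V.1 V.2 r
  have hsI : s ∈ secIdeal I V.1 ^ (n + 1) := by
    rw [← secIdeal_pow, ← ideal_idealOf_pow, ← hk n, ← congrArg Scheme.Hom.ker (hc n), Scheme.Hom.ker_apply,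
      RingHom.mem_ker, Scheme.Hom.comp_app]
    exact hr
  let m' : Γ((Scheme.Modules.pushforward (c (n + 1))).obj (𝔐.F (n + 1)), V.1) := m
  exact (Submodule.smul_mem_smul hsI (trivial : m' ∈ ⊤) : s • m' ∈ _)

include hk in
/-- The formal system of a coherent system of modules on the levels is coherent. -/
theorem isCohFormal_sysOf (h : 𝔛.IsFormal) (hI : I.FG) (𝔐 : FSch.ModSys 𝔛) (h𝔐 : 𝔐.IsCoh) :
    Formal.IsCohFormal I (sysOf c hc 𝔐) := by
  have hcoh : ∀ n, Coh.IsCoh ((sysOf c hc 𝔐).obj (op n)) := fun n => H10Coh.isCoh_push_of_isFinite (c n) _ (h𝔐 n)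
  refine ⟨hcoh, killedBy_sysOf c hc I hk 𝔐, fun n => ?_⟩
  rw [sysOf_map_succ]
  exact exists_isIso_desc I hI n (hcoh (n + 1)) (hcoh n) (killedBy_sysOf c hc I hk 𝔐 n) _
    (fun V => (step_isQuot c hc I hk h 𝔐 h𝔐 n V).1) fun V => (step_isQuot c hc I hk h 𝔐 h𝔐 n V).2

variable (T : ∀ n, Scheme.Modules.pullback (c (n + 1)) ⋙ Scheme.Modules.pullback (𝔛.ι n) ≅ Scheme.Modules.pullback (c n))
  (hT : ∀ n, T n = Scheme.Modules.pullbackComp (𝔛.ι n) (c (n + 1)) ≪≫ Scheme.Modules.pullbackCongr (hc n))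

/-- The unit of a level. -/
noncomputable abbrev lvUnit (M : X.Modules) (n : ℕ) :
    M ⟶ (Scheme.Modules.pushforward (c n)).obj ((pbSys c T M).F n) :=
  (Scheme.Modules.pullbackPushforwardAdjunction (c n)).unit.app M

include hT in
theorem lvUnit_step (M : X.Modules) (n : ℕ) :
    lvUnit c T M (n + 1) ≫ stepMap c hc (pbSys c T M) n = lvUnit c T M n := by
  refine Scheme.Modules.hom_ext _ _ fun V => ?_
  ext m
  show ((pbSys c T M).F n).presheaf.map
      (homOfLE (show c n ⁻¹ᵁ V ≤ 𝔛.ι n ⁻¹ᵁ (c (n + 1) ⁻¹ᵁ V) by rw [← Scheme.Hom.comp_preimage, hc])).op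
    (((pbSys c T M).toPush n).app _ (OmegaSh.pullSect (c (n + 1)) M V m)) = OmegaSh.pullSect (c n) M V m
  refine (congrArg _ (toPush_pullSect c hc T hT M V n m)).trans ?_
  refine (map_map_eq _ _ _ _).trans ?_
  exact congr($(((pbSys c T M).F n).presheaf.map_id (op (c n ⁻¹ᵁ V))) (OmegaSh.pullSect (c n) M V m))

include hk hT in
/-- The completion of a coherent module is the formal system of its inverse images. -/
theorem exists_complIso (hI : I.FG) (M : X.Modules) (hM : Coh.IsCoh M) :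
    ∃ e : Formal.completion I M ≅ sysOf c hc (pbSys c T M), ∀ n,
      Formal.modPowπ I (n + 1) M ≫ e.hom.app (op n) = lvUnit c T M n := by
  have hcoh : ∀ n, Coh.IsCoh ((sysOf c hc (pbSys c T M)).obj (op n)) := fun n =>
    H10Coh.isCoh_push_of_isFinite (c n) _ (H17.ConsProp.isCoh_pullback _ hM)
  choose hz hiso using fun n => exists_isIso_desc I hI n hM (hcoh n) (killedBy_sysOf c hc I hk (pbSys c T M) n)
    (lvUnit c T M n) (fun V => (H17.PullSect.isQuotOn_of_isAffineOpen (c n) M hM.1 V.2).1) fun V z h0 => by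
      have h := (H17.PullSect.isQuotOn_of_isAffineOpen (c n) M hM.1 V.2).2 z h0
      rwa [← Scheme.Hom.ker_apply, hk n, ideal_idealOf_pow, secIdeal_pow] at h
  haveI := hiso
  let a : Formal.completion I M ⟶ sysOf c hc (pbSys c T M) :=
    NatTrans.ofOpSequence (fun n => cokernel.desc _ (lvUnit c T M n) (hz n)) fun n => by
      rw [completion_map_succ, sysOf_map_succ]
      refine (cancel_epi (Formal.modPowπ I (n + 1 + 1) M)).1 ?_
      refine ((Category.assoc _ _ _).symm.trans (congrArg (· ≫ cokernel.desc _ (lvUnit c T M n) (hz n))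
        (Formal.modPowπ_trans I (n + 1) M))).trans ?_
      refine (cokernel.π_desc _ _ _).trans ((lvUnit_step c hc T hT M n).symm.trans ?_)
      exact (congrArg (· ≫ stepMap c hc (pbSys c T M) n) (cokernel.π_desc _ _ (hz (n + 1))).symm).trans (Category.assoc _ _ _)
  haveI : ∀ n, IsIso (a.app n) := fun n => hiso n.unop
  haveI := NatIso.isIso_of_isIso_app a
  exact ⟨asIso a, fun n => cokernel.π_desc _ _ _⟩

end Systems

end Groth.Agent.H24FMod
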