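import Groth.Agent.H24FMod.Present
import Groth.Agent.H17.KoszSh.AffHom

/-!
# The levels of a module of a coherent system
-/

set_option autoImplicit false
set_option linter.style.haveILetI false
set_option linter.unusedSectionVars false
universe u

open CategoryTheory CategoryTheory.Limits AlgebraicGeometry TopologicalSpace Opposite

namespace Groth.Agent.H24FMod

open H15Site.ModTensor H15Site.ModRel H15Site.LocGen H15Site.LocPres

variable {𝔛 : FSch.Sys.{u}} {hL : 𝔛.IsLocNoethFormal}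

/-- Sections of a morphism of modules on a formal scheme. -/
noncomputable abbrev secMap {h : 𝔛.IsFormal} {𝔉 𝔊 : FSch.ModF 𝔛 h} (ψ : 𝔉 ⟶ 𝔊) (U : (𝔛.X 0).Opens) :
    Sec h 𝔉 U →+ Sec h 𝔊 U :=
  (ψ.val.app (op U)).hom.toAddMonoidHom

theorem hom_ext_sec {h : 𝔛.IsFormal} {𝔉 𝔊 : FSch.ModF 𝔛 h} {ψ ψ' : 𝔉 ⟶ 𝔊}
    (e : ∀ (U : (𝔛.X 0).Opens) (x : Sec h 𝔉 U), secMap ψ U x = secMap ψ' U x) : ψ = ψ' := by
  refine SheafOfModules.Hom.ext (PresheafOfModules.hom_ext fun U => ModuleCat.hom_ext (LinearMap.ext fun x => ?_))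
  exact e U.unop x

/-- Two morphisms agreeing on affine opens are equal. -/
theorem hom_ext_affine {h : 𝔛.IsFormal} {𝔉 𝔊 : FSch.ModF 𝔛 h} {ψ ψ' : 𝔉 ⟶ 𝔊}
    (e : ∀ (U : (𝔛.X 0).Opens), IsAffineOpen U → ∀ x : Sec h 𝔉 U, secMap ψ U x = secMap ψ' U x) : ψ = ψ' := by
  refine hom_ext_sec fun U x => separated_forg 𝔊 (X := op U) (affSieve U) (affSieve_mem U) _ _ fun Z g hg => ?_
  obtain ⟨A, hA, h1, h2⟩ := hg
  rw [show g.op = (homOfLE h2).op ≫ (homOfLE h1).op from Subsingleton.elim _ _]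
  have e1 := e A hA (rs _ (homOfLE h2).op x)
  have e2 := rs_app ψ.val (homOfLE h2).op x
  have e3 := rs_app ψ'.val (homOfLE h2).op x
  refine (rs_rs _ _ _ _).symm.trans (Eq.trans ?_ (rs_rs _ _ _ _))
  exact congrArg (rs _ (homOfLE h1).op) (e2.symm.trans (e1.trans e3))

/-- The open of the common space corresponding to an open of a level. -/
noncomputable abbrev pv (n : ℕ) (V : (𝔛.X n).Opens) : (𝔛.X 0).Opens := 𝔛.toX n ⁻¹ᵁ V

theorem lvU_pv (n : ℕ) (V : (𝔛.X n).Opens) : 𝔛.lvU hL.1 n (pv n V) = V := by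
  change (Opens.map (𝔛.gInv hL.1 n ≫ (𝔛.toX n).base)).obj V = V
  rw [𝔛.gInv_toX_base hL.1 n]
  rfl

theorem map_map_eq {X : Scheme.{u}} (M : X.Modules) {A B C : X.Opens} (l : B ≤ A) (l' : C ≤ B) (x : Γ(M, A)) :
    M.presheaf.map (homOfLE l').op (M.presheaf.map (homOfLE l).op x) = M.presheaf.map (homOfLE (l'.trans l)).op x :=
  (congr($(M.presheaf.map_comp (homOfLE l).op (homOfLE l').op) x)).symm

/-- The direct image from a level is full. -/
theorem exists_push_preimage {n : ℕ} {F G : (𝔛.X n).Modules}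
    (ψ : (FSch.levelMor 𝔛 hL.1 n).push.obj F ⟶ (FSch.levelMor 𝔛 hL.1 n).push.obj G) :
    ∃ φ : F ⟶ G, (FSch.levelMor 𝔛 hL.1 n).push.map φ = ψ := by
  haveI := 𝔛.toX_isClosedImmersion hL.1 n
  let a : ∀ U, Γ(F, 𝔛.lvU hL.1 n U) → Γ(G, 𝔛.lvU hL.1 n U) := fun U x => (ψ.val.app (op U)).hom x
  have anat : ∀ {U W : (𝔛.X 0).Opens} (l : W ≤ U) (x : Γ(F, 𝔛.lvU hL.1 n U)),
      a W (F.presheaf.map (homOfLE (lvU_mono hL.1 n l)).op x) =
        G.presheaf.map (homOfLE (lvU_mono hL.1 n l)).op (a U x) :=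
    fun l x => rs_app ψ.val (homOfLE l).op x
  have alin : ∀ (U : (𝔛.X 0).Opens) (s : OSec hL.1 U) (x : Γ(F, 𝔛.lvU hL.1 n U)),
      a U (oP hL.1 n U s • x) = oP hL.1 n U s • a U x := fun U s x => (ψ.val.app (op U)).hom.map_smul s x
  have aadd : ∀ (U : (𝔛.X 0).Opens) (x y : Γ(F, 𝔛.lvU hL.1 n U)), a U (x + y) = a U x + a U y :=
    fun U x y => map_add (ψ.val.app (op U)).hom x y
  have l₁ : ∀ V : (𝔛.X n).Opens, V ≤ 𝔛.lvU hL.1 n (pv n V) := fun V => (lvU_pv (hL := hL) n V).ge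
  have l₂ : ∀ V : (𝔛.X n).Opens, 𝔛.lvU hL.1 n (pv n V) ≤ V := fun V => (lvU_pv (hL := hL) n V).le
  let b : ∀ V : (𝔛.X n).affineOpens, Γ(F, V.1) →ₗ[Γ(𝔛.X n, V.1)] Γ(G, V.1) := fun V =>
    { toFun := fun x => G.presheaf.map (homOfLE (l₁ V.1)).op (a _ (F.presheaf.map (homOfLE (l₂ V.1)).op x))
      map_add' := fun x y => by rw [map_add, aadd, map_add]
      map_smul' := fun r x => by
        obtain ⟨s, hs⟩ := surjective_oP hL (V.2.preimage (𝔛.toX n)) n ((𝔛.X n).presheaf.map (homOfLE (l₂ V.1)).op r)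
        rw [Scheme.Modules.map_smul, ← hs, alin, Scheme.Modules.map_smul, hs, RingHom.id_apply]
        congr 1
        refine ((congr($((𝔛.X n).presheaf.map_comp (homOfLE (l₂ V.1)).op (homOfLE (l₁ V.1)).op) r)).symm).trans ?_
        rw [Subsingleton.elim ((homOfLE (l₂ V.1)).op ≫ (homOfLE (l₁ V.1)).op) (𝟙 _), (𝔛.X n).presheaf.map_id]
        rfl }
  have hb : ∀ (V W : (𝔛.X n).affineOpens) (l : W.1 ≤ V.1) x,
      b W (F.presheaf.map (homOfLE l).op x) = G.presheaf.map (homOfLE l).op (b V x) := fun V W l x => by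
    show G.presheaf.map _ (a _ (F.presheaf.map _ (F.presheaf.map _ x))) =
      G.presheaf.map _ (G.presheaf.map _ (a _ (F.presheaf.map _ x)))
    rw [map_map_eq, map_map_eq]
    have h := anat (show pv n W.1 ≤ pv n V.1 from fun z hz => l hz) (F.presheaf.map (homOfLE (l₂ V.1)).op x)
    rw [map_map_eq] at h
    exact (congrArg _ h).trans (map_map_eq _ _ _ _)
  obtain ⟨φ, hφ⟩ := H17.AffHom.exists_hom b hb
  refine ⟨φ, hom_ext_sec fun U x => ?_⟩
  show φ.app (𝔛.lvU hL.1 n U) x = a U x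
  refine H17.AffHom.eq_of_affine _ fun V l => ?_
  refine (congr($(φ.mapPresheaf.naturality (homOfLE l).op) x)).symm.trans ?_
  show φ.app V.1 (F.presheaf.map (homOfLE l).op x) = _
  rw [hφ]
  show G.presheaf.map _ (a _ (F.presheaf.map _ (F.presheaf.map _ x))) = _
  have hle : pv n V.1 ≤ U := fun z hz => by
    have h1 : 𝔛.toX n z ∈ 𝔛.lvU hL.1 n U := l hz
    rwa [← Scheme.Hom.mem_preimage, lvU_toX hL n U] at h1
  exact (congrArg (fun z => G.presheaf.map (homOfLE (l₁ V.1)).op (a (pv n V.1) z)) (map_map_eq _ _ _ _)).trans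
    ((congrArg _ (anat hle x)).trans (map_map_eq _ _ _ _))

variable {𝔐 : FSch.ModSys 𝔛} (h𝔐 : 𝔐.IsCoh)

include h𝔐 in
theorem epi_realProj (n : ℕ) : Epi (FSch.realProj 𝔛 hL.1 𝔐.F 𝔐.toPush n) := by
  rw [epi_iff_locSurj]
  intro V t
  refine ⟨affSieve V, affSieve_mem V, fun W g hg => ?_⟩
  obtain ⟨A, hA, h1, h2⟩ := hg
  obtain ⟨J, -, -, hJ⟩ := exists_adic hL hA
  letI := lvModule hL 𝔐.F A
  let S := secAdic hL 𝔐 hA (fun n => (h𝔐 n).1) hJ
  obtain ⟨z, hz⟩ := S.π_surjective n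
    (rs ((forg (𝔛.Osh hL.1)).obj ((FSch.levelMor 𝔛 hL.1 n).push.obj (𝔐.F n))) (homOfLE h2).op t)
  refine ⟨rs _ (homOfLE h1).op z, ?_⟩
  rw [show g.op = (homOfLE h2).op ≫ (homOfLE h1).op from Subsingleton.elim _ _]
  exact (rs_app (FSch.realProj 𝔛 hL.1 𝔐.F 𝔐.toPush n).val (homOfLE h1).op z).trans
    ((congrArg (rs _ (homOfLE h1).op) hz).trans (rs_rs _ _ _ _))

include h𝔐 in
/-- Morphisms to modules on a level factor through the projection. -/
theorem exists_factor {n : ℕ} {G : (𝔛.X n).Modules}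
    (ψ : 𝔐.realMod hL.1 ⟶ (FSch.levelMor 𝔛 hL.1 n).push.obj G) :
    ∃ φ : 𝔐.F n ⟶ G, FSch.realProj 𝔛 hL.1 𝔐.F 𝔐.toPush n ≫ (FSch.levelMor 𝔛 hL.1 n).push.map φ = ψ := by
  haveI := epi_realProj (hL := hL) h𝔐 n
  let p := FSch.realProj 𝔛 hL.1 𝔐.F 𝔐.toPush n
  have hker : kernel.ι p ≫ ψ = 0 := by
    refine hom_ext_affine fun A hA y => ?_
    let z : Sec hL.1 (𝔐.realMod hL.1) A := secMap (kernel.ι p) A y
    have hz : pm hL 𝔐 n A z = 0 :=
      congrArg (fun (q : kernel p ⟶ (FSch.levelMor 𝔛 hL.1 n).push.obj (𝔐.F n)) => (q.val.app (op A)).hom y)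
        (kernel.condition p)
    obtain ⟨J, -, hc, hJ⟩ := exists_adic hL hA
    haveI := hc
    letI := lvModule hL 𝔐.F A
    haveI := finite_level hL hA 0 (h𝔐 0)
    let S := secAdic hL 𝔐 hA (fun n => (h𝔐 n).1) hJ
    have hk : z ∈ J ^ (n + 1) • (⊤ : Submodule (OSec hL.1 A) _) :=
      S.ker_eq_of_finite n ▸ (LinearMap.mem_ker.2 hz : z ∈ LinearMap.ker (S.π n))
    show (ψ.val.app (op A)).hom z = 0
    refine Submodule.smul_induction_on (p := fun (w : Sec hL.1 (𝔐.realMod hL.1) A) => (ψ.val.app (op A)).hom w = 0) hk (fun r hr w _ => ?_)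
      fun w w' hw hw' => ?_
    · refine ((ψ.val.app (op A)).hom.map_smul r w).trans ?_
      let m : Γ(G, 𝔛.lvU hL.1 n A) := (ψ.val.app (op A)).hom w
      show oP hL.1 n A r • m = 0
      rw [← hJ, RingHom.mem_ker] at hr
      rw [hr, zero_smul]
    · exact ((ψ.val.app (op A)).hom.map_add w w').trans (by erw [hw, hw', add_zero])
  obtain ⟨φ, hφ⟩ := exists_push_preimage (hL := hL) (Abelian.epiDesc p ψ hker)
  refine ⟨φ, ?_⟩
  rw [hφ]
  exact Abelian.comp_epiDesc p ψ hker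

theorem push_map_injective {n : ℕ} {F G : (𝔛.X n).Modules} {f g : F ⟶ G}
    (e : (FSch.levelMor 𝔛 hL.1 n).push.map f = (FSch.levelMor 𝔛 hL.1 n).push.map g) : f = g := by
  refine H17.AffHom.hom_ext fun V x => ?_
  have h2 := congrArg (fun (q : (FSch.levelMor 𝔛 hL.1 n).push.obj F ⟶ (FSch.levelMor 𝔛 hL.1 n).push.obj G) =>
    (q.val.app (op (pv n V.1))).hom (F.presheaf.map (homOfLE (lvU_pv (hL := hL) n V.1).le).op x)) e
  change f.app _ (F.presheaf.map _ x) = g.app _ (F.presheaf.map _ x) at h2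
  have h3 : ∀ k : F ⟶ G, k.app _ (F.presheaf.map (homOfLE (lvU_pv (hL := hL) n V.1).le).op x) =
      G.presheaf.map (homOfLE (lvU_pv (hL := hL) n V.1).le).op (k.app V.1 x) :=
    fun k => congr($(k.mapPresheaf.naturality (homOfLE (lvU_pv (hL := hL) n V.1).le).op) x)
  exact (bijective_res_of_le_le G (lvU_pv (hL := hL) n V.1).le (lvU_pv (hL := hL) n V.1).ge).1
    ((h3 f).symm.trans (h2.trans (h3 g)))

include h𝔐 in
/-- Morphisms into modules on a level are the morphisms of the level. -/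
theorem bijective_realProj (n : ℕ) (G : (𝔛.X n).Modules) :
    Function.Bijective (fun φ : 𝔐.F n ⟶ G =>
      FSch.realProj 𝔛 hL.1 𝔐.F 𝔐.toPush n ≫ (FSch.levelMor 𝔛 hL.1 n).push.map φ) := by
  haveI := epi_realProj (hL := hL) h𝔐 n
  exact ⟨fun f g e => push_map_injective (hL := hL) ((cancel_epi _).1 e), fun ψ => exists_factor (hL := hL) h𝔐 ψ⟩

include h𝔐 in
/-- The inverse image of the module of a system to a level is the level. -/
theorem isIso_pull_to_level (n : ℕ) :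
    IsIso (((FSch.levelMor 𝔛 hL.1 n).adj.homEquiv _ _).symm (FSch.realProj 𝔛 hL.1 𝔐.F 𝔐.toPush n)) := by
  let u := FSch.levelMor 𝔛 hL.1 n
  let p := FSch.realProj 𝔛 hL.1 𝔐.F 𝔐.toPush n
  let c := (u.adj.homEquiv _ _).symm p
  have hc : ∀ (G : (𝔛.X n).Modules) (f : 𝔐.F n ⟶ G), u.adj.homEquiv _ _ (c ≫ f) = p ≫ u.push.map f :=
    fun G f => (Adjunction.homEquiv_naturality_right _ _ _).trans
      (congrArg (· ≫ _) (Equiv.apply_symm_apply _ _))
  obtain ⟨d, hd⟩ := (bijective_realProj (hL := hL) h𝔐 n (u.pull.obj (𝔐.realMod hL.1))).2 (u.adj.homEquiv _ _ (𝟙 _))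
  have h1 : c ≫ d = 𝟙 _ := (u.adj.homEquiv _ _).injective ((hc _ d).trans hd)
  refine ⟨d, h1, (bijective_realProj (hL := hL) h𝔐 n _).1 ?_⟩
  show p ≫ u.push.map (d ≫ c) = p ≫ u.push.map (𝟙 _)
  refine (hc _ (d ≫ c)).symm.trans ((congrArg _ ?_).trans (hc _ (𝟙 _)))
  exact ((Category.assoc _ _ _).symm.trans (congrArg (· ≫ c) h1)).trans ((Category.id_comp c).trans (Category.comp_id c).symm)

include h𝔐 in
/-- Morphisms of coherent systems are the morphisms of their modules. -/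
theorem bijective_realModMap (𝔑 : FSch.ModSys 𝔛) :
    Function.Bijective (fun φ : 𝔐 ⟶ 𝔑 => FSch.ModSys.realModMap hL.1 φ) := by
  have hp : ∀ (φ : 𝔐 ⟶ 𝔑) (k : ℕ), FSch.ModSys.realModMap hL.1 φ ≫ FSch.realProj 𝔛 hL.1 𝔑.F 𝔑.toPush k =
      FSch.realProj 𝔛 hL.1 𝔐.F 𝔐.toPush k ≫ (FSch.levelMor 𝔛 hL.1 k).push.map (φ.app k) :=
    fun φ k => FSch.realLimMap_realProj 𝔛 hL.1 φ.app (FSch.ModSys.Hom.toPush_comm φ) k
  refine ⟨fun φ ψ e => FSch.ModSys.Hom.ext (funext fun k => (bijective_realProj (hL := hL) h𝔐 k _).1 ?_), fun ψ => ?_⟩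
  · exact ((hp φ k).symm.trans (congrArg (· ≫ FSch.realProj 𝔛 hL.1 𝔑.F 𝔑.toPush k) e)).trans (hp ψ k)
  choose f hf using fun k => (bijective_realProj (hL := hL) h𝔐 k (𝔑.F k)).2 (ψ ≫ FSch.realProj 𝔛 hL.1 𝔑.F 𝔑.toPush k)
  have hcomm : ∀ k, 𝔐.toPush k ≫ (Scheme.Modules.pushforward (𝔛.ι k)).map (f k) = f (k + 1) ≫ 𝔑.toPush k := fun k => by
    let U₁ := (FSch.levelMor 𝔛 hL.1 (k + 1)).push
    let U₀ := (FSch.levelMor 𝔛 hL.1 k).push
    let cmp := FSch.pushCompare 𝔛 hL.1 k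
    haveI := epi_realProj (hL := hL) h𝔐 (k + 1)
    have hmono : IsIso (cmp.app (𝔑.F k)) :=
      ⟨(FSch.pushCompareInv 𝔛 hL.1 k).app (𝔑.F k), FSch.pushCompare_pushCompareInv 𝔛 hL.1 k _,
        FSch.pushCompareInv_pushCompare 𝔛 hL.1 k _⟩
    haveI := hmono
    refine push_map_injective (hL := hL) ((cancel_epi (FSch.realProj 𝔛 hL.1 𝔐.F 𝔐.toPush (k + 1))).1
      ((cancel_mono (cmp.app (𝔑.F k))).1 ?_))
    have nat : U₁.map ((Scheme.Modules.pushforward (𝔛.ι k)).map (f k)) ≫ cmp.app (𝔑.F k) =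
        cmp.app (𝔐.F k) ≫ U₀.map (f k) := cmp.naturality (f k)
    have hA : FSch.realProj 𝔛 hL.1 𝔐.F 𝔐.toPush (k + 1) ≫ (U₁.map (𝔐.toPush k) ≫ cmp.app (𝔐.F k)) =
        FSch.realProj 𝔛 hL.1 𝔐.F 𝔐.toPush k := FSch.realProj_map 𝔛 hL.1 𝔐.F 𝔐.toPush k
    have hB : FSch.realProj 𝔛 hL.1 𝔑.F 𝔑.toPush (k + 1) ≫ (U₁.map (𝔑.toPush k) ≫ cmp.app (𝔑.F k)) =
        FSch.realProj 𝔛 hL.1 𝔑.F 𝔑.toPush k := FSch.realProj_map 𝔛 hL.1 𝔑.F 𝔑.toPush k
    refine Eq.trans ?_ ((hf k).trans ?_)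
    · refine Eq.trans ?_ ((congrArg (· ≫ U₀.map (f k)) hA))
      refine (Category.assoc _ _ _).trans ?_
      refine Eq.trans ?_ (Category.assoc _ _ _).symm
      refine congrArg (FSch.realProj 𝔛 hL.1 𝔐.F 𝔐.toPush (k + 1) ≫ ·) ?_
      refine (congrArg (· ≫ cmp.app (𝔑.F k)) (U₁.map_comp (𝔐.toPush k) _)).trans ?_
      exact (Category.assoc _ _ _).trans ((congrArg (U₁.map (𝔐.toPush k) ≫ ·) nat).trans (Category.assoc _ _ _).symm)
    · refine (congrArg (ψ ≫ ·) hB.symm).trans ((Category.assoc _ _ _).symm.trans ?_)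
      refine (congrArg (· ≫ _) (hf (k + 1)).symm).trans ?_
      refine (Category.assoc _ _ _).trans (Eq.trans ?_ (Category.assoc _ _ _).symm)
      refine congrArg (FSch.realProj 𝔛 hL.1 𝔐.F 𝔐.toPush (k + 1) ≫ ·) ?_
      refine Eq.trans ?_ (congrArg (· ≫ cmp.app (𝔑.F k)) (U₁.map_comp (f (k + 1)) (𝔑.toPush k))).symm
      exact (Category.assoc _ _ _).symm
  refine ⟨⟨f, fun k => ?_⟩, ?_⟩
  · refine ((Scheme.Modules.pullbackPushforwardAdjunction (𝔛.ι k)).homEquiv _ _).injective ?_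
    rw [Adjunction.homEquiv_naturality_left, Adjunction.homEquiv_naturality_right]
    exact (hcomm k).symm
  · exact limit.hom_ext fun ⟨k⟩ => (hp ⟨f, _⟩ k).trans (hf k)

end Groth.Agent.H24FMod
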