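import Groth.Agent.H24FMod.Affine
import Groth.Agent.H24Flat.Complete
import Groth.Agent.H29Blow.Basic

/-!
# Restriction of sections of the structure sheaf of a formal scheme between affine opens is flat
-/

set_option autoImplicit false
set_option linter.style.haveILetI false
set_option linter.unusedSectionVars false
universe u

open CategoryTheory CategoryTheory.Limits AlgebraicGeometry TopologicalSpace Opposite TensorProduct

namespace Groth.Agent.H24FMod

open H15Site.ModTensor H15Site.ModRel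

variable {𝔛 : FSch.Sys.{u}} (hL : 𝔛.IsLocNoethFormal) {U W : (𝔛.X 0).Opens}

/-- Restriction of sections of the structure sheaf. -/
noncomputable abbrev rsO (l : W ⟶ U) : OSec hL.1 U →+* OSec hL.1 W := ((𝔛.Osh hL.1).obj.map l.op).hom

/-- The ideals of definition over smaller affine opens are generated by restriction. -/
theorem map_ideal_def (hU : IsAffineOpen U) (hW : IsAffineOpen W) (l : W ⟶ U) {J : Ideal (OSec hL.1 U)}
    {J' : Ideal (OSec hL.1 W)} (hJ : ∀ n, RingHom.ker (oP hL.1 n U) = J ^ (n + 1))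
    (hc : IsNoetherianRing (OSec hL.1 W) ∧ IsAdicComplete J' (OSec hL.1 W))
    (hJ' : ∀ n, RingHom.ker (oP hL.1 n W) = J' ^ (n + 1)) : J.map (rsO hL l) = J' := by
  haveI := hc.1
  haveI := hc.2
  have hJ0 : RingHom.ker (oP hL.1 0 U) = J := by rw [hJ, zero_add, pow_one]
  have hJ0' : RingHom.ker (oP hL.1 0 W) = J' := by rw [hJ', zero_add, pow_one]
  have hle : J.map (rsO hL l) ≤ J' := by
    rw [Ideal.map_le_iff_le_comap, ← hJ0, ← hJ0']
    intro r hr
    rw [RingHom.mem_ker] at hr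
    rw [Ideal.mem_comap, RingHom.mem_ker]
    exact (oP_res hL.1 0 l r).trans ((congrArg _ hr).trans (map_zero _))
  refine le_antisymm hle (Submodule.le_of_le_smul_of_le_jacobson_bot (IsNoetherian.noetherian _)
    (IsAdicComplete.le_jacobson_bot J') fun z hz => ?_)
  haveI := (hL.1 0).1
  have hV := isAffineOpen_lvU hL hU 1
  have hV' := isAffineOpen_lvU hL hW 1
  have hle1 := lvU_mono hL.1 1 (leOfHom l)
  let res := ((𝔛.X 1).presheaf.map (homOfLE hle1).op).hom
  have hk : ∀ {A : (𝔛.X 0).Opens} (hA : IsAffineOpen A),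
      RingHom.ker (trO hL.1 0 A) = (𝔛.ι 0).ker.ideal ⟨_, isAffineOpen_lvU hL hA 1⟩ := fun {A} hA =>
    ker_appLE_of_eq (𝔛.ι 0) (isAffineOpen_lvU hL hA 1) _ (𝔛.lvU_succ hL.1 0 A).le
  have hmap : RingHom.ker (trO hL.1 0 W) = (RingHom.ker (trO hL.1 0 U)).map res := by
    rw [hk hW, hk hU]
    exact ((𝔛.ι 0).ker.map_ideal (U := ⟨_, hV'⟩) (V := ⟨_, hV⟩) hle1).symm
  have h1 : oP hL.1 1 W z ∈ RingHom.ker (trO hL.1 0 W) := by
    rw [RingHom.mem_ker, trO_oP]
    rwa [← hJ0', RingHom.mem_ker] at hz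
  have h2 : RingHom.ker (trO hL.1 0 U) = J.map (oP hL.1 1 U) := by
    refine le_antisymm (fun r hr => ?_) (Ideal.map_le_iff_le_comap.2 fun r hr => ?_)
    · obtain ⟨r, rfl⟩ := surjective_oP hL hU 1 r
      refine Ideal.mem_map_of_mem _ ?_
      rwa [← hJ0, RingHom.mem_ker, ← trO_oP, ← RingHom.mem_ker]
    · rw [Ideal.mem_comap, RingHom.mem_ker, trO_oP, ← RingHom.mem_ker, hJ0]
      exact hr
  have h3 : (J.map (oP hL.1 1 U)).map res = (J.map (rsO hL l)).map (oP hL.1 1 W) := by
    rw [Ideal.map_map, Ideal.map_map]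
    congr 1
    exact RingHom.ext fun r => (oP_res hL.1 1 l r).symm
  rw [hmap, h2, h3, Ideal.mem_map_iff_of_surjective _ (surjective_oP hL hW 1)] at h1
  obtain ⟨y, hy, hyz⟩ := h1
  refine Submodule.mem_sup.2 ⟨y, hy, z - y, ?_, add_sub_cancel _ _⟩
  rw [smul_eq_mul, ← pow_two, ← hJ' 1, RingHom.mem_ker, map_sub, hyz, sub_self]

/-- Restriction between affine opens is flat. -/
theorem flat_rsO (hU : IsAffineOpen U) (hW : IsAffineOpen W) (l : W ⟶ U) : (rsO hL l).Flat := by
  obtain ⟨J, hN, hc, hJ⟩ := exists_adic hL hU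
  obtain ⟨J', hN', hc', hJ'⟩ := exists_adic hL hW
  haveI := hN
  haveI := hN'
  haveI := hc'
  have hmap := map_ideal_def hL hU hW l hJ ⟨hN', hc'⟩ hJ'
  letI : Algebra (OSec hL.1 U) (OSec hL.1 W) := (rsO hL l).toAlgebra
  change Module.Flat (OSec hL.1 U) (OSec hL.1 W)
  refine H24Flat.flat_of_flat_quotient_pow (S := OSec hL.1 W) J
    (le_trans (le_of_eq hmap) (IsAdicComplete.le_jacobson_bot _)) fun n => ?_
  cases n with
  | zero =>
    haveI : Subsingleton (OSec hL.1 U ⧸ J ^ 0) := Ideal.Quotient.subsingleton_iff.2 (by simp)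
    infer_instance
  | succ n =>
    let B := OSec hL.1 U ⧸ J ^ (n + 1)
    let Sn := Γ(𝔛.X n, 𝔛.lvU hL.1 n W)
    let res := ((𝔛.X n).presheaf.map (homOfLE (lvU_mono hL.1 n (leOfHom l))).op).hom
    let e : B ≃+* Γ(𝔛.X n, 𝔛.lvU hL.1 n U) :=
      (Ideal.quotEquivOfEq (hJ n).symm).trans (RingHom.quotientKerEquivOfSurjective (surjective_oP hL hU n))
    letI : Algebra B Sn := (res.comp e.toRingHom).toAlgebra
    haveI : Module.Flat B Sn := (RingHom.Flat.of_bijective e.bijective).comp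
      (H29Blow.flat_res ⟨_, isAffineOpen_lvU hL hU n⟩ ⟨_, isAffineOpen_lvU hL hW n⟩ (lvU_mono hL.1 n (leOfHom l)))
    letI : Algebra (OSec hL.1 U) Sn := ((oP hL.1 n W).comp (rsO hL l)).toAlgebra
    have he : ∀ r : OSec hL.1 U, res (e (Ideal.Quotient.mk _ r)) = oP hL.1 n W (rsO hL l r) :=
      fun r => (oP_res hL.1 n l r).symm
    haveI : IsScalarTower (OSec hL.1 U) B Sn := IsScalarTower.of_algebraMap_eq fun r => (he r).symm
    let ψ : OSec hL.1 W →ₗ[OSec hL.1 U] Sn :=
      { toFun := oP hL.1 n W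
        map_add' := map_add _
        map_smul' := fun r x => by
          show oP hL.1 n W (rsO hL l r * x) = oP hL.1 n W (rsO hL l r) * oP hL.1 n W x
          rw [map_mul] }
    let Φ : B ⊗[OSec hL.1 U] OSec hL.1 W →ₗ[B] Sn :=
      LinearMap.liftBaseChange B ψ
    have hsurj : Function.Surjective (TensorProduct.mk (OSec hL.1 U) B (OSec hL.1 W) 1) :=
      TensorProduct.mk_surjective _ _ _ Ideal.Quotient.mk_surjective
    have hΦ : ∀ x, Φ (1 ⊗ₜ x) = oP hL.1 n W x := fun x => by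
      simp [Φ, ψ]
    have hbij : Function.Bijective Φ := by
      refine ⟨(injective_iff_map_eq_zero _).2 fun t ht => ?_, fun y => ?_⟩
      · obtain ⟨x, rfl⟩ := hsurj t
        rw [TensorProduct.mk_apply, hΦ] at ht
        have hx : x ∈ (J ^ (n + 1)).map (algebraMap (OSec hL.1 U) (OSec hL.1 W)) := by
          rw [Ideal.map_pow]
          rw [← RingHom.mem_ker, hJ', ← hmap] at ht
          exact ht
        rw [← Submodule.restrictScalars_mem (OSec hL.1 U), ← Ideal.smul_top_eq_map] at hx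
        refine Submodule.smul_induction_on (p := fun w => TensorProduct.mk (OSec hL.1 U) B (OSec hL.1 W) 1 w = 0) hx
          (fun r hr w _ => ?_) fun w w' h h' => by rw [map_add, h, h', add_zero]
        rw [map_smul, TensorProduct.mk_apply, TensorProduct.smul_tmul', Algebra.smul_def, mul_one]
        show (Ideal.Quotient.mk (J ^ (n + 1)) r) ⊗ₜ[OSec hL.1 U] w = 0
        rw [Ideal.Quotient.eq_zero_iff_mem.2 hr, TensorProduct.zero_tmul]
      · obtain ⟨x, rfl⟩ := surjective_oP hL hW n y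
        exact ⟨1 ⊗ₜ x, hΦ x⟩
    exact Module.Flat.of_linearEquiv (LinearEquiv.ofBijective Φ hbij)

end Groth.Agent.H24FMod
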