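import Groth.Agent.H24FMod.Coh
import Groth.Agent.H24FMod.FlatRes

/-!
# Kernels of morphisms of coherent modules on a formal scheme
-/

set_option autoImplicit false
set_option linter.style.haveILetI false
set_option linter.unusedSectionVars false
universe u

open CategoryTheory CategoryTheory.Limits AlgebraicGeometry TopologicalSpace Opposite TensorProduct

namespace Groth.Agent.H24FMod

open H15Site.ModTensor H15Site.ModRel H15Site.LocGen H15Site.LocPres

section Alg

variable {R S M N : Type u} [CommRing R] [CommRing S] [Algebra R S] [Module.Flat R S] [AddCommGroup M]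
  [Module R M] [AddCommGroup N] [Module R N]

/-- After a flat base change a kernel is generated by its generators. -/
theorem flat_ker_comb (θ : M →ₗ[R] N) {J : Type u} [Fintype J] (k : J → M) (hk0 : ∀ j, θ (k j) = 0)
    (hk : ∀ m, θ m = 0 → ∃ c : J → R, m = ∑ j, c j • k j) (t : S ⊗[R] M)
    (ht : LinearMap.lTensor S θ t = 0) : ∃ c : J → S, t = ∑ j, c j ⊗ₜ[R] k j := by
  classical
  let p : (J → R) →ₗ[R] M := Fintype.linearCombination R k
  have hex : Function.Exact p θ := fun m => by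
    refine ⟨fun hm => ?_, ?_⟩
    · obtain ⟨c, rfl⟩ := hk m hm
      exact ⟨c, Fintype.linearCombination_apply _ _ _⟩
    · rintro ⟨c, rfl⟩
      simp [p, Fintype.linearCombination_apply, map_sum, hk0]
  obtain ⟨s, rfl⟩ := (Module.Flat.lTensor_exact S hex t).1 ht
  induction s using TensorProduct.induction_on with
  | zero => exact ⟨0, by simp⟩
  | tmul a c =>
    refine ⟨fun j => c j • a, ?_⟩
    rw [LinearMap.lTensor_tmul, Fintype.linearCombination_apply, TensorProduct.tmul_sum]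
    exact Finset.sum_congr rfl fun j _ => by rw [TensorProduct.tmul_smul, TensorProduct.smul_tmul']
  | add a b ha hb =>
    rw [map_add] at ht
    obtain ⟨c, hc⟩ : ∃ c : J → S, LinearMap.lTensor S p a = ∑ j, c j ⊗ₜ[R] k j := ha (by
      rw [← LinearMap.comp_apply, ← LinearMap.lTensor_comp, hex.linearMap_comp_eq_zero, LinearMap.lTensor_zero]
      rfl)
    obtain ⟨d, hd⟩ : ∃ d : J → S, LinearMap.lTensor S p b = ∑ j, d j ⊗ₜ[R] k j := hb (by
      rw [← LinearMap.comp_apply, ← LinearMap.lTensor_comp, hex.linearMap_comp_eq_zero, LinearMap.lTensor_zero]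
      rfl)
    exact ⟨c + d, by simp [hc, hd, TensorProduct.add_tmul, Finset.sum_add_distrib]⟩

/-- After a flat base change complete relations stay complete. -/
theorem flat_rel_comb {I L : Type u} [Fintype I] [Fintype L] (x : I → M) (r : L → I → R)
    (hr0 : ∀ l, ∑ i, r l i • x i = 0)
    (hr : ∀ c : I → R, ∑ i, c i • x i = 0 → ∃ d : L → R, ∀ i, c i = ∑ l, d l * r l i)
    (c : I → S) (hc : ∑ i, c i ⊗ₜ[R] x i = 0) : ∃ d : L → S, ∀ i, c i = ∑ l, d l * algebraMap R S (r l i) := by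
  classical
  let θ : (I → R) →ₗ[R] M := Fintype.linearCombination R x
  obtain ⟨d, hd⟩ := flat_ker_comb (S := S) θ r (fun l => (Fintype.linearCombination_apply _ _ _).trans (hr0 l))
    (fun m hm => by
      obtain ⟨d, hd⟩ := hr m ((Fintype.linearCombination_apply _ _ _).symm.trans hm)
      exact ⟨d, funext fun i => by simp [hd i]⟩)
    (∑ i, c i ⊗ₜ[R] Pi.single i (1 : R)) (by
      simpa [θ, map_sum, Fintype.linearCombination_apply_single] using hc)
  refine ⟨d, fun i => ?_⟩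
  have h := congrArg (fun t => TensorProduct.rid R S (LinearMap.lTensor S (LinearMap.proj (R := R) (φ := fun _ : I => R) i) t)) hd
  simpa [map_sum, Pi.single_apply, Algebra.smul_def, mul_comm] using h

end Alg

section Site

set_option backward.isDefEq.respectTransparency false

variable {C : Type u} [SmallCategory C] {J : GrothendieckTopology C} {O : Sheaf J CommRingCat.{u}}

/-- A section killed by a morphism comes from its kernel. -/
theorem exists_kerSec {M N : ModSite.Mod O} (f : M ⟶ N) {W : Cᵒᵖ} (z : ((forg O).obj M).obj W)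
    (hz : (f.val.app W).hom z = 0) : ∃ y : ((forg O).obj (kernel f)).obj W, ((kernel.ι f).val.app W).hom y = z := by
  let E := SheafOfModules.forget (ModSite.ringSh O) ⋙ PresheafOfModules.evaluation _ W
  let S := ShortComplex.mk (kernel.ι f) f (kernel.condition f)
  have hS : S.Exact := ShortComplex.exact_kernel f
  have : PreservesLimit (parallelPair S.g 0) E := inferInstance
  have h := hS.map_of_mono_of_preservesKernel E (inferInstanceAs (Mono (kernel.ι f))) this
  exact (ShortComplex.moduleCat_exact_iff _).1 h z hz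

end Site

variable {𝔛 : FSch.Sys.{u}} (hL : 𝔛.IsLocNoethFormal) {𝔉 𝔊 : FSch.ModF 𝔛 hL.1} {A W : (𝔛.X 0).Opens}

/-- Restriction of sections. -/
noncomputable abbrev rsF (𝔉 : FSch.ModF 𝔛 hL.1) (l : W ⟶ A) (x : Sec hL.1 𝔉 A) : Sec hL.1 𝔉 W :=
  rs ((forg (𝔛.Osh hL.1)).obj 𝔉) l.op x

variable (h𝔉 : FSch.IsCohF 𝔛 hL.1 𝔉) (h𝔊 : FSch.IsCohF 𝔛 hL.1 𝔊)

include h𝔉 in
/-- Sections of a coherent module over an affine open have finite presentations restricting to
smaller affine opens. -/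
theorem exists_secPres (hA : IsAffineOpen A) : ∃ (I K : Type u) (_ : Fintype I) (_ : Fintype K)
    (x : I → Sec hL.1 𝔉 A) (r : K → I → OSec hL.1 A), (∀ k, ∑ i, r k i • x i = 0) ∧
      ∀ (W : (𝔛.X 0).Opens) (l : W ⟶ A), IsAffineOpen W →
        (∀ y : Sec hL.1 𝔉 W, ∃ c : I → OSec hL.1 W, y = ∑ i, c i • rsF hL 𝔉 l (x i)) ∧
        ∀ c : I → OSec hL.1 W, ∑ i, c i • rsF hL 𝔉 l (x i) = 0 →
          ∃ d : K → OSec hL.1 W, ∀ i, c i = ∑ k, d k * rsO hL l (r k i) := by
  haveI := isIso_toReal hL h𝔉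
  let e := asIso (toReal hL 𝔉)
  obtain ⟨I, K, hI, hK, x, r, hP⟩ := exists_pres (hL := hL) (isCoh_pullSys hL h𝔉) hA
  let x' : I → Sec hL.1 𝔉 A := fun i => secMap e.inv A (x i)
  have hinv : ∀ {V : (𝔛.X 0).Opens} (y : Sec hL.1 ((pullSys hL 𝔉).realMod hL.1) V),
      secMap (toReal hL 𝔉) V (secMap e.inv V y) = y := fun {V} y =>
    congrArg (fun (q : (pullSys hL 𝔉).realMod hL.1 ⟶ (pullSys hL 𝔉).realMod hL.1) => (q.val.app (op V)).hom y)
      e.inv_hom_id
  have hinv' : ∀ {V : (𝔛.X 0).Opens} (y : Sec hL.1 𝔉 V),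
      secMap e.inv V (secMap (toReal hL 𝔉) V y) = y := fun {V} y =>
    congrArg (fun (q : 𝔉 ⟶ 𝔉) => (q.val.app (op V)).hom y) e.hom_inv_id
  refine ⟨I, K, hI, hK, x', r, fun k => ?_, fun W l hW => ?_⟩
  · exact (app_sum_smul e.inv _ _ _).symm.trans ((congrArg _ (hP.zero k)).trans (map_zero _))
  · have hW' := hP.restrict (isCoh_pullSys hL h𝔉) hA hW l
    have hres : ∀ i, rsF hL 𝔉 l (x' i) = secMap e.inv W (res hL (pullSys hL 𝔉) l (x i)) := fun i =>
      (rs_app e.inv.val l.op (x i)).symm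
    refine ⟨fun y => ?_, fun c hc => ?_⟩
    · obtain ⟨c, hc⟩ := hW'.gen (secMap (toReal hL 𝔉) W y)
      refine ⟨c, (hinv' y).symm.trans ?_⟩
      rw [hc]
      refine (app_sum_smul e.inv _ _ _).trans (Finset.sum_congr rfl fun i _ => ?_)
      exact congrArg (c i • ·) (hres i).symm
    · refine hW'.complete c ?_
      refine Eq.trans (Finset.sum_congr rfl fun i _ => ?_)
        ((app_sum_smul (toReal hL 𝔉) _ _ _).symm.trans ((congrArg _ hc).trans (map_zero _)))
      rw [hres]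
      exact congrArg (c i • ·) (hinv _).symm

/-- The base change map of sections. -/
noncomputable def bcMap (𝔉 : FSch.ModF 𝔛 hL.1) (l : W ⟶ A) :
    letI := (rsO hL l).toAlgebra
    OSec hL.1 W ⊗[OSec hL.1 A] Sec hL.1 𝔉 A →+ Sec hL.1 𝔉 W :=
  letI := (rsO hL l).toAlgebra
  TensorProduct.liftAddHom
    (AddMonoidHom.mk' (fun a => AddMonoidHom.mk' (fun x => a • rsF hL 𝔉 l x)
      (fun x y => by rw [rsF, rs_add, smul_add]))
      fun a b => by ext x; exact add_smul a b _)
    fun r a x => by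
      show (rsO hL l r * a) • rsF hL 𝔉 l x = a • rsF hL 𝔉 l (r • x)
      refine Eq.trans ?_ (congrArg (a • ·) (rs_smul' _ l.op r x).symm)
      exact (congrArg (· • rs _ l.op x) (mul_comm _ a)).trans (smul_smul _ _ _).symm

theorem bcMap_tmul (l : W ⟶ A) (a : OSec hL.1 W) (x : Sec hL.1 𝔉 A) :
    letI := (rsO hL l).toAlgebra
    bcMap hL 𝔉 l (a ⊗ₜ x) = a • rsF hL 𝔉 l x := rfl

include h𝔉 in
/-- Sections of a coherent module over a smaller affine open are the base change. -/
theorem bijective_bcMap (hA : IsAffineOpen A) (hW : IsAffineOpen W) (l : W ⟶ A) :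
    letI := (rsO hL l).toAlgebra
    Function.Bijective (bcMap hL 𝔉 l) := by
  letI := (rsO hL l).toAlgebra
  obtain ⟨I, K, hI, hK, x, r, hr0, hP⟩ := exists_secPres hL h𝔉 hA
  obtain ⟨hgen, hcomp⟩ := hP W l hW
  obtain ⟨hgenA, -⟩ := hP A (𝟙 A) hA
  refine ⟨(injective_iff_map_eq_zero _).2 fun t ht => ?_, fun y => ?_⟩
  · have hspan : ∀ t : OSec hL.1 W ⊗[OSec hL.1 A] Sec hL.1 𝔉 A, ∃ c : I → OSec hL.1 W, t = ∑ i, c i ⊗ₜ x i := by
      intro t
      induction t using TensorProduct.induction_on with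
      | zero => exact ⟨0, by simp⟩
      | tmul a y =>
        obtain ⟨c, hc⟩ := hgenA y
        refine ⟨fun i => c i • a, ?_⟩
        rw [hc, TensorProduct.tmul_sum]
        refine Finset.sum_congr rfl fun i _ => ?_
        rw [TensorProduct.tmul_smul, TensorProduct.smul_tmul']
        exact congrArg (fun z => _ ⊗ₜ z) (rs_id _ _)
      | add a b ha hb =>
        obtain ⟨c, rfl⟩ := ha
        obtain ⟨d, rfl⟩ := hb
        exact ⟨c + d, by simp [TensorProduct.add_tmul, Finset.sum_add_distrib]⟩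
    obtain ⟨c, rfl⟩ := hspan t
    rw [map_sum] at ht
    obtain ⟨d, hd⟩ := hcomp c ht
    have e : ∀ i, c i = ∑ k, r k i • d k := fun i => by
      rw [hd i]
      exact Finset.sum_congr rfl fun k _ => mul_comm _ _
    simp only [e, TensorProduct.sum_tmul, ← TensorProduct.smul_tmul', ← TensorProduct.tmul_smul]
    rw [Finset.sum_comm]
    refine Finset.sum_eq_zero fun k _ => ?_
    rw [← TensorProduct.tmul_sum, hr0, TensorProduct.tmul_zero]
  · obtain ⟨c, rfl⟩ := hgen y
    exact ⟨∑ i, c i ⊗ₜ x i, map_sum _ _ _⟩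

include h𝔉 in
theorem finite_sec (hA : IsAffineOpen A) : Module.Finite (OSec hL.1 A) (Sec hL.1 𝔉 A) := by
  obtain ⟨I, K, hI, hK, x, r, -, hP⟩ := exists_secPres hL h𝔉 hA
  refine Module.Finite.of_surjective (Fintype.linearCombination (OSec hL.1 A) x) fun y => ?_
  obtain ⟨c, rfl⟩ := (hP A (𝟙 A) hA).1 y
  refine ⟨c, (Fintype.linearCombination_apply _ _ _).trans (Finset.sum_congr rfl fun i _ => ?_)⟩
  exact congrArg (c i • ·) (rs_id _ _).symm

include h𝔉 h𝔊 in
/-- The kernel of a morphism on sections over an affine open generates the kernels over smaller ones. -/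
theorem exists_ker_gens (θ : 𝔉 ⟶ 𝔊) (hA : IsAffineOpen A) :
    ∃ (J : Type u) (_ : Fintype J) (k : J → Sec hL.1 𝔉 A), (∀ j, secMap θ A (k j) = 0) ∧
      ∀ (W : (𝔛.X 0).Opens) (l : W ⟶ A), IsAffineOpen W → ∀ y : Sec hL.1 𝔉 W, secMap θ W y = 0 →
        ∃ c : J → OSec hL.1 W, y = ∑ j, c j • rsF hL 𝔉 l (k j) := by
  haveI := finite_sec hL h𝔉 hA
  obtain ⟨I₀, hN, -, -⟩ := exists_adic hL hA
  haveI := hN
  let θA : Sec hL.1 𝔉 A →ₗ[OSec hL.1 A] Sec hL.1 𝔊 A := (θ.val.app (op A)).hom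
  obtain ⟨N, q, hq⟩ := Submodule.fg_iff_exists_fin_generating_family.1 (IsNoetherian.noetherian (LinearMap.ker θA))
  have hk0 : ∀ j : ULift.{u} (Fin N), θA (q j.down) = 0 := fun j =>
    (hq ▸ Submodule.subset_span ⟨j.down, rfl⟩ : q j.down ∈ LinearMap.ker θA)
  refine ⟨ULift.{u} (Fin N), inferInstance, fun j => q j.down, hk0, fun W l hW y hy => ?_⟩
  letI := (rsO hL l).toAlgebra
  haveI : Module.Flat (OSec hL.1 A) (OSec hL.1 W) := flat_rsO hL hA hW l
  obtain ⟨t, rfl⟩ := (bijective_bcMap hL h𝔉 hA hW l).2 y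
  have hnat : ∀ t, bcMap hL 𝔊 l (LinearMap.lTensor _ θA t) = secMap θ W (bcMap hL 𝔉 l t) := by
    intro t
    induction t using TensorProduct.induction_on with
    | zero => simp
    | tmul a x =>
      rw [LinearMap.lTensor_tmul, bcMap_tmul, bcMap_tmul]
      refine ((congrArg (a • ·) (rs_app θ.val l.op x)).symm).trans ?_
      exact ((θ.val.app (op W)).hom.map_smul a _).symm
    | add a b ha hb => simp only [map_add, ha, hb]
  have ht : LinearMap.lTensor _ θA t = 0 :=
    (bijective_bcMap hL h𝔊 hA hW l).1 ((hnat t).trans (hy.trans (map_zero _).symm))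
  obtain ⟨c, rfl⟩ := flat_ker_comb θA (fun j : ULift.{u} (Fin N) => q j.down) hk0 (fun m hm => by
    have h1 : m ∈ Submodule.span (OSec hL.1 A) (Set.range q) := hq ▸ (LinearMap.mem_ker.2 hm : m ∈ LinearMap.ker θA)
    obtain ⟨c, hc⟩ := (Submodule.mem_span_range_iff_exists_fun _).1 h1
    exact ⟨fun j => c j.down, hc.symm.trans (Equiv.ulift.sum_comp fun j => c j • q j).symm⟩) t ht
  exact ⟨c, map_sum _ _ _⟩

include h𝔉 h𝔊 in
/-- Kernels of morphisms of coherent modules are coherent. -/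
theorem isCohF_kernel (θ : 𝔉 ⟶ 𝔊) : FSch.IsCohF 𝔛 hL.1 (kernel θ) := by
  refine isFinitePresentation_of_lh (lh_of_coversTop (X := fun W : (𝔛.X 0).affineOpens => W.1)
    ((Opens.coversTop_iff _ _).2 (iSup_affineOpens_eq_top _)) FP.res fun A => ?_)
  obtain ⟨A, hA⟩ := A
  obtain ⟨J, hJ, k, hk0, hk⟩ := exists_ker_gens hL h𝔉 h𝔊 θ hA
  choose s hs using fun j => exists_kerSec θ (k j) (hk0 j)
  obtain ⟨N, hN, -, -⟩ := exists_adic hL hA
  haveI := hN
  haveI := finite_sec hL h𝔉 hA
  let p : (J → OSec hL.1 A) →ₗ[OSec hL.1 A] Sec hL.1 𝔉 A := Fintype.linearCombination _ k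
  obtain ⟨M, q, hq⟩ := Submodule.fg_iff_exists_fin_generating_family.1 (IsNoetherian.noetherian (LinearMap.ker p))
  let r : ULift.{u} (Fin M) → J → OSec hL.1 A := fun m => q m.down
  have hr0 : ∀ m, ∑ j, r m j • k j = 0 := fun m =>
    (Fintype.linearCombination_apply _ _ _).symm.trans
      (hq ▸ Submodule.subset_span ⟨m.down, rfl⟩ : q m.down ∈ LinearMap.ker p)
  have hcomp : ∀ (W : (𝔛.X 0).Opens) (l : W ⟶ A), IsAffineOpen W → ∀ c : J → OSec hL.1 W,
      ∑ j, c j • rsF hL 𝔉 l (k j) = 0 → ∃ d : ULift.{u} (Fin M) → OSec hL.1 W, ∀ j, c j = ∑ m, d m * rsO hL l (r m j) := by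
    intro W l hW c hc
    letI := (rsO hL l).toAlgebra
    haveI : Module.Flat (OSec hL.1 A) (OSec hL.1 W) := flat_rsO hL hA hW l
    refine flat_rel_comb k r hr0 (fun c hc => ?_) c ((bijective_bcMap hL h𝔉 hA hW l).1 ?_)
    · have h1 : c ∈ Submodule.span (OSec hL.1 A) (Set.range q) :=
        hq ▸ (LinearMap.mem_ker.2 ((Fintype.linearCombination_apply _ _ _).trans hc) : c ∈ LinearMap.ker p)
      obtain ⟨d, hd⟩ := (Submodule.mem_span_range_iff_exists_fun _).1 h1
      refine ⟨fun m => d m.down, fun j => ?_⟩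
      rw [← hd, Finset.sum_apply]
      exact (Equiv.ulift.sum_comp fun m => d m * q m j).symm
    · rw [map_sum, map_zero]
      exact hc
  have hι : ∀ {V : (𝔛.X 0).Opens} (g : V ⟶ A) (j : J),
      secMap (kernel.ι θ) V (rs ((forg (𝔛.Osh hL.1)).obj (kernel θ)) g.op (s j)) = rsF hL 𝔉 g (k j) :=
    fun g j => (rs_app (kernel.ι θ).val g.op (s j)).trans (congrArg _ (hs j))
  refine ⟨J, ULift.{u} (Fin M), hJ, inferInstance, s, r, fun V g t => ?_, ⟨fun m => ?_, fun V g c hc => ?_⟩⟩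
  · refine ⟨affSieve V, affSieve_mem V, fun W q' hq' => ?_⟩
    obtain ⟨B, hB, h1, h2⟩ := hq'
    let y : Sec hL.1 (kernel θ) B := rs ((forg (𝔛.Osh hL.1)).obj (kernel θ)) (homOfLE h2).op t
    obtain ⟨c, hc⟩ := hk B (homOfLE (h2.trans (leOfHom g))) hB (secMap (kernel.ι θ) B y)
      (congrArg (fun (q : kernel θ ⟶ 𝔊) => (q.val.app (op B)).hom y) (kernel.condition θ))
    refine ⟨fun j => rr (𝔛.Osh hL.1) (homOfLE h1).op (c j), ?_⟩
    rw [show q'.op = (homOfLE h2).op ≫ (homOfLE h1).op from Subsingleton.elim _ _, ← rs_rs]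
    apply injective_app (kernel.ι θ)
    refine Eq.trans ?_ (app_sum_smul (kernel.ι θ) _ _ _).symm
    refine ((rs_app (kernel.ι θ).val (homOfLE h1).op y).trans (congrArg _ hc)).trans ?_
    refine (rs_sum _ _ _ _).trans (Finset.sum_congr rfl fun j _ => ?_)
    refine (rs_smul' _ _ _ _).trans (congrArg (_ • ·) ?_)
    exact (rs_rs _ _ _ _).trans
      ((congrArg (fun z => rs _ z (k j)) (Subsingleton.elim _ _)).trans (hι (q' ≫ g) j).symm)
  · apply injective_app (kernel.ι θ)
    refine Eq.trans ?_ (map_zero _).symm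
    refine (app_sum_smul (kernel.ι θ) _ _ _).trans (Eq.trans (Finset.sum_congr rfl fun j _ => ?_) (hr0 m))
    exact congrArg (r m j • ·) (hs j)
  · refine ⟨affSieve V, affSieve_mem V, fun W q' hq' => ?_⟩
    obtain ⟨B, hB, h1, h2⟩ := hq'
    let l : B ⟶ A := homOfLE (h2.trans (leOfHom g))
    obtain ⟨d, hd⟩ := hcomp B l hB (fun j => rr (𝔛.Osh hL.1) (homOfLE h2).op (c j)) (by
      have h := congrArg (fun z => secMap (kernel.ι θ) B (rs ((forg (𝔛.Osh hL.1)).obj (kernel θ)) (homOfLE h2).op z)) hc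
      simp only [rs_sum, rs_smul', rs_rs, rs_zero, map_zero] at h
      refine Eq.trans ?_ h
      refine Eq.trans ?_ (app_sum_smul (kernel.ι θ) _ _ _).symm
      refine Finset.sum_congr rfl fun j _ => congrArg (_ • ·) ?_
      exact (hι l j).symm.trans (congrArg (fun z => secMap (kernel.ι θ) B (rs _ z (s j))) (Subsingleton.elim _ _)))
    refine ⟨fun m => rr (𝔛.Osh hL.1) (homOfLE h1).op (d m), fun j => ?_⟩
    have h := congrArg (fun z => rr (𝔛.Osh hL.1) (homOfLE h1).op z) (hd j)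
    simp only [rr_rr, map_sum, map_mul] at h
    rw [show q'.op = (homOfLE h2).op ≫ (homOfLE h1).op from Subsingleton.elim _ _]
    refine h.trans (Finset.sum_congr rfl fun m _ => ?_)
    exact congrArg (fun z => _ * rr (𝔛.Osh hL.1) z (r m j)) (Subsingleton.elim _ _)

end Groth.Agent.H24FMod
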