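import Groth.Agent.H8Props.RelFP.PullSections
import Groth.Agent.H17.Conormal.Trans
import Mathlib.RingTheory.Finiteness.Cardinality

/-!
# Generators and relations of quasi-coherent modules on smaller affine opens
-/

set_option autoImplicit false
set_option linter.style.haveILetI false
universe u

open CategoryTheory CategoryTheory.Limits AlgebraicGeometry Opposite

namespace Groth.Agent.H24FMod

section Alg

variable {R R' M M' : Type u} [CommRing R] [CommRing R'] [Algebra R R'] [AddCommGroup M] [Module R M]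
  [AddCommGroup M'] [Module R M'] [Module R' M'] [IsScalarTower R R' M'] {f : M →ₗ[R] M'}

/-- Generators base change to generators. -/
theorem gen_baseChange (hf : IsBaseChange R' f) {I : Type*} [Fintype I] (s : I → M)
    (hs : ∀ m, ∃ c : I → R, m = ∑ i, c i • s i) (m' : M') : ∃ c : I → R', m' = ∑ i, c i • f (s i) := by
  induction m' using hf.inductionOn with
  | zero => exact ⟨0, by simp⟩
  | tmul m =>
    obtain ⟨c, rfl⟩ := hs m
    exact ⟨fun i => algebraMap R R' (c i), by simp [map_sum]⟩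
  | smul a m hm =>
    obtain ⟨c, rfl⟩ := hm
    exact ⟨a • c, by simp [Finset.smul_sum, mul_smul]⟩
  | add a b ha hb =>
    obtain ⟨c, rfl⟩ := ha
    obtain ⟨d, rfl⟩ := hb
    exact ⟨c + d, by simp [add_smul, Finset.sum_add_distrib]⟩

/-- Complete relations base change to complete relations. -/
theorem rel_baseChange (hf : IsBaseChange R' f) {I K : Type u} [Fintype I] [Fintype K] (s : I → M)
    (r : K → I → R) (hs : ∀ m, ∃ c : I → R, m = ∑ i, c i • s i)
    (hr : ∀ c : I → R, ∑ i, c i • s i = 0 → ∃ d : K → R, ∀ i, c i = ∑ k, d k * r k i)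
    (c' : I → R') (hc : ∑ i, c' i • f (s i) = 0) :
    ∃ d : K → R', ∀ i, c' i = ∑ k, d k * algebraMap R R' (r k i) := by
  classical
  let r' : K → I → R' := fun k i => algebraMap R R' (r k i)
  let S : Submodule R' (I → R') := Submodule.span R' (Set.range r')
  suffices h : c' ∈ S by
    obtain ⟨d, hd⟩ := (Submodule.mem_span_range_iff_exists_fun R').1 h
    exact ⟨d, fun i => by rw [← hd]; simp [r']⟩
  let q : (I → R') →ₗ[R'] (I → R') ⧸ S := S.mkQ
  let cls : (I → R) →ₗ[R] (I → R') ⧸ S := (q.restrictScalars R) ∘ₗ (Algebra.linearMap R R').compLeft I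
  let p : (I → R) →ₗ[R] M := Fintype.linearCombination R s
  have hp : Function.Surjective p := fun m => by
    obtain ⟨c, hc⟩ := hs m
    exact ⟨c, hc.symm⟩
  have hker : LinearMap.ker p ≤ LinearMap.ker cls := fun c hc => by
    obtain ⟨d, hd⟩ := hr c hc
    show q _ = 0
    rw [Submodule.mkQ_apply, Submodule.Quotient.mk_eq_zero, Submodule.mem_span_range_iff_exists_fun]
    exact ⟨fun k => algebraMap R R' (d k), funext fun i => by simp [r', hd i, Algebra.smul_def]⟩
  let φ : M →ₗ[R] (I → R') ⧸ S :=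
    (LinearMap.ker p).liftQ cls hker ∘ₗ (LinearMap.quotKerEquivOfSurjective p hp).symm.toLinearMap
  have hφ : ∀ c, φ (p c) = cls c := fun c => by
    show (LinearMap.ker p).liftQ cls hker ((LinearMap.quotKerEquivOfSurjective p hp).symm (p c)) = cls c
    rw [LinearMap.quotKerEquivOfSurjective_symm_apply, Submodule.liftQ_apply]
  let ψ : M' →ₗ[R'] (I → R') ⧸ S := hf.lift φ
  have hψ : ∀ i, ψ (f (s i)) = q (Pi.single i 1) := fun i => by
    rw [hf.lift_eq, show s i = p (Pi.single i 1) by simp [p, Fintype.linearCombination_apply_single], hφ]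
    show q _ = q _
    congr 1
    funext j
    by_cases h : j = i
    · subst h; simp
    · simp [h]
  have h0 : q c' = 0 := by
    rw [pi_eq_sum_univ' c', map_sum, ← map_zero ψ, ← hc, map_sum]
    refine Finset.sum_congr rfl fun i _ => ?_
    rw [map_smul, map_smul, hψ]
  exact (Submodule.Quotient.mk_eq_zero S).1 h0

end Alg

variable {X : Scheme.{u}} (F : X.Modules) (hF : Coh.IsQCoh F) {W U : X.Opens}

include hF in
theorem isBaseChange_res_aux (hW : IsAffineOpen W) (hU : IsAffineOpen U) (h : U ≤ W) (φ : Γ(X, W) ⟶ Γ(X, U))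
    (hφ : φ = (𝟙 X : X ⟶ X).appLE W U h) :
    letI := φ.hom.toAlgebra
    letI := Module.compHom Γ(F, U) φ.hom
    haveI : IsScalarTower Γ(X, W) Γ(X, U) Γ(F, U) := .of_algebraMap_smul fun _ _ => rfl
    ∀ p : Γ(F, W) →ₗ[Γ(X, W)] Γ(F, U), (∀ m, p m = F.presheaf.map (homOfLE h).op m) →
      IsBaseChange Γ(X, U) p := by
  subst hφ
  letI := ((𝟙 X : X ⟶ X).appLE W U h).hom.toAlgebra
  letI := Module.compHom Γ(F, U) ((𝟙 X : X ⟶ X).appLE W U h).hom
  haveI : IsScalarTower Γ(X, W) Γ(X, U) Γ(F, U) := .of_algebraMap_smul fun _ _ => rfl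
  intro p hp
  have hg := H8Props.PullSections.isBaseChange_pullLin (𝟙 X) F h hF hW hU
  let P := (Scheme.Modules.pullback (𝟙 X)).obj F
  letI := Module.compHom Γ(P, U) ((𝟙 X : X ⟶ X).appLE W U h).hom
  haveI : IsScalarTower Γ(X, W) Γ(X, U) Γ(P, U) := .of_algebraMap_smul fun _ _ => rfl
  let ε := (Scheme.Modules.pullbackId X).app F
  let e : Γ(P, U) ≃ₗ[Γ(X, U)] Γ(F, U) :=
    { toFun := ε.hom.app U
      map_add' := map_add _
      map_smul' := fun r m => ε.hom.app_smul r m
      invFun := ε.inv.app U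
      left_inv := fun m => (congr($(congrArg (fun k => Scheme.Modules.Hom.app k U) ε.hom_inv_id) m))
      right_inv := fun m => (congr($(congrArg (fun k => Scheme.Modules.Hom.app k U) ε.inv_hom_id) m)) }
  refine IsBaseChange.of_equiv (hg.equiv.trans e) fun m => ?_
  rw [LinearEquiv.trans_apply, IsBaseChange.equiv_tmul, one_smul, hp]
  show ε.hom.app U (P.presheaf.map (homOfLE h).op (OmegaSh.pullSect (𝟙 X) F W m)) = _
  refine ((congr($(ε.hom.mapPresheaf.naturality (homOfLE h).op) (OmegaSh.pullSect (𝟙 X) F W m)))).trans ?_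
  exact congrArg (F.presheaf.map (homOfLE h).op)
    (congr($(congrArg (fun k => Scheme.Modules.Hom.app k W) (H17.Conormal.unit_comp_pullbackId F)) m))

include hF in
/-- Sections on a smaller affine open are the base change. -/
theorem isBaseChange_res (hW : IsAffineOpen W) (hU : IsAffineOpen U) (h : U ≤ W) :
    letI := (X.presheaf.map (homOfLE h).op).hom.toAlgebra
    letI := Module.compHom Γ(F, U) (X.presheaf.map (homOfLE h).op).hom
    haveI : IsScalarTower Γ(X, W) Γ(X, U) Γ(F, U) := .of_algebraMap_smul fun _ _ => rfl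
    ∀ p : Γ(F, W) →ₗ[Γ(X, W)] Γ(F, U), (∀ m, p m = F.presheaf.map (homOfLE h).op m) →
      IsBaseChange Γ(X, U) p :=
  isBaseChange_res_aux F hF hW hU h _ (by
    show _ = (𝟙 X : X ⟶ X).app W ≫ _
    rw [Scheme.Hom.id_app]
    exact (Category.id_comp _).symm)

include hF in
/-- Generators and relations restrict to smaller affine opens. -/
theorem restrict_gen_rel (hW : IsAffineOpen W) (hU : IsAffineOpen U) (h : U ≤ W) {I K : Type u} [Fintype I]
    [Fintype K] (s : I → Γ(F, W)) (r : K → I → Γ(X, W))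
    (hs : ∀ m, ∃ c : I → Γ(X, W), m = ∑ i, c i • s i)
    (hr : ∀ c : I → Γ(X, W), ∑ i, c i • s i = 0 → ∃ d : K → Γ(X, W), ∀ i, c i = ∑ k, d k * r k i) :
    (∀ m : Γ(F, U), ∃ c : I → Γ(X, U), m = ∑ i, c i • F.presheaf.map (homOfLE h).op (s i)) ∧
    ∀ c : I → Γ(X, U), ∑ i, c i • F.presheaf.map (homOfLE h).op (s i) = 0 →
      ∃ d : K → Γ(X, U), ∀ i, c i = ∑ k, d k * X.presheaf.map (homOfLE h).op (r k i) := by
  letI := (X.presheaf.map (homOfLE h).op).hom.toAlgebra
  letI := Module.compHom Γ(F, U) (X.presheaf.map (homOfLE h).op).hom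
  haveI : IsScalarTower Γ(X, W) Γ(X, U) Γ(F, U) := .of_algebraMap_smul fun _ _ => rfl
  let p : Γ(F, W) →ₗ[Γ(X, W)] Γ(F, U) :=
    { toFun := F.presheaf.map (homOfLE h).op
      map_add' := map_add _
      map_smul' := fun a m => Scheme.Modules.map_smul F (homOfLE h) a m }
  have hbc := isBaseChange_res F hF hW hU h p fun _ => rfl
  exact ⟨fun m => gen_baseChange hbc s hs m, fun c hc => rel_baseChange hbc s r hs hr c hc⟩

end Groth.Agent.H24FMod
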