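import Groth.Agent.H24FMod.Affine
import Groth.Agent.H24FMod.Restrict
import Groth.Agent.H24Adic.Basic
import Groth.Agent.H15Site.LocPres
import Mathlib.CategoryTheory.Sites.Spaces
import Mathlib.RingTheory.Nakayama

/-!
# The module of a coherent system is locally finitely presented
-/

set_option autoImplicit false
set_option linter.style.haveILetI false
set_option linter.unusedSectionVars false
universe u

open CategoryTheory CategoryTheory.Limits AlgebraicGeometry TopologicalSpace Opposite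

namespace Groth.Agent.H24FMod

open H15Site.ModTensor H15Site.ModRel H15Site.LocGen H15Site.LocPres

variable {𝔛 : FSch.Sys.{u}} (hL : 𝔛.IsLocNoethFormal) (𝔐 : FSch.ModSys 𝔛)

/-- Restriction of sections of the module of a system. -/
noncomputable abbrev res {U W : (𝔛.X 0).Opens} (l : W ⟶ U) (x : Sec hL.1 (𝔐.realMod hL.1) U) :
    Sec hL.1 (𝔐.realMod hL.1) W := rs ((forg (𝔛.Osh hL.1)).obj (𝔐.realMod hL.1)) l.op x

/-- A family of sections over `U` with complete relations. -/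
structure Pres (U : (𝔛.X 0).Opens) {I K : Type u} [Fintype I] [Fintype K]
    (x : I → Sec hL.1 (𝔐.realMod hL.1) U) (r : K → I → OSec hL.1 U) : Prop where
  gen : ∀ y : Sec hL.1 (𝔐.realMod hL.1) U, ∃ c : I → OSec hL.1 U, y = ∑ i, c i • x i
  zero : ∀ k, ∑ i, r k i • x i = 0
  complete : ∀ c : I → OSec hL.1 U, ∑ i, c i • x i = 0 → ∃ d : K → OSec hL.1 U, ∀ i, c i = ∑ k, d k * r k i

variable {hL 𝔐} (h𝔐 : 𝔐.IsCoh) {U W : (𝔛.X 0).Opens} {I K : Type u} [Fintype I] [Fintype K]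
  {x : I → Sec hL.1 (𝔐.realMod hL.1) U} {r : K → I → OSec hL.1 U}

/-- The projection of the module of a system. -/
noncomputable abbrev pm (hL : 𝔛.IsLocNoethFormal) (𝔐 : FSch.ModSys 𝔛) (n : ℕ) (U : (𝔛.X 0).Opens) :
    Sec hL.1 (𝔐.realMod hL.1) U →+ Γ(𝔐.F n, 𝔛.lvU hL.1 n U) := prS hL.1 𝔐.F 𝔐.toPush n U

theorem pm_sum (n : ℕ) (c : I → OSec hL.1 U) (x : I → Sec hL.1 (𝔐.realMod hL.1) U) :
    pm hL 𝔐 n U (∑ i, c i • x i) = ∑ i, oP hL.1 n U (c i) • pm hL 𝔐 n U (x i) :=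
  (map_sum _ _ _).trans (Finset.sum_congr rfl fun i _ => prS_smul hL.1 𝔐.F 𝔐.toPush n U (c i) (x i))

include h𝔐 in
theorem exists_ker_comb (hU : IsAffineOpen U) (hgen : ∀ y, ∃ c : I → OSec hL.1 U, y = ∑ i, c i • x i) (n : ℕ)
    {y : Sec hL.1 (𝔐.realMod hL.1) U} (hy : pm hL 𝔐 n U y = 0) :
    ∃ c : I → OSec hL.1 U, (∀ i, oP hL.1 n U (c i) = 0) ∧ y = ∑ i, c i • x i := by
  obtain ⟨J, -, hc, hJ⟩ := exists_adic hL hU
  haveI := hc
  letI := lvModule hL 𝔐.F U
  haveI := finite_level hL hU 0 (h𝔐 0)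
  let S := secAdic hL 𝔐 hU (fun n => (h𝔐 n).1) hJ
  have hk : y ∈ J ^ (n + 1) • (⊤ : Submodule (OSec hL.1 U) _) :=
    S.ker_eq_of_finite n ▸ (LinearMap.mem_ker.2 hy : y ∈ LinearMap.ker (S.π n))
  refine Submodule.smul_induction_on (p := fun z => ∃ c : I → OSec hL.1 U,
    (∀ i, oP hL.1 n U (c i) = 0) ∧ z = ∑ i, c i • x i) hk (fun a ha z _ => ?_) fun p q hp hq => ?_
  · obtain ⟨c, rfl⟩ := hgen z
    refine ⟨fun i => a * c i, fun i => ?_, by simp [Finset.smul_sum, smul_smul]⟩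
    rw [← hJ, RingHom.mem_ker] at ha
    rw [map_mul, ha, zero_mul]
  · obtain ⟨c, hc0, rfl⟩ := hp
    obtain ⟨d, hd0, rfl⟩ := hq
    exact ⟨c + d, fun i => by rw [Pi.add_apply, map_add, hc0, hd0, add_zero],
      by simp [add_smul, Finset.sum_add_distrib]⟩

include h𝔐 in
theorem Pres.level (hP : Pres hL 𝔐 U x r) (hU : IsAffineOpen U) (n : ℕ) :
    (∀ m : Γ(𝔐.F n, 𝔛.lvU hL.1 n U), ∃ c : I → Γ(𝔛.X n, 𝔛.lvU hL.1 n U), m = ∑ i, c i • pm hL 𝔐 n U (x i)) ∧
    ∀ c : I → Γ(𝔛.X n, 𝔛.lvU hL.1 n U), ∑ i, c i • pm hL 𝔐 n U (x i) = 0 →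
      ∃ d : K → Γ(𝔛.X n, 𝔛.lvU hL.1 n U), ∀ i, c i = ∑ k, d k * oP hL.1 n U (r k i) := by
  obtain ⟨J, -, hc, hJ⟩ := exists_adic hL hU
  letI := lvModule hL 𝔐.F U
  let S := secAdic hL 𝔐 hU (fun n => (h𝔐 n).1) hJ
  refine ⟨fun m => ?_, fun c hc0 => ?_⟩
  · obtain ⟨y, rfl⟩ := S.π_surjective n m
    obtain ⟨c, rfl⟩ := hP.gen y
    exact ⟨fun i => oP hL.1 n U (c i), pm_sum n c x⟩
  · choose c' hc' using fun i => surjective_oP hL hU n (c i)
    have h0 : pm hL 𝔐 n U (∑ i, c' i • x i) = 0 := by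
      rw [pm_sum]
      simp only [hc']
      exact hc0
    obtain ⟨e, he, heq⟩ := exists_ker_comb h𝔐 hU hP.gen n h0
    obtain ⟨d, hd⟩ := hP.complete (c' - e) (by
      simp only [Pi.sub_apply, sub_smul, Finset.sum_sub_distrib, heq, sub_self])
    refine ⟨fun k => oP hL.1 n U (d k), fun i => ?_⟩
    have h1 := congrArg (oP hL.1 n U) (hd i)
    rw [Pi.sub_apply, map_sub, hc', he, sub_zero, map_sum] at h1
    simpa only [map_mul] using h1

include h𝔐 in
/-- A family with vanishing relations which is a presentation on every level is a presentation. -/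
theorem pres_of_levels (hU : IsAffineOpen U) (hz : ∀ k, ∑ i, r k i • x i = 0)
    (hlev : ∀ n, (∀ m : Γ(𝔐.F n, 𝔛.lvU hL.1 n U),
        ∃ c : I → Γ(𝔛.X n, 𝔛.lvU hL.1 n U), m = ∑ i, c i • pm hL 𝔐 n U (x i)) ∧
      ∀ c : I → Γ(𝔛.X n, 𝔛.lvU hL.1 n U), ∑ i, c i • pm hL 𝔐 n U (x i) = 0 →
        ∃ d : K → Γ(𝔛.X n, 𝔛.lvU hL.1 n U), ∀ i, c i = ∑ k, d k * oP hL.1 n U (r k i)) :
    Pres hL 𝔐 U x r := by
  obtain ⟨J, hN, hc, hJ⟩ := exists_adic hL hU
  haveI := hN
  haveI := hc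
  letI := lvModule hL 𝔐.F U
  haveI := finite_level hL hU 0 (h𝔐 0)
  let S := secAdic hL 𝔐 hU (fun n => (h𝔐 n).1) hJ
  refine ⟨fun y => ?_, hz, fun c hc0 => ?_⟩
  · let N : Submodule (OSec hL.1 U) (Sec hL.1 (𝔐.realMod hL.1) U) := Submodule.span _ (Set.range x)
    suffices h : y ∈ N by
      obtain ⟨c, hc⟩ := (Submodule.mem_span_range_iff_exists_fun _).1 h
      exact ⟨c, hc.symm⟩
    haveI : Module.Finite (OSec hL.1 U) (Sec hL.1 (𝔐.realMod hL.1) U) := S.finite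
    have hsup : (⊤ : Submodule (OSec hL.1 U) (Sec hL.1 (𝔐.realMod hL.1) U)) ≤ N ⊔ J • ⊤ := fun z _ => by
      obtain ⟨c, hc1⟩ := (hlev 0).1 (pm hL 𝔐 0 U z)
      choose c' hc' using fun i => surjective_oP hL hU 0 (c i)
      have hm : z - ∑ i, c' i • x i ∈ J • (⊤ : Submodule (OSec hL.1 U) _) := by
        have h0 : S.π 0 (z - ∑ i, c' i • x i) = 0 := by
          show pm hL 𝔐 0 U (z - ∑ i, c' i • x i) = 0
          rw [map_sub, pm_sum, sub_eq_zero, hc1]
          exact Finset.sum_congr rfl fun i _ => by rw [hc']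
        have := S.ker_eq_of_finite 0 ▸ (LinearMap.mem_ker.2 h0 : _ ∈ LinearMap.ker (S.π 0))
        rwa [zero_add, pow_one] at this
      refine Submodule.mem_sup.2 ⟨_, Submodule.sum_mem _ fun i _ => N.smul_mem (c' i)
        (Submodule.subset_span ⟨i, rfl⟩), _, hm, add_sub_cancel _ _⟩
    exact Submodule.le_of_le_smul_of_le_jacobson_bot Module.Finite.fg_top
      (IsAdicComplete.le_jacobson_bot J) hsup Submodule.mem_top
  · let S' : Submodule (OSec hL.1 U) (I → OSec hL.1 U) := Submodule.span _ (Set.range r)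
    suffices h : c ∈ S' by
      obtain ⟨d, hd⟩ := (Submodule.mem_span_range_iff_exists_fun _).1 h
      exact ⟨d, fun i => by rw [← hd]; simp [Finset.sum_apply]⟩
    haveI : IsAdicComplete J ((I → OSec hL.1 U) ⧸ S') := H24Adic.isAdicComplete_of_finite J
    refine (Submodule.Quotient.mk_eq_zero S').1 (IsHausdorff.haus (I := J) ‹IsAdicComplete J _›.toIsHausdorff _ fun n => ?_)
    rw [SModEq.zero]
    rcases n with _ | n
    · simp
    · obtain ⟨d, hd⟩ := (hlev n).2 (fun i => oP hL.1 n U (c i)) (by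
        rw [← pm_sum, hc0, map_zero])
      choose d' hd' using fun k => surjective_oP hL hU n (d k)
      have hmem : ∀ i, c i - ∑ k, d' k * r k i ∈ J ^ (n + 1) := fun i => by
        rw [← hJ, RingHom.mem_ker, map_sub, map_sum, sub_eq_zero, hd i]
        exact Finset.sum_congr rfl fun k _ => by rw [map_mul, hd']
      have hq : Submodule.Quotient.mk (p := S') c = Submodule.Quotient.mk (c - ∑ k, d' k • r k) :=
        (Submodule.Quotient.eq S').2 (by
          rw [sub_sub_cancel]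
          exact Submodule.sum_mem _ fun k _ => S'.smul_mem _ (Submodule.subset_span ⟨k, rfl⟩))
      classical
      rw [hq, ← Submodule.mkQ_apply, pi_eq_sum_univ' (c - ∑ k, d' k • r k), map_sum]
      refine Submodule.sum_mem _ fun i _ => ?_
      rw [map_smul]
      refine Submodule.smul_mem_smul ?_ Submodule.mem_top
      simpa [Finset.sum_apply] using hmem i


include h𝔐 in
/-- Presentations restrict to smaller affine opens. -/
theorem Pres.restrict (hP : Pres hL 𝔐 U x r) (hU : IsAffineOpen U) (hW : IsAffineOpen W) (l : W ⟶ U) :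
    Pres hL 𝔐 W (fun i => res hL 𝔐 l (x i)) fun k i => rr (𝔛.Osh hL.1) l.op (r k i) := by
  let x' : I → Sec hL.1 (𝔐.realMod hL.1) W := fun i => res hL 𝔐 l (x i)
  let r' : K → I → OSec hL.1 W := fun k i => rr (𝔛.Osh hL.1) l.op (r k i)
  have hlev : ∀ n, (∀ m : Γ(𝔐.F n, 𝔛.lvU hL.1 n W),
        ∃ c : I → Γ(𝔛.X n, 𝔛.lvU hL.1 n W), m = ∑ i, c i • pm hL 𝔐 n W (x' i)) ∧
      ∀ c : I → Γ(𝔛.X n, 𝔛.lvU hL.1 n W), ∑ i, c i • pm hL 𝔐 n W (x' i) = 0 →
        ∃ d : K → Γ(𝔛.X n, 𝔛.lvU hL.1 n W), ∀ i, c i = ∑ k, d k * oP hL.1 n W (r' k i) := fun n => by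
    obtain ⟨h1, h2⟩ := hP.level h𝔐 hU n
    have h3 := restrict_gen_rel (𝔐.F n) (h𝔐 n).1 (isAffineOpen_lvU hL hU n) (isAffineOpen_lvU hL hW n)
      (lvU_mono hL.1 n (leOfHom l)) (fun i => pm hL 𝔐 n U (x i)) (fun k i => oP hL.1 n U (r k i)) h1 h2
    have e1 : ∀ i, pm hL 𝔐 n W (x' i) = _ := fun i => prS_res hL.1 𝔐.F 𝔐.toPush n l (x i)
    have e2 : ∀ k i, oP hL.1 n W (r' k i) = _ := fun k i => oP_res hL.1 n l (r k i)
    simp only [e1, e2]
    exact h3
  refine pres_of_levels h𝔐 hW (fun k => ?_) hlev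
  refine prS_ext hL.1 𝔐.F 𝔐.toPush _ 0 fun n => ?_
  have h0 := congrArg (fun z => rs ((forg (𝔛.Osh hL.1)).obj (𝔐.realMod hL.1)) l.op z) (hP.zero k)
  simp only [rs_sum, rs_smul', rs_zero] at h0
  exact congrArg (pm hL 𝔐 n W) h0

include h𝔐 in
theorem exists_pres (hU : IsAffineOpen U) : ∃ (I K : Type u) (_ : Fintype I) (_ : Fintype K)
    (x : I → Sec hL.1 (𝔐.realMod hL.1) U) (r : K → I → OSec hL.1 U), Pres hL 𝔐 U x r := by
  obtain ⟨J, hN, hc, hJ⟩ := exists_adic hL hU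
  haveI := hN
  haveI := hc
  letI := lvModule hL 𝔐.F U
  haveI := finite_level hL hU 0 (h𝔐 0)
  let S := secAdic hL 𝔐 hU (fun n => (h𝔐 n).1) hJ
  haveI : Module.Finite (OSec hL.1 U) (Sec hL.1 (𝔐.realMod hL.1) U) := S.finite
  obtain ⟨N, s, hs⟩ := Module.Finite.exists_fin (R := OSec hL.1 U) (M := Sec hL.1 (𝔐.realMod hL.1) U)
  let x : ULift.{u} (Fin N) → Sec hL.1 (𝔐.realMod hL.1) U := fun i => s i.down
  let p := Fintype.linearCombination (OSec hL.1 U) x
  obtain ⟨M, q, hq⟩ := Submodule.fg_iff_exists_fin_generating_family.1 (IsNoetherian.noetherian (LinearMap.ker p))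
  refine ⟨ULift.{u} (Fin N), ULift.{u} (Fin M), inferInstance, inferInstance, x, fun k => q k.down, fun y => ?_,
    fun k => ?_, fun c hc0 => ?_⟩
  · have hy : y ∈ Submodule.span (OSec hL.1 U) (Set.range x) := by
      rw [show Set.range x = Set.range s from EquivLike.range_comp s Equiv.ulift, hs]
      trivial
    obtain ⟨c, hc⟩ := (Submodule.mem_span_range_iff_exists_fun _).1 hy
    exact ⟨c, hc.symm⟩
  · exact (hq ▸ Submodule.subset_span ⟨k.down, rfl⟩ : q k.down ∈ LinearMap.ker p)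
  · have hc1 : c ∈ Submodule.span (OSec hL.1 U) (Set.range q) := hq ▸ (LinearMap.mem_ker.2 hc0 : c ∈ LinearMap.ker p)
    obtain ⟨d, hd⟩ := (Submodule.mem_span_range_iff_exists_fun _).1 hc1
    refine ⟨fun k => d k.down, fun i => ?_⟩
    rw [← hd, Finset.sum_apply]
    exact (Equiv.ulift.sum_comp fun k => d k * q k i).symm

/-- The sieve of opens contained in an affine open inside. -/
def affSieve (V : (𝔛.X 0).Opens) : Sieve V where
  arrows W _ := ∃ A : (𝔛.X 0).Opens, IsAffineOpen A ∧ W ≤ A ∧ A ≤ V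
  downward_closed {W W'} _ hh g := by
    obtain ⟨A, hA, h1, h2⟩ := hh
    exact ⟨A, hA, (leOfHom g).trans h1, h2⟩

theorem affSieve_mem (V : (𝔛.X 0).Opens) : affSieve V ∈ Opens.grothendieckTopology (𝔛.X 0) V := fun y hy => by
  obtain ⟨A, hA, hyA, hle⟩ := exists_isAffineOpen_mem_and_subset (x := y) (U := V) hy
  exact ⟨A, homOfLE hle, ⟨A, hA, le_rfl, hle⟩, hyA⟩

include h𝔐 in
theorem Pres.fp (hP : Pres hL 𝔐 U x r) (hU : IsAffineOpen U) : FP (𝔐.realMod hL.1) U := by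
  refine ⟨I, K, inferInstance, inferInstance, x, r, fun V g t => ?_, ⟨hP.zero, fun V g c hc => ?_⟩⟩
  · refine ⟨affSieve V, affSieve_mem V, fun W k hk => ?_⟩
    obtain ⟨A, hA, h1, h2⟩ := hk
    have hA' := hP.restrict h𝔐 hU hA (homOfLE (h2.trans (leOfHom g)))
    obtain ⟨c, hc⟩ := hA'.gen (rs _ (homOfLE h2).op t)
    refine ⟨fun i => rr (𝔛.Osh hL.1) (homOfLE h1).op (c i), ?_⟩
    have h := congrArg (fun z => rs ((forg (𝔛.Osh hL.1)).obj (𝔐.realMod hL.1)) (homOfLE h1).op z) hc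
    simp only [res, rs_rs, rs_sum, rs_smul'] at h
    rw [show k.op = (homOfLE h2).op ≫ (homOfLE h1).op from Subsingleton.elim _ _]
    refine h.trans (Finset.sum_congr rfl fun i _ => ?_)
    exact congrArg (fun z => _ • rs _ z (x i)) (Subsingleton.elim _ _)
  · refine ⟨affSieve V, affSieve_mem V, fun W k hk => ?_⟩
    obtain ⟨A, hA, h1, h2⟩ := hk
    have hA' := hP.restrict h𝔐 hU hA (homOfLE (h2.trans (leOfHom g)))
    obtain ⟨d, hd⟩ := hA'.complete (fun i => rr (𝔛.Osh hL.1) (homOfLE h2).op (c i)) (by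
      have h := congrArg (fun z => rs ((forg (𝔛.Osh hL.1)).obj (𝔐.realMod hL.1)) (homOfLE h2).op z) hc
      simp only [rs_rs, rs_sum, rs_smul', rs_zero] at h
      refine (Finset.sum_congr rfl fun i _ => ?_).trans h
      exact congrArg (fun z => _ • rs _ z (x i)) (Subsingleton.elim _ _))
    refine ⟨fun k => rr (𝔛.Osh hL.1) (homOfLE h1).op (d k), fun i => ?_⟩
    have h := congrArg (fun z => rr (𝔛.Osh hL.1) (homOfLE h1).op z) (hd i)
    simp only [rr_rr, map_sum, map_mul] at h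
    rw [show k.op = (homOfLE h2).op ≫ (homOfLE h1).op from Subsingleton.elim _ _]
    refine h.trans (Finset.sum_congr rfl fun j _ => ?_)
    exact congrArg (fun z => _ * rr (𝔛.Osh hL.1) z (r j i)) (Subsingleton.elim _ _)

include h𝔐 in
/-- The module of a coherent system is locally of finite presentation. -/
theorem isCohF_realMod : FSch.IsCohF 𝔛 hL.1 (𝔐.realMod hL.1) := by
  refine isFinitePresentation_of_lh (lh_of_coversTop (X := fun W : (𝔛.X 0).affineOpens => W.1) ?_ FP.res fun W => ?_)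
  · exact (Opens.coversTop_iff _ _).2 (iSup_affineOpens_eq_top _)
  · obtain ⟨I, K, _, _, x, r, hP⟩ := exists_pres (hL := hL) h𝔐 W.2
    exact hP.fp h𝔐 W.2

end Groth.Agent.H24FMod
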