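import Groth.Agent.H15Site.LocPres

/-!
# Finite free modules on a ringed site are finitely presented
-/

set_option autoImplicit false
set_option linter.style.haveILetI false
set_option linter.unusedSectionVars false
set_option backward.isDefEq.respectTransparency false
universe u

open CategoryTheory CategoryTheory.Limits Opposite

namespace Groth.Agent.H24FMod

open H15Site.ModTensor H15Site.ModRel H15Site.LocGen H15Site.LocPres

attribute [local instance 10000] H15Site.SiteInst.hasSheafifySite H15Site.SiteInst.hasWeakSheafifySite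

variable {C : Type u} [SmallCategory C] {J : GrothendieckTopology C} {O : Sheaf J CommRingCat.{u}}

/-- The unit module is finitely presented. -/
theorem isFinitePresentation_unit :
    SheafOfModules.IsFinitePresentation (R := ModSite.ringSh O) (SheafOfModules.unit (ModSite.ringSh O)) := by
  refine isFinitePresentation_of_lh fun Y => ⟨⊤, J.top_mem Y, fun W _ _ => ?_⟩
  refine ⟨PUnit, PEmpty, inferInstance, inferInstance, fun _ => (1 : O.obj.obj (op W)), fun k => k.elim,
    fun V g t => ?_, ⟨fun k => k.elim, fun V g c hc => ?_⟩⟩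
  · refine ⟨⊤, J.top_mem V, fun Z k _ => ⟨fun _ => rr O k.op t, ?_⟩⟩
    refine Eq.trans ?_ (Fintype.sum_unique _).symm
    let t' : O.obj.obj (op V) := t
    show rr O k.op t' = rr O k.op t' * rr O (k ≫ g).op (1 : O.obj.obj (op W))
    exact ((congrArg (rr O k.op t' * ·) (map_one (O.obj.map (k ≫ g).op).hom)).trans (mul_one _)).symm
  · refine ⟨⊤, J.top_mem V, fun Z k _ => ⟨fun j => j.elim, fun i => ?_⟩⟩
    rw [Fintype.sum_unique] at hc
    have h1 : c i = 0 := by
      have : c default * rr O g.op (1 : O.obj.obj (op W)) = 0 := hc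
      rw [Subsingleton.elim i default]
      exact ((congrArg (c default * ·) (map_one (O.obj.map g.op).hom)).trans (mul_one _)).symm.trans this
    rw [h1]
    refine (map_zero (O.obj.map k.op).hom).trans ?_
    exact (Fintype.sum_empty _).symm

open Classical in
/-- A finite free module is finitely presented. -/
theorem isFinitePresentation_free {I : Type u} [Fintype I] :
    SheafOfModules.IsFinitePresentation (R := ModSite.ringSh O) (SheafOfModules.free (R := ModSite.ringSh O) I) := by
  let R := ModSite.ringSh O
  let p : I → (SheafOfModules.free (R := R) I ⟶ SheafOfModules.unit R) := fun i =>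
    Sigma.desc fun j => if j = i then 𝟙 _ else 0
  have hι : ∀ i j, SheafOfModules.ιFree (R := R) j ≫ p i = if j = i then 𝟙 _ else 0 :=
    fun i j => Sigma.ι_desc (f := fun _ : I => SheafOfModules.unit R) _ j
  have hid : ∑ i, p i ≫ SheafOfModules.ιFree i = 𝟙 (SheafOfModules.free (R := R) I) := by
    refine Sigma.hom_ext _ _ fun j => ?_
    change SheafOfModules.ιFree (R := R) j ≫ _ = SheafOfModules.ιFree (R := R) j ≫ _
    rw [Preadditive.comp_sum, Category.comp_id, Finset.sum_eq_single j]
    · rw [← Category.assoc, hι, if_pos rfl, Category.id_comp]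
    · intro b _ hb
      rw [← Category.assoc, hι, if_neg (Ne.symm hb), zero_comp]
    · simp
  let F : ModSite.Mod O := SheafOfModules.free (R := R) I
  let e : ∀ (W : C), I → ((forg O).obj F).obj (op W) := fun W i =>
    ((SheafOfModules.ιFree (R := R) i).val.app (op W)).hom (1 : O.obj.obj (op W))
  have hsmul : ∀ {W : C} (i : I) (c : O.obj.obj (op W)),
      ((SheafOfModules.ιFree (R := R) i).val.app (op W)).hom c = c • e W i := fun {W} i c => by
    refine Eq.trans ?_ (((SheafOfModules.ιFree (R := R) i).val.app (op W)).hom.map_smul c (1 : O.obj.obj (op W)))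
    exact congrArg _ (mul_one c).symm
  have hres : ∀ {W V : C} (g : V ⟶ W) (i : I), rs ((forg O).obj F) g.op (e W i) = e V i := fun {W V} g i =>
    ((rs_app (SheafOfModules.ιFree (R := R) i).val g.op (1 : O.obj.obj (op W))).symm).trans
      (congrArg _ (map_one (O.obj.map g.op).hom))
  refine isFinitePresentation_of_lh fun Y => ⟨⊤, J.top_mem Y, fun W _ _ => ?_⟩
  refine ⟨I, PEmpty, inferInstance, inferInstance, e W, fun k => k.elim, fun V g t => ?_,
    ⟨fun k => k.elim, fun V g c hc => ?_⟩⟩
  · refine ⟨⊤, J.top_mem V, fun Z k _ => ⟨fun i => ((p i).val.app (op Z)).hom (rs ((forg O).obj F) k.op t), ?_⟩⟩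
    let ev : (F ⟶ F) →+ ((forg O).obj F).obj (op Z) :=
      AddMonoidHom.mk' (fun f => (f.val.app (op Z)).hom (rs ((forg O).obj F) k.op t)) fun _ _ => rfl
    have h := congrArg ev hid
    rw [map_sum] at h
    refine h.symm.trans (Finset.sum_congr rfl fun i _ => ?_)
    exact (hsmul i _).trans (congrArg (_ • ·) (hres (k ≫ g) i).symm)
  · refine ⟨⊤, J.top_mem V, fun Z k _ => ⟨fun j => j.elim, fun i => ?_⟩⟩
    have hc' := congrArg ((p i).val.app (op V)).hom hc
    rw [map_sum, map_zero] at hc'
    have hterm : ∀ j, ((p i).val.app (op V)).hom (c j • rs ((forg O).obj F) g.op (e W j)) =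
        if j = i then c j else (0 : O.obj.obj (op V)) := fun j => by
      rw [hres, ← hsmul]
      refine (congrArg (fun ψ : SheafOfModules.unit R ⟶ SheafOfModules.unit R => (ψ.val.app (op V)).hom (c j)) (hι i j)).trans ?_
      split <;> rfl
    have h1 : c i = 0 :=
      ((Fintype.sum_ite_eq' i c).symm.trans (Finset.sum_congr rfl fun j _ => (hterm j).symm)).trans hc'
    rw [h1]
    refine (map_zero (O.obj.map k.op).hom).trans ?_
    exact (Fintype.sum_empty _).symm

end Groth.Agent.H24FMod
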