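import Groth.Agent.H15Site.SiteGenInst
import Mathlib.CategoryTheory.Functor.OfSequence

/-!
# Cohomology of products and of sequential limits of abelian sheaves acyclic on a basis
-/

set_option autoImplicit false
set_option linter.style.haveILetI false
set_option linter.unusedSectionVars false

universe u

open CategoryTheory CategoryTheory.Limits Opposite CategoryTheory.Abelian

namespace Groth.Agent.H24FMod.LimH

attribute [local instance 10000] H15Site.SiteInst.hasSheafifySite H15Site.SiteInst.hasWeakSheafifySite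
  H15Site.SiteInst.hasExtSite H15Site.SiteInst.enoughInjSite

variable {C : Type u} [SmallCategory C] {J : GrothendieckTopology C}

/-- Every object is covered by members of `B`. -/
def IsCovering (J : GrothendieckTopology C) (B : Set C) : Prop :=
  ∀ U : C, ∃ (ι : Type u) (Y : ι → C) (f : ∀ i, Y i ⟶ U), Sieve.ofArrows Y f ∈ J U ∧ ∀ i, Y i ∈ B

/-- `F` has no higher cohomology on `B`. -/
def Acyc (B : Set C) (F : Sheaf J AddCommGrpCat.{u}) : Prop :=
  ∀ U ∈ B, ∀ p : ℕ, Subsingleton (CohSite.HU F (p + 1) U)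

variable {B : Set C}

theorem evalGen_comp {U : C} {F G : Sheaf J AddCommGrpCat.{u}} (φ : CohCx.freeSheaf J U ⟶ F) (f : F ⟶ G) :
    CohFree.evalGen J U G (φ ≫ f) = (f.hom.app (op U)).hom (CohFree.evalGen J U F φ) := rfl

theorem epi_of_surjective (hB : IsCovering J B) {F G : Sheaf J AddCommGrpCat.{u}} (f : F ⟶ G)
    (h : ∀ U ∈ B, Function.Surjective (f.hom.app (op U)).hom) : Epi f := by
  refine (Sheaf.isLocallySurjective_iff_epi' _ _).1 ⟨fun {U} s => ?_⟩
  obtain ⟨ι, YB, g, hg, hY⟩ := hB U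
  refine J.superset_covering ?_ hg
  rintro V k ⟨W, l, _, ⟨i⟩, rfl⟩
  obtain ⟨t, ht⟩ := h (YB i) (hY i) ((G.obj.map (g i).op).hom s)
  refine ⟨(F.obj.map l.op).hom t, ?_⟩
  refine (ConcreteCategory.congr_hom (f.hom.naturality l.op) t).trans ?_
  refine (congrArg (G.obj.map l.op).hom ht).trans ?_
  exact (ConcreteCategory.congr_hom (G.obj.map_comp (g i).op l.op) s).symm

section Section

variable {ι : Type u}

theorem exists_pi_sect (F : ι → Sheaf J AddCommGrpCat.{u}) (U : C) (x : ∀ i, (F i).obj.obj (op U)) :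
    ∃ y : (∏ᶜ F).obj.obj (op U), ∀ i, ((Pi.π F i).hom.app (op U)).hom y = x i :=
  ⟨CohFree.evalGen J U _ (Pi.lift fun i => CohFree.ofSect J U (F i) (x i)), fun i =>
    (evalGen_comp _ _).symm.trans ((congrArg (CohFree.evalGen J U (F i)) (Pi.lift_π _ i)).trans
      (CohFree.evalGen_ofSect J U (F i) (x i)))⟩

theorem pi_sect_ext (F : ι → Sheaf J AddCommGrpCat.{u}) (U : C) (y y' : (∏ᶜ F).obj.obj (op U))
    (h : ∀ i, ((Pi.π F i).hom.app (op U)).hom y = ((Pi.π F i).hom.app (op U)).hom y') : y = y' := by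
  apply (CohFree.homEquivSect J U _).symm.injective
  refine Pi.hom_ext _ _ fun i => (CohFree.homEquivSect J U _).injective ?_
  refine ((evalGen_comp _ _).trans ?_).trans (evalGen_comp _ _).symm
  rw [CohFree.homEquivSect_symm_apply, CohFree.homEquivSect_symm_apply, CohFree.evalGen_ofSect,
    CohFree.evalGen_ofSect]
  exact h i

end Section

theorem acyc_injective (B : Set C) (I : Sheaf J AddCommGrpCat.{u}) [Injective I] : Acyc B I :=
  fun U _ p => ⟨fun x y => (Ext.eq_zero_of_injective (X := CohCx.freeSheaf J U) x).trans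
    (Ext.eq_zero_of_injective (X := CohCx.freeSheaf J U) y).symm⟩

theorem surjective_sect_of_shortExact {S : ShortComplex (Sheaf J AddCommGrpCat.{u})} (hS : S.ShortExact)
    (h : Acyc B S.X₁) (U : C) (hU : U ∈ B) : Function.Surjective (S.g.hom.app (op U)).hom := by
  intro s
  haveI := h U hU 0
  obtain ⟨y, hy⟩ := Ext.covariant_sequence_exact₃ (CohCx.freeSheaf J U) hS
    (Ext.mk₀ (CohFree.ofSect J U S.X₃ s)) (n₁ := 1) rfl
    (Subsingleton.elim (α := CohSite.HU S.X₁ 1 U) _ _)
  obtain ⟨φ, rfl⟩ := (Ext.mk₀_bijective _ _).2 y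
  rw [Ext.mk₀_comp_mk₀] at hy
  refine ⟨CohFree.evalGen J U _ φ, (evalGen_comp _ _).symm.trans ?_⟩
  rw [(Ext.mk₀_bijective _ _).1 hy]
  exact CohFree.evalGen_ofSect J U _ s

theorem acyc_X₃ {S : ShortComplex (Sheaf J AddCommGrpCat.{u})} (hS : S.ShortExact)
    (h₁ : Acyc B S.X₁) (h₂ : Acyc B S.X₂) : Acyc B S.X₃ := by
  intro U hU p
  have h0 : ∀ x : Ext (CohCx.freeSheaf J U) S.X₃ (p + 1), x = 0 := fun x => by
    haveI := h₁ U hU (p + 1)
    haveI := h₂ U hU p
    obtain ⟨y, hy⟩ := Ext.covariant_sequence_exact₃ (CohCx.freeSheaf J U) hS x (n₁ := p + 1 + 1) rfl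
      (Subsingleton.elim (α := CohSite.HU S.X₁ (p + 1 + 1) U) _ _)
    have hy0 : y = (0 : Ext (CohCx.freeSheaf J U) S.X₂ (p + 1)) := Subsingleton.elim (α := CohSite.HU S.X₂ (p + 1) U) _ _
    rw [← hy, hy0, Ext.zero_comp]
  exact ⟨fun x y => (h0 x).trans (h0 y).symm⟩

theorem shortExact_coker {A : Type*} [Category A] [Abelian A] {X Y : A} (f : X ⟶ Y) [Mono f] :
    (ShortComplex.mk f (cokernel.π f) (cokernel.condition f)).ShortExact :=
  { exact := ShortComplex.exact_of_g_is_cokernel _ (cokernelIsCokernel f) }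

/-- A family of classes and the class on the product. -/
noncomputable def projMap {ι : Type u} (Q : Sheaf J AddCommGrpCat.{u}) (F : ι → Sheaf J AddCommGrpCat.{u})
    (p : ℕ) (x : Ext Q (∏ᶜ F) p) (i : ι) : Ext Q (F i) p :=
  x.comp (Ext.mk₀ (Pi.π F i)) (add_zero p)

theorem projMap_sub {ι : Type u} (Q : Sheaf J AddCommGrpCat.{u}) (F : ι → Sheaf J AddCommGrpCat.{u})
    (p : ℕ) (x y : Ext Q (∏ᶜ F) p) (i : ι) : projMap Q F p (x - y) i = projMap Q F p x i - projMap Q F p y i :=
  map_sub ((Ext.mk₀ (Pi.π F i)).postcomp Q (add_zero p)) x y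

theorem bijective_projMap (hB : IsCovering J B) {ι : Type u} (Q : Sheaf J AddCommGrpCat.{u}) (p : ℕ) :
    ∀ F : ι → Sheaf J AddCommGrpCat.{u}, (∀ i, Acyc B (F i)) → Function.Bijective (projMap Q F p) := by
  induction p with
  | zero =>
    intro F _
    refine ⟨fun x y hxy => ?_, fun x => ?_⟩
    · obtain ⟨φ, rfl⟩ := (Ext.mk₀_bijective _ _).2 x
      obtain ⟨ψ, rfl⟩ := (Ext.mk₀_bijective _ _).2 y
      refine congrArg Ext.mk₀ (Pi.hom_ext _ _ fun i => (Ext.mk₀_bijective _ _).1 ?_)
      have := congrFun hxy i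
      simp only [projMap, Ext.mk₀_comp_mk₀] at this
      exact this
    · choose φ hφ using fun i => (Ext.mk₀_bijective _ _).2 (x i)
      exact ⟨Ext.mk₀ (Pi.lift φ), funext fun i => by rw [← hφ i, projMap, Ext.mk₀_comp_mk₀, Pi.lift_π]⟩
  | succ p ih =>
    intro F hF
    let I := fun i => Injective.under (F i)
    let S := fun i => ShortComplex.mk (Injective.ι (F i)) (cokernel.π (Injective.ι (F i))) (cokernel.condition _)
    have hS : ∀ i, (S i).ShortExact := fun i => shortExact_coker _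
    let R := fun i => cokernel (Injective.ι (F i))
    have hI : ∀ i, Acyc B (I i) := fun i => acyc_injective B (I i)
    have hR : ∀ i, Acyc B (R i) := fun i => acyc_X₃ (hS i) (hF i) (hI i)
    let T : ShortComplex (Sheaf J AddCommGrpCat.{u}) :=
      ShortComplex.mk (Limits.Pi.map (f := F) (g := I) fun i => Injective.ι (F i))
        (Limits.Pi.map (f := I) (g := R) fun i => cokernel.π (Injective.ι (F i)))
        (Pi.hom_ext _ _ fun i => by simp)
    have hT : T.ShortExact := by
      haveI : Mono T.f := inferInstanceAs (Mono (Limits.Pi.map (f := F) (g := I) fun i => Injective.ι (F i)))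
      haveI : Epi T.g := by
        refine epi_of_surjective hB _ fun U hU s => ?_
        choose t ht using fun i => surjective_sect_of_shortExact (hS i) (hF i) U hU
          (((Pi.π R i).hom.app (op U)).hom s)
        obtain ⟨y, hy⟩ := exists_pi_sect I U t
        refine ⟨y, pi_sect_ext R U _ _ fun i => ?_⟩
        refine (ConcreteCategory.congr_hom (NatTrans.congr_app
          (congrArg (fun φ => φ.hom) (Pi.map_π (f := I) (g := R) (fun i => cokernel.π (Injective.ι (F i))) i))
          (op U)) y).trans ?_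
        exact (congrArg ((cokernel.π (Injective.ι (F i))).hom.app (op U)).hom (hy i)).trans (ht i)
      refine { exact := ShortComplex.exact_of_f_is_kernel _ (KernelFork.IsLimit.ofι' _ _ fun {W} k hk => ?_) }
      have hk' : ∀ i, (k ≫ Pi.π I i) ≫ (S i).g = 0 := fun i => by
        have := congrArg (· ≫ Pi.π R i) hk
        simpa [T, S] using this
      haveI : ∀ i, Mono (S i).f := fun i => (hS i).mono_f
      refine ⟨Pi.lift fun i => (hS i).exact.lift (k ≫ Pi.π I i) (hk' i), Pi.hom_ext _ _ fun i => ?_⟩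
      simp only [T, Category.assoc, Pi.map_π]
      rw [← Category.assoc, Pi.lift_π]
      exact (hS i).exact.lift_f _ _
    let π : ∀ i, T ⟶ S i := fun i => ShortComplex.homMk (Pi.π F i) (Pi.π I i) (Pi.π R i)
      (Pi.map_π (f := F) (g := I) (fun i => Injective.ι (F i)) i).symm
      (Pi.map_π (f := I) (g := R) (fun i => cokernel.π (Injective.ι (F i))) i).symm
    have hδ : ∀ (y : Ext Q (∏ᶜ R) p) (i : ι),
        projMap Q F (p + 1) (y.comp hT.extClass rfl) i = (projMap Q R p y i).comp (hS i).extClass rfl := by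
      intro y i
      have hn := ShortComplex.ShortExact.extClass_naturality hT (hS i) (π i)
      simp only [π, ShortComplex.homMk_τ₁, ShortComplex.homMk_τ₃] at hn
      unfold projMap
      rw [Ext.comp_assoc _ _ _ rfl (add_zero 1) (by omega), hn,
        ← Ext.comp_assoc _ _ _ (add_zero p) (zero_add 1) (by omega)]
    have hg : ∀ (z : Ext Q (∏ᶜ I) p) (i : ι),
        projMap Q R p (z.comp (Ext.mk₀ T.g) (add_zero p)) i =
          (projMap Q I p z i).comp (Ext.mk₀ (S i).g) (add_zero p) := by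
      intro z i
      unfold projMap
      rw [Ext.comp_assoc_of_second_deg_zero, Ext.mk₀_comp_mk₀]
      conv_rhs => rw [Ext.comp_assoc_of_second_deg_zero, Ext.mk₀_comp_mk₀]
      exact congrArg (fun f => z.comp (Ext.mk₀ f) (add_zero p)) (Pi.map_π (f := I) (g := R) (fun i => cokernel.π (Injective.ι (F i))) i)
    refine ⟨fun x x' hxx => sub_eq_zero.1 ?_, fun x => ?_⟩
    · have h0 : ∀ i, projMap Q F (p + 1) (x - x') i = 0 := fun i => by
        rw [projMap_sub, hxx, sub_self]
      obtain ⟨y, hy⟩ := Ext.covariant_sequence_exact₁ Q hT (x - x') (Ext.eq_zero_of_injective _) rfl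
      rw [← hy] at h0 ⊢
      choose z hz using fun i => Ext.covariant_sequence_exact₃ Q (hS i) (projMap Q R p y i) rfl
        ((hδ y i).symm.trans (h0 i))
      obtain ⟨w, hw⟩ := (ih I hI).2 z
      have : y = w.comp (Ext.mk₀ T.g) (add_zero p) := (ih R hR).1 (funext fun i => by
        rw [hg, hw]
        exact (hz i).symm)
      rw [this, Ext.comp_assoc _ _ _ (add_zero p) (zero_add 1) (by omega), ShortComplex.ShortExact.comp_extClass]
      exact Ext.comp_zero _ _ _ _ _
    · choose y hy using fun i => Ext.covariant_sequence_exact₁ Q (hS i) (x i) (Ext.eq_zero_of_injective _) rfl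
      obtain ⟨w, hw⟩ := (ih R hR).2 y
      exact ⟨w.comp hT.extClass rfl, funext fun i => by
        rw [hδ, hw]
        exact hy i⟩

section Seq

variable (F : ℕᵒᵖ ⥤ Sheaf J AddCommGrpCat.{u})

/-- The terms. -/
noncomputable abbrev term (n : ULift.{u} ℕ) : Sheaf J AddCommGrpCat.{u} := F.obj (op n.down)

/-- The transition maps. -/
noncomputable abbrev trans (n : ℕ) : F.obj (op (n + 1)) ⟶ F.obj (op n) :=
  F.map (homOfLE (Nat.le_succ n)).op

/-- `1 - shift` on the product. -/
noncomputable def diff : ∏ᶜ term F ⟶ ∏ᶜ term F :=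
  Pi.lift fun n => Pi.π (term F) n - Pi.π (term F) ⟨n.down + 1⟩ ≫ trans F n.down

theorem diff_π (n : ULift.{u} ℕ) :
    diff F ≫ Pi.π (term F) n = Pi.π (term F) n - Pi.π (term F) ⟨n.down + 1⟩ ≫ trans F n.down :=
  Pi.lift_π _ n

/-- The map from the limit to the product. -/
noncomputable def emb : limit F ⟶ ∏ᶜ term F :=
  Pi.lift fun n => limit.π F (op n.down)

theorem emb_π (n : ULift.{u} ℕ) : emb F ≫ Pi.π (term F) n = limit.π F (op n.down) := Pi.lift_π _ n

theorem emb_diff : emb F ≫ diff F = 0 := by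
  refine Pi.hom_ext _ _ fun n => ?_
  rw [Category.assoc, diff_π, Preadditive.comp_sub, emb_π, ← Category.assoc, emb_π, zero_comp, sub_eq_zero]
  exact (limit.w F (homOfLE (Nat.le_succ n.down)).op).symm

theorem shortExact_lim (hB : IsCovering J B)
    (hs : ∀ U ∈ B, ∀ n, Function.Surjective ((trans F n).hom.app (op U)).hom) :
    (ShortComplex.mk (emb F) (diff F) (emb_diff F)).ShortExact := by
  have hmono : Mono (emb F) := ⟨fun a b h => limit.hom_ext fun n => by
    have := congrArg (· ≫ Pi.π (term F) ⟨n.unop⟩) h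
    simp only [Category.assoc, emb_π] at this
    exact this⟩
  have hepi : Epi (diff F) := by
    refine epi_of_surjective hB _ fun U hU s => ?_
    have hr : ∀ (n : ℕ) (v : (F.obj (op n)).obj.obj (op U)),
        ∃ w : (F.obj (op (n + 1))).obj.obj (op U),
          ((trans F n).hom.app (op U)).hom w = v - ((Pi.π (term F) ⟨n⟩).hom.app (op U)).hom s :=
      fun n v => hs U hU n _
    choose r hr using hr
    let x : ∀ n : ℕ, (F.obj (op n)).obj.obj (op U) := fun n => Nat.rec 0 (fun k v => r k v) n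
    obtain ⟨y, hy⟩ := exists_pi_sect (term F) U fun n => x n.down
    refine ⟨y, pi_sect_ext (term F) U _ _ fun n => ?_⟩
    refine (ConcreteCategory.congr_hom (NatTrans.congr_app
      (congrArg (fun φ => φ.hom) (diff_π F n)) (op U)) y).trans ?_
    refine (show _ = ((Pi.π (term F) n).hom.app (op U)).hom y -
      ((trans F n.down).hom.app (op U)).hom (((Pi.π (term F) ⟨n.down + 1⟩).hom.app (op U)).hom y) from rfl).trans ?_
    rw [hy, hy]
    exact (congrArg (x n.down - ·) (hr n.down (x n.down))).trans (sub_sub_cancel _ _)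
  refine { exact := ShortComplex.exact_of_f_is_kernel _ (KernelFork.IsLimit.ofι' _ _ fun {W} k hk => ?_) }
  have hc : ∀ n : ℕ, (k ≫ Pi.π (term F) ⟨n + 1⟩) ≫ trans F n = k ≫ Pi.π (term F) ⟨n⟩ := fun n => by
    have := congrArg (· ≫ Pi.π (term F) (⟨n⟩ : ULift.{u} ℕ)) hk
    simp only [Category.assoc, diff_π, Preadditive.comp_sub, zero_comp, sub_eq_zero] at this
    rw [Category.assoc]
    exact this.symm
  refine ⟨limit.lift F ⟨W, NatTrans.ofOpSequence (F := (Functor.const ℕᵒᵖ).obj W) (G := F)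
    (fun n => k ≫ Pi.π (term F) ⟨n⟩) fun n => (Category.id_comp _).trans (hc n).symm⟩, Pi.hom_ext _ _ fun n => ?_⟩
  rw [Category.assoc, emb_π, limit.lift_π]
  rfl

variable (hB : IsCovering J B) (hF : ∀ n, Acyc B (F.obj (op n)))
  (hs : ∀ U ∈ B, ∀ n, Function.Surjective ((trans F n).hom.app (op U)).hom)
  (Q : Sheaf J AddCommGrpCat.{u})

include hB hF hs in
theorem exists_lift (p : ℕ) (ξ : ∀ n : ℕ, Ext Q (F.obj (op n)) p)
    (hξ : ∀ n, (ξ (n + 1)).comp (Ext.mk₀ (trans F n)) (add_zero p) = ξ n) :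
    ∃ η : Ext Q (limit F) p, ∀ n, η.comp (Ext.mk₀ (limit.π F (op n))) (add_zero p) = ξ n := by
  obtain ⟨x, hx⟩ := (bijective_projMap hB Q p (term F) fun n => hF n.down).2 fun n => ξ n.down
  have hd : x.comp (Ext.mk₀ (diff F)) (add_zero p) = 0 :=
    (bijective_projMap hB Q p (term F) fun n => hF n.down).1 (funext fun n => by
      have hn := congrFun hx n
      have hn1 := congrFun hx (⟨n.down + 1⟩ : ULift.{u} ℕ)
      unfold projMap at hn hn1 ⊢
      rw [Ext.comp_assoc_of_second_deg_zero, Ext.mk₀_comp_mk₀, diff_π, Ext.zero_comp, sub_eq_add_neg,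
        Ext.mk₀_add, Ext.comp_add, Ext.mk₀_neg, Ext.comp_neg, ← sub_eq_add_neg, ← Ext.mk₀_comp_mk₀,
        ← Ext.comp_assoc_of_second_deg_zero, hn, hn1, hξ, sub_self])
  obtain ⟨η, hη⟩ := Ext.covariant_sequence_exact₂ Q (shortExact_lim F hB hs) x hd
  refine ⟨η, fun n => Eq.trans ?_ (congrFun hx ⟨n⟩)⟩
  rw [projMap, ← hη, Ext.comp_assoc_of_second_deg_zero, Ext.mk₀_comp_mk₀, emb_π]

include hB hF hs in
theorem exists_delta (p : ℕ) (η : Ext Q (limit F) (p + 1))
    (hη : ∀ n : ℕ, η.comp (Ext.mk₀ (limit.π F (op n))) (add_zero _) = 0) :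
    ∃ w : Ext Q (∏ᶜ term F) p, w.comp (shortExact_lim F hB hs).extClass rfl = η := by
  refine Ext.covariant_sequence_exact₁ Q (shortExact_lim F hB hs) η ?_ rfl
  refine (bijective_projMap hB Q (p + 1) (term F) fun n => hF n.down).1 (funext fun n => ?_)
  unfold projMap
  rw [Ext.comp_assoc_of_second_deg_zero, Ext.mk₀_comp_mk₀, emb_π, Ext.zero_comp]
  exact hη n.down

include hB hF hs in
/-- The lift is unique when `lim¹` of the groups one degree down vanishes. -/
theorem eq_zero_of_limOne (p : ℕ)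
    (h1 : ∀ z : ∀ n : ℕ, Ext Q (F.obj (op n)) p, ∃ w : ∀ n : ℕ, Ext Q (F.obj (op n)) p,
      ∀ n, w n - (w (n + 1)).comp (Ext.mk₀ (trans F n)) (add_zero p) = z n)
    (η : Ext Q (limit F) (p + 1))
    (hη : ∀ n : ℕ, η.comp (Ext.mk₀ (limit.π F (op n))) (add_zero _) = 0) : η = 0 := by
  obtain ⟨v, rfl⟩ := exists_delta F hB hF hs Q p η hη
  obtain ⟨w, hw⟩ := h1 fun n => projMap Q (term F) p v ⟨n⟩
  obtain ⟨x, hx⟩ := (bijective_projMap hB Q p (term F) fun n => hF n.down).2 fun n => w n.down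
  have : x.comp (Ext.mk₀ (diff F)) (add_zero p) = v :=
    (bijective_projMap hB Q p (term F) fun n => hF n.down).1 (funext fun n => by
      refine Eq.trans ?_ (hw n.down)
      have hn := congrFun hx n
      have hn1 := congrFun hx (⟨n.down + 1⟩ : ULift.{u} ℕ)
      unfold projMap at hn hn1 ⊢
      rw [Ext.comp_assoc_of_second_deg_zero, Ext.mk₀_comp_mk₀, diff_π, sub_eq_add_neg,
        Ext.mk₀_add, Ext.comp_add, Ext.mk₀_neg, Ext.comp_neg, ← sub_eq_add_neg, ← Ext.mk₀_comp_mk₀,
        ← Ext.comp_assoc_of_second_deg_zero, hn, hn1])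
  rw [← this, Ext.comp_assoc _ _ _ (add_zero p) (zero_add 1) (by omega)]
  exact (congrArg (fun c => x.comp c (rfl : p + 1 = p + 1))
    (shortExact_lim F hB hs).comp_extClass).trans (Ext.comp_zero _ _ _ _ _)

include hB hF hs in
theorem eq_zero_zero (η : Ext Q (limit F) 0)
    (hη : ∀ n : ℕ, η.comp (Ext.mk₀ (limit.π F (op n))) (add_zero _) = 0) : η = 0 := by
  obtain ⟨φ, rfl⟩ := (Ext.mk₀_bijective _ _).2 η
  rw [show φ = 0 from limit.hom_ext fun n => by
    have := hη n.unop
    rw [Ext.mk₀_comp_mk₀, Ext.mk₀_eq_zero_iff] at this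
    rw [zero_comp]
    exact this, Ext.mk₀_zero]

/-- Classes on the product of the terms are families of classes. -/
noncomputable def prodEquiv (p : ℕ) : Ext Q (∏ᶜ term F) p ≃+ (∀ n : ℕ, Ext Q (F.obj (op n)) p) :=
  AddEquiv.ofBijective
    (AddMonoidHom.mk' (fun x n => projMap Q (term F) p x ⟨n⟩) fun x y => funext fun n =>
      map_add ((Ext.mk₀ (Pi.π (term F) (⟨n⟩ : ULift.{u} ℕ))).postcomp Q (add_zero p)) x y)
    ⟨fun x y h => (bijective_projMap hB Q p (term F) fun n => hF n.down).1 (funext fun n => congrFun h n.down),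
      fun z => by
        obtain ⟨x, hx⟩ := (bijective_projMap hB Q p (term F) fun n => hF n.down).2 fun n => z n.down
        exact ⟨x, funext fun n => congrFun hx ⟨n⟩⟩⟩

include hF in
theorem prodEquiv_diff (p : ℕ) (x : Ext Q (∏ᶜ term F) p) (n : ℕ) :
    prodEquiv F hB hF Q p (x.comp (Ext.mk₀ (diff F)) (add_zero p)) n =
      prodEquiv F hB hF Q p x n -
        (prodEquiv F hB hF Q p x (n + 1)).comp (Ext.mk₀ (trans F n)) (add_zero p) := by
  show (x.comp (Ext.mk₀ (diff F)) (add_zero p)).comp (Ext.mk₀ (Pi.π (term F) (⟨n⟩ : ULift.{u} ℕ))) (add_zero p) =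
    x.comp (Ext.mk₀ (Pi.π (term F) (⟨n⟩ : ULift.{u} ℕ))) (add_zero p) -
      (x.comp (Ext.mk₀ (Pi.π (term F) (⟨n + 1⟩ : ULift.{u} ℕ))) (add_zero p)).comp (Ext.mk₀ (trans F n)) (add_zero p)
  rw [Ext.comp_assoc_of_second_deg_zero, Ext.mk₀_comp_mk₀, diff_π, sub_eq_add_neg,
    Ext.mk₀_add, Ext.comp_add, Ext.mk₀_neg, Ext.comp_neg, ← sub_eq_add_neg, ← Ext.mk₀_comp_mk₀,
    ← Ext.comp_assoc_of_second_deg_zero]

include hB hF hs in
/-- The classes with zero projections are `lim¹` of the groups one degree down. -/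
theorem nonempty_kerEquiv (p : ℕ) :
    Nonempty ((AddMonoidHom.pi fun n : ℕ => (Ext.mk₀ (limit.π F (op n))).postcomp Q (add_zero (p + 1))).ker ≃+
      (∀ n : ℕ, Ext Q (F.obj (op n)) p) ⧸ (AddMonoidHom.pi fun n : ℕ =>
        Pi.evalAddMonoidHom (fun m : ℕ => Ext Q (F.obj (op m)) p) n -
        ((Ext.mk₀ (trans F n)).postcomp Q (add_zero p)).comp
          (Pi.evalAddMonoidHom (fun m : ℕ => Ext Q (F.obj (op m)) p) (n + 1))).range) := by
  let P := prodEquiv F hB hF Q p
  have hS := shortExact_lim F hB hs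
  let Φ : (∀ n : ℕ, Ext Q (F.obj (op n)) p) →+
      (AddMonoidHom.pi fun n : ℕ => (Ext.mk₀ (limit.π F (op n))).postcomp Q (add_zero (p + 1))).ker :=
    ((hS.extClass.postcomp Q rfl).comp P.symm.toAddMonoidHom).codRestrict _ fun z => by
      rw [AddMonoidHom.mem_ker]
      refine funext fun n => ?_
      show ((P.symm z).comp hS.extClass rfl).comp (Ext.mk₀ (limit.π F (op n))) (add_zero _) = 0
      rw [← emb_π F ⟨n⟩, ← Ext.mk₀_comp_mk₀, ← Ext.comp_assoc_of_second_deg_zero,
        Ext.comp_assoc _ _ _ rfl (add_zero 1) (by omega),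
        show hS.extClass.comp (Ext.mk₀ (emb F)) (add_zero 1) = 0 from hS.extClass_comp, Ext.comp_zero, Ext.zero_comp]
  have hsurj : Function.Surjective Φ := fun η => by
    obtain ⟨w, hw⟩ := exists_delta F hB hF hs Q p η.1 fun n => congrFun (AddMonoidHom.mem_ker.1 η.2) n
    exact ⟨P w, Subtype.ext ((congrArg (fun v => v.comp hS.extClass rfl) (P.symm_apply_apply w)).trans hw)⟩
  refine ⟨(QuotientAddGroup.quotientKerEquivOfSurjective Φ hsurj).symm.trans
    (QuotientAddGroup.quotientAddEquivOfEq ?_)⟩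
  refine le_antisymm (fun z hz => ?_) ?_
  · obtain ⟨w, hw⟩ := Ext.covariant_sequence_exact₃ Q hS (P.symm z) rfl (congrArg Subtype.val (AddMonoidHom.mem_ker.1 hz))
    exact ⟨P w, funext fun n => ((prodEquiv_diff F hB hF Q p w n).symm.trans
      ((congrArg (fun v => P v n) hw).trans (congrFun (P.apply_symm_apply z) n)))⟩
  · rintro _ ⟨y, rfl⟩
    refine AddMonoidHom.mem_ker.2 (Subtype.ext ?_)
    refine (congrArg (fun v => v.comp hS.extClass rfl) (P.symm_apply_eq.2 (funext fun n => ?_) :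
      _ = (P.symm y).comp (Ext.mk₀ (diff F)) (add_zero p))).trans ?_
    · have := prodEquiv_diff F hB hF Q p (P.symm y) n
      rw [P.apply_symm_apply] at this
      exact this.symm
    · rw [Ext.comp_assoc _ _ _ (add_zero p) (zero_add 1) (by omega)]
      exact (congrArg (fun c => (P.symm y).comp c (rfl : p + 1 = p + 1)) hS.comp_extClass).trans (Ext.comp_zero _ _ _ _ _)

end Seq

end Groth.Agent.H24FMod.LimH
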