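import Groth.Agent.H15Site.ClosedPushAb
import Groth.Agent.H15Site.CohTerminal
import Groth.Agent.H10Coh.ExtMap
import Groth.Prelude.Def_ModSite

/-!
# Cohomology of the direct image of a sheaf of modules along a closed embedding

The instances are variables and the groups are written out as `Sheaf.H`, so that specialisations are cheap for the
kernel.
-/

set_option autoImplicit false
set_option linter.style.haveILetI false
set_option linter.unusedSectionVars false

universe u

open CategoryTheory CategoryTheory.Limits Opposite TopologicalSpace CategoryTheory.Abelian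

namespace Groth.Agent.H24FMod.PushHC

variable {Z X : TopCat.{u}} (i : Z ⟶ X)
  [HasSheafify (Opens.grothendieckTopology Z) AddCommGrpCat.{u}]
  [HasExt.{u} (Sheaf (Opens.grothendieckTopology Z) AddCommGrpCat.{u})]
  [EnoughInjectives (Sheaf (Opens.grothendieckTopology Z) AddCommGrpCat.{u})]
  [HasSheafify (Opens.grothendieckTopology X) AddCommGrpCat.{u}]
  [HasExt.{u} (Sheaf (Opens.grothendieckTopology X) AddCommGrpCat.{u})]

/-- Maps out of the constant sheaf. -/
noncomputable def constEquiv {Y : TopCat.{u}} [HasSheafify (Opens.grothendieckTopology Y) AddCommGrpCat.{u}]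
    (F : Sheaf (Opens.grothendieckTopology Y) AddCommGrpCat.{u}) :
    ((constantSheaf (Opens.grothendieckTopology Y) AddCommGrpCat.{u}).obj (AddCommGrpCat.of (ULift ℤ)) ⟶ F) ≃+
      F.obj.obj (op ⊤) :=
  ((constantSheafAdj _ AddCommGrpCat (Preorder.isTerminalTop (Opens Y))).homAddEquiv _ F).trans
    (AddCommGrpCat.uliftZMultiplesAddEquiv _)

theorem constEquiv_comp {Y : TopCat.{u}} [HasSheafify (Opens.grothendieckTopology Y) AddCommGrpCat.{u}]
    {F G : Sheaf (Opens.grothendieckTopology Y) AddCommGrpCat.{u}}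
    (φ : (constantSheaf (Opens.grothendieckTopology Y) AddCommGrpCat.{u}).obj (AddCommGrpCat.of (ULift ℤ)) ⟶ F)
    (ψ : F ⟶ G) : constEquiv G (φ ≫ ψ) = (ψ.hom.app (op (⊤ : Opens Y))).hom (constEquiv F φ) := by
  simp only [constEquiv, AddEquiv.trans_apply]
  rfl

theorem exists_pushH (hi : Topology.IsClosedEmbedding i) (n : ℕ) :
    ∃ Φ : ∀ F : Sheaf (Opens.grothendieckTopology Z) AddCommGrpCat.{u}, Sheaf.H F n ≃+ Sheaf.H ((CohTop.push i).obj F) n,
      ∀ (F G : Sheaf (Opens.grothendieckTopology Z) AddCommGrpCat.{u}) (f : F ⟶ G) (x : Sheaf.H F n),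
        Sheaf.H.map ((CohTop.push i).map f) n (Φ F x) = Φ G (Sheaf.H.map f n x) := by
  haveI := H15Site.ClosedPushAb.push_preservesFiniteLimits i
  haveI := H15Site.ClosedPushAb.push_preservesFiniteColimits i hi
  let Q := (constantSheaf (Opens.grothendieckTopology Z) AddCommGrpCat.{u}).obj (AddCommGrpCat.of (ULift.{u} ℤ))
  let Q' := (constantSheaf (Opens.grothendieckTopology X) AddCommGrpCat.{u}).obj (AddCommGrpCat.of (ULift.{u} ℤ))
  let e : Q' ⟶ (CohTop.push i).obj Q := (constEquiv _).symm (constEquiv Q (𝟙 Q))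
  have hb : ∀ G : CohTop.Ab Z, Function.Bijective fun φ : Q ⟶ G => e ≫ (CohTop.push i).map φ := fun G => by
    have h : ∀ φ : Q ⟶ G, constEquiv ((CohTop.push i).obj G) (e ≫ (CohTop.push i).map φ) = constEquiv G φ := fun φ => by
      refine (constEquiv_comp e ((CohTop.push i).map φ)).trans ?_
      refine (congrArg (((CohTop.push i).map φ).hom.app (op (⊤ : Opens X))).hom ((constEquiv _).apply_symm_apply _)).trans ?_
      refine Eq.trans ?_ (congrArg (constEquiv G) (Category.id_comp φ))
      exact (constEquiv_comp (𝟙 Q) φ).symm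
    refine (Function.Bijective.of_comp_iff' (constEquiv ((CohTop.push i).obj G)).bijective _).1 ?_
    rw [show ⇑(constEquiv ((CohTop.push i).obj G)) ∘ (fun φ : Q ⟶ G => e ≫ (CohTop.push i).map φ) =
      ⇑(constEquiv G) from funext h]
    exact (constEquiv G).bijective
  have hI : ∀ (I : CohTop.Ab Z) [Injective I] (m : ℕ), Subsingleton (Ext Q' ((CohTop.push i).obj I) (m + 1)) :=
    fun I _ m => by
      haveI := H15Site.ClosedPushAb.push_injective i I
      exact subsingleton_of_forall_eq 0 Ext.eq_zero_of_injective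
  refine ⟨fun F => H10Coh.extMapEquiv (CohTop.push i) e hb (fun I _ m => hI I m) n F, fun F G f x => ?_⟩
  exact (H10Coh.extMap_naturality (CohTop.push i) e f n x).symm

variable {OZ : Sheaf (Opens.grothendieckTopology Z) CommRingCat.{u}}
  {OX : Sheaf (Opens.grothendieckTopology X) CommRingCat.{u}}
  (s : OX ⟶ ((Opens.map i).sheafPushforwardContinuous CommRingCat.{u} (Opens.grothendieckTopology X) (Opens.grothendieckTopology Z)).obj OZ)

theorem exists_pushMod (hi : Topology.IsClosedEmbedding i) (n : ℕ) :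
    ∃ Φ : ∀ F : ModSite.Mod OZ, Sheaf.H ((SheafOfModules.toSheaf (ModSite.ringSh OZ)).obj F) n ≃+
        Sheaf.H ((SheafOfModules.toSheaf (ModSite.ringSh OX)).obj ((ModSite.RMor.ofFlat (Opens.map i) s).push.obj F)) n,
      ∀ (F G : ModSite.Mod OZ) (f : F ⟶ G) (x : Sheaf.H ((SheafOfModules.toSheaf (ModSite.ringSh OZ)).obj F) n),
        Sheaf.H.map ((SheafOfModules.toSheaf _).map ((ModSite.RMor.ofFlat (Opens.map i) s).push.map f)) n (Φ F x) =
          Φ G (Sheaf.H.map ((SheafOfModules.toSheaf _).map f) n x) := by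
  obtain ⟨Φ, hΦ⟩ := exists_pushH i hi n
  exact ⟨fun F => Φ ((SheafOfModules.toSheaf _).obj F), fun F G f x => hΦ _ _ ((SheafOfModules.toSheaf _).map f) x⟩

end Groth.Agent.H24FMod.PushHC
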