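import Groth.Agent.H16Derived.ML
import Mathlib.Algebra.BigOperators.Intervals

/-!
# `lim¹` of a Mittag-Leffler sequence of abelian groups vanishes
-/

set_option autoImplicit false

universe v

open CategoryTheory Opposite

namespace Groth.Agent.H24FMod.MLOne

open H16Derived.ML

variable (A : ℕᵒᵖ ⥤ AddCommGrpCat.{v})

/-- The elements which are images from every level. -/
def stableImage (n : ℕ) : AddSubgroup (A.obj (op n)) :=
  ⨅ (m : ℕ) (h : n ≤ m), (trHom A h).range

theorem mem_stableImage {n : ℕ} {x : A.obj (op n)} :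
    x ∈ stableImage A n ↔ ∀ (m : ℕ) (h : n ≤ m), ∃ y, trHom A h y = x := by
  simp [stableImage, AddSubgroup.mem_iInf]

theorem trHom_self (n : ℕ) (x : A.obj (op n)) : trHom A (le_refl n) x = x :=
  tr_refl (A ⋙ forget AddCommGrpCat) x

theorem exists_limOne_of_isMittagLeffler (hA : (A ⋙ forget AddCommGrpCat).IsMittagLeffler)
    (z : ∀ n : ℕ, A.obj (op n)) :
    ∃ w : ∀ n : ℕ, A.obj (op n), ∀ n, w n - trHom A (Nat.le_succ n) (w (n + 1)) = z n := by
  classical
  choose K hK hK' using (isMittagLeffler_iff_ab A).1 hA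
  have hstable : ∀ (n m : ℕ) (h : n ≤ m) (x : A.obj (op m)), K n ≤ m → trHom A h x ∈ stableImage A n := by
    intro n m h x hm
    refine (mem_stableImage A).2 fun l hl => ?_
    obtain ⟨y, hy⟩ := hK' n (max l (K n)) (le_max_right _ _) (trHom A hm x)
    exact ⟨trHom A (le_max_left _ _) y, by rw [trHom_trHom]; exact hy.trans (trHom_trHom A _ _ x)⟩
  have hsurj : ∀ n, ∀ y ∈ stableImage A n, ∃ y' ∈ stableImage A (n + 1), trHom A (Nat.le_succ n) y' = y := by
    intro n y hy
    obtain ⟨x, hx⟩ := (mem_stableImage A).1 hy (max (n + 1) (K (n + 1))) (le_trans (Nat.le_succ n) (le_max_left _ _))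
    exact ⟨trHom A (le_max_left _ _) x, hstable _ _ _ x (le_max_right _ _), by rw [trHom_trHom]; exact hx⟩
  -- the partial sums of the `z`
  let f : ∀ n m : ℕ, A.obj (op n) := fun n m => if h : n ≤ m then trHom A h (z m) else 0
  let M : ℕ → ℕ := fun n => max (K n) n
  let w' : ∀ n : ℕ, A.obj (op n) := fun n => ∑ m ∈ Finset.range (M n), f n m
  have hf : ∀ n m, K n ≤ m → f n m ∈ stableImage A n := fun n m hm => by
    by_cases h : n ≤ m
    · simp only [f, dif_pos h]
      exact hstable n m h _ hm
    · simp only [f, dif_neg h]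
      exact zero_mem _
  have hsum : ∀ n a b, a ≤ b → K n ≤ a →
      (∑ m ∈ Finset.range b, f n m) - ∑ m ∈ Finset.range a, f n m ∈ stableImage A n := by
    intro n a b hab ha
    rw [← Finset.sum_Ico_eq_sub (f n) hab]
    exact sum_mem fun m hm => hf n m (le_trans ha (Finset.mem_Ico.1 hm).1)
  have he : ∀ n, z n - (w' n - trHom A (Nat.le_succ n) (w' (n + 1))) ∈ stableImage A n := by
    intro n
    let L := max (max (M n) (M (n + 1))) (n + 1)
    have h1 : trHom A (Nat.le_succ n) (∑ m ∈ Finset.range L, f (n + 1) m) =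
        (∑ m ∈ Finset.range L, f n m) - z n := by
      have hterm : ∀ m, trHom A (Nat.le_succ n) (f (n + 1) m) = f n m - Pi.single (M := fun _ => A.obj (op n)) n (z n) m := by
        intro m
        rcases lt_trichotomy m n with h | rfl | h
        · simp [f, dif_neg (show ¬ n ≤ m by omega), dif_neg (show ¬ n + 1 ≤ m by omega), h.ne]
        · simp [f, trHom_self]
        · simp only [f, dif_pos (show n ≤ m by omega), dif_pos (show n + 1 ≤ m by omega), trHom_trHom,
            Pi.single_eq_of_ne h.ne', sub_zero]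
      rw [map_sum, Finset.sum_congr rfl fun m _ => hterm m, Finset.sum_sub_distrib,
        Finset.sum_pi_single', if_pos (Finset.mem_range.2 (lt_of_lt_of_le (Nat.lt_succ_self n) (le_max_right _ _)))]
    have hM : ∀ k, K k ≤ M k := fun k => le_max_left _ _
    have ha := hsum n (M n) L (le_trans (le_max_left _ _) (le_max_left _ _)) (hM n)
    have hb := hsum (n + 1) (M (n + 1)) L (le_trans (le_max_right _ _) (le_max_left _ _)) (hM (n + 1))
    have hb' : trHom A (Nat.le_succ n) ((∑ m ∈ Finset.range L, f (n + 1) m) - w' (n + 1)) ∈ stableImage A n := by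
      refine (mem_stableImage A).2 fun m hm => ?_
      obtain ⟨y, hy⟩ := (mem_stableImage A).1 hb (max m (n + 1)) (le_max_right _ _)
      exact ⟨trHom A (le_max_left _ _) y, by rw [← hy, trHom_trHom, trHom_trHom]⟩
    have := sub_mem ha hb'
    rw [map_sub, h1] at this
    convert this using 1
    abel
  choose up hup hup' using hsurj
  let e := fun n => z n - (w' n - trHom A (Nat.le_succ n) (w' (n + 1)))
  let v : ∀ n : ℕ, stableImage A n := fun n =>
    Nat.rec ⟨0, zero_mem _⟩ (fun k x => ⟨up k (x.1 - e k) (sub_mem x.2 (he k)), hup _ _ _⟩) n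
  refine ⟨fun n => w' n + ((v n).1 : A.obj (op n)), fun n => ?_⟩
  have hv : trHom A (Nat.le_succ n) (v (n + 1)).1 = ((v n).1 : A.obj (op n)) - e n := hup' _ _ _
  rw [map_add, hv]
  simp only [e]
  abel

end Groth.Agent.H24FMod.MLOne
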