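import Groth.Agent.H24FMod.LimH
import Groth.Agent.H24FMod.MLOne
import Groth.Prelude.Def_CohTop
import Mathlib.CategoryTheory.Sites.SheafCohomology.Basic
import Mathlib.Topology.Sheaves.Points

/-!
# Cohomology of limits of abelian sheaves on topological spaces
-/

set_option autoImplicit false
set_option linter.style.haveILetI false
set_option linter.unusedSectionVars false

universe u

open CategoryTheory CategoryTheory.Limits Opposite TopologicalSpace CategoryTheory.Abelian

namespace Groth.Agent.H24FMod.LimTop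

attribute [local instance 10000] H15Site.SiteInst.hasSheafifySite H15Site.SiteInst.hasWeakSheafifySite
  H15Site.SiteInst.hasExtSite H15Site.SiteInst.enoughInjSite

variable {X : TopCat.{u}} {B : Set (Opens X)}

theorem isCovering_of_isBasis (hB : Opens.IsBasis B) : LimH.IsCovering (Opens.grothendieckTopology X) B := by
  intro U
  refine ⟨{V : Opens X // V ∈ B ∧ V ≤ U}, fun V => V.1, fun V => homOfLE V.2.2, ?_, fun V => V.2.1⟩
  intro x hx
  obtain ⟨V, hV, hxV, hVU⟩ := Opens.isBasis_iff_nbhd.1 hB hx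
  exact ⟨V, homOfLE hVU, ⟨V, 𝟙 V, homOfLE hVU, Presieve.ofArrows.mk (⟨V, hV, hVU⟩ : {V : Opens X // V ∈ B ∧ V ≤ U}), rfl⟩, hxV⟩

theorem acyc_of_vanish (F : CohTop.Ab X)
    (h : ∀ U ∈ B, ∀ i : ℕ, 0 < i → Subsingleton (CohTop.HU F i U)) : LimH.Acyc B F :=
  fun U hU p => h U hU (p + 1) p.succ_pos

/-- `lim¹` vanishing from the Mittag-Leffler condition, in terms of `Ext`. -/
theorem limOne_of_isMittagLeffler (F : ℕᵒᵖ ⥤ CohTop.Ab X) (Q : CohTop.Ab X) (p : ℕ)
    (h : ((F ⋙ extFunctorObj Q p) ⋙ forget AddCommGrpCat).IsMittagLeffler)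
    (z : ∀ n : ℕ, Ext Q (F.obj (op n)) p) :
    ∃ w : ∀ n : ℕ, Ext Q (F.obj (op n)) p,
      ∀ n, w n - (w (n + 1)).comp (Ext.mk₀ (LimH.trans F n)) (add_zero p) = z n :=
  MLOne.exists_limOne_of_isMittagLeffler (F ⋙ extFunctorObj Q p) h z

end Groth.Agent.H24FMod.LimTop
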