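import Groth.Agent.H3CAlg.ARS.Basic
import Groth.Agent.H16Derived.ML
import Mathlib.RingTheory.Ideal.Operations

/-!
# Mittag-Leffler from stable families generated in bounded degree

A tower `E` with multiplications `E k → E n` by `J^(n-k)` commuting with the transition maps, and boundary maps
`E k → T (k+1)` whose kernels are the images of the transition maps: if stable families in `T` are generated in
bounded degree, the images in the tower are stationary, with a uniform bound.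
-/

set_option autoImplicit false

universe u v w

open CategoryTheory CategoryTheory.Limits Opposite

namespace Groth.Agent.H24FMod.GrML

open H16Derived.ML

/-- Uniform stationarity of the images. -/
def Stable (F : ℕᵒᵖ ⥤ AddCommGrpCat.{v}) (c : ℕ) : Prop :=
  ∀ (i k : ℕ) (h : i + c ≤ k) (x : F.obj (op (i + c))),
    ∃ y, trHom F ((Nat.le_add_right i c).trans h) y = trHom F (Nat.le_add_right i c) x

theorem isMittagLeffler_of_stable {F : ℕᵒᵖ ⥤ AddCommGrpCat.{v}} {c : ℕ} (h : Stable F c) :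
    (F ⋙ forget AddCommGrpCat).IsMittagLeffler :=
  (isMittagLeffler_iff_ab F).2 fun i => ⟨i + c, Nat.le_add_right i c, fun k hk x => h i k hk x⟩

theorem isML_of_stable {F : ℕᵒᵖ ⥤ AddCommGrpCat.{v}} {c : ℕ} (h : Stable F c) : ARSys.IsML F := by
  intro n
  refine ⟨c, fun s hs => le_antisymm ?_ ?_⟩
  · refine (H3CAlg.ARS.imageSubobject_le_iff _ _).2 (.of_eq (ARSys.tr F (Nat.add_le_add_left hs n)) ?_)
    show F.map _ = F.map _ ≫ F.map _
    rw [← F.map_comp]
    rfl
  · refine (H3CAlg.ARS.imageSubobject_le_iff _ _).2 ((H3CAlg.ARS.imLE_iff_cokernel _ _).2 ?_)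
    refine AddCommGrpCat.hom_ext (AddMonoidHom.ext fun x => ?_)
    obtain ⟨y, hy⟩ := h n (n + s) (Nat.add_le_add_left hs n) x
    show (cokernel.π (ARSys.shiftMap F s n)).hom ((ARSys.shiftMap F c n).hom x) = 0
    rw [show (ARSys.shiftMap F c n).hom x = (ARSys.shiftMap F s n).hom y from hy.symm]
    exact congr($(cokernel.condition (ARSys.shiftMap F s n)) y)

variable {A : Type u} [CommRing A] (J : Ideal A) (F : ℕᵒᵖ ⥤ AddCommGrpCat.{v})
  (M : ∀ k n, k ≤ n → ∀ a ∈ J ^ (n - k), F.obj (op k) →+ F.obj (op n))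

theorem trHom_succ {j N : ℕ} (h : j ≤ N) (x : F.obj (op (N + 1))) :
    trHom F h (trHom F (Nat.le_succ N) x) = trHom F (h.trans (Nat.le_succ N)) x := by
  refine congr($((F.map_comp (homOfLE (Nat.le_succ N)).op (homOfLE h).op).symm) x).trans ?_
  rfl

theorem tr_M_eq_zero
    (h0 : ∀ n a (ha : a ∈ J ^ (n + 1 - 0)) x,
      trHom F (Nat.le_succ n) (M 0 (n + 1) (Nat.zero_le _) a ha x) = 0)
    (hs : ∀ k n (h : k ≤ n) a (ha : a ∈ J ^ (n - k)) (ha' : a ∈ J ^ (n + 1 - (k + 1))) x,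
      trHom F (Nat.le_succ n) (M (k + 1) (n + 1) (Nat.succ_le_succ h) a ha' x) =
        M k n h a ha (trHom F (Nat.le_succ k) x)) :
    ∀ (N j : ℕ) (hj : j ≤ N) (k : ℕ) (hk : k ≤ N), j + k < N → ∀ a (ha : a ∈ J ^ (N - k)) x,
      trHom F hj (M k N hk a ha x) = 0 := by
  intro N
  induction N with
  | zero => intro j hj k hk h; omega
  | succ N ih =>
    intro j hj k hk h a ha x
    rw [← trHom_succ F (show j ≤ N by omega)]
    rcases k with _ | k
    · rw [h0, map_zero]
    · rw [hs k N (by omega) a (by rwa [Nat.succ_sub_succ] at ha) ha]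
      exact ih j _ k _ (by omega) a _ _

variable {T : ℕ → Type w} [∀ k, AddCommGroup (T k)] (m : ∀ k n, k ≤ n → ∀ a ∈ J ^ (n - k), T k →+ T n)
  (δ : ∀ k, F.obj (op k) →+ T (k + 1))

/-- The stable family of the images of the boundary maps. -/
def bd : ∀ k, AddSubgroup (T k)
  | 0 => ⊥
  | k + 1 => (δ k).range

theorem exists_stable
    (h0 : ∀ n a (ha : a ∈ J ^ (n + 1 - 0)) x,
      trHom F (Nat.le_succ n) (M 0 (n + 1) (Nat.zero_le _) a ha x) = 0)
    (hs : ∀ k n (h : k ≤ n) a (ha : a ∈ J ^ (n - k)) (ha' : a ∈ J ^ (n + 1 - (k + 1))) x,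
      trHom F (Nat.le_succ n) (M (k + 1) (n + 1) (Nat.succ_le_succ h) a ha' x) =
        M k n h a ha (trHom F (Nat.le_succ k) x))
    (hex : ∀ n x, δ n x = 0 → ∃ y, trHom F (Nat.le_succ n) y = x)
    (hδ : ∀ k n (h : k ≤ n) a (ha : a ∈ J ^ (n - k)) (ha' : a ∈ J ^ (n + 1 - (k + 1))) x,
      δ n (M k n h a ha x) = m (k + 1) (n + 1) (Nat.succ_le_succ h) a ha' (δ k x))
    (hgen : ∀ S : ∀ k, AddSubgroup (T k), (∀ k n (h : k ≤ n) a (ha : a ∈ J ^ (n - k)), ∀ y ∈ S k, m k n h a ha y ∈ S n) →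
      ∃ c, ∀ n (h : c ≤ n), S n ≤ AddSubgroup.closure
        {z | ∃ a, ∃ ha : a ∈ J ^ (n - c), ∃ y ∈ S c, m c n h a ha y = z}) :
    ∃ c, Stable F c := by
  obtain ⟨c, hc⟩ := hgen (bd F δ) fun k n h a ha y hy => by
    rcases k with _ | k
    · rw [AddSubgroup.mem_bot.1 hy, map_zero]
      exact zero_mem _
    · obtain ⟨n, rfl⟩ : ∃ n', n = n' + 1 := ⟨n - 1, by omega⟩
      obtain ⟨x, rfl⟩ := hy
      exact ⟨_, hδ k n (Nat.le_of_succ_le_succ h) a (by rwa [Nat.succ_sub_succ] at ha) ha x⟩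
  refine ⟨c, fun i => ?_⟩
  have step : ∀ N (hN : i + c ≤ N) (x : F.obj (op N)),
      ∃ y, trHom F (show i ≤ N + 1 by omega) y = trHom F (show i ≤ N by omega) x := by
    intro N hN x
    have hle : c ≤ N + 1 := by omega
    have key : ∀ z ∈ AddSubgroup.closure
        {z | ∃ a, ∃ ha : a ∈ J ^ (N + 1 - c), ∃ y ∈ bd F δ c, m c (N + 1) hle a ha y = z},
        ∃ x', δ N x' = z ∧ trHom F (show i ≤ N by omega) x' = 0 := by
      intro z hz
      induction hz using AddSubgroup.closure_induction with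
      | zero => exact ⟨0, map_zero _, map_zero _⟩
      | add a b _ _ ha hb =>
        obtain ⟨xa, h1, h2⟩ := ha
        obtain ⟨xb, h3, h4⟩ := hb
        exact ⟨xa + xb, by rw [map_add, h1, h3], by rw [map_add, h2, h4, add_zero]⟩
      | neg a _ ha =>
        obtain ⟨xa, h1, h2⟩ := ha
        exact ⟨-xa, by rw [map_neg, h1], by rw [map_neg, h2, neg_zero]⟩
      | mem z hz =>
        obtain ⟨a, ha, y, hy, rfl⟩ := hz
        rcases c with _ | c
        · exact ⟨0, by rw [AddSubgroup.mem_bot.1 hy, map_zero, map_zero], map_zero _⟩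
        · obtain ⟨x', rfl⟩ := hy
          exact ⟨_, hδ c N (by omega) a (by rwa [Nat.succ_sub_succ] at ha) ha x',
            tr_M_eq_zero J F M h0 hs N i _ c _ (by omega) a _ _⟩
    obtain ⟨x', h1, h2⟩ := key _ (hc (N + 1) hle ⟨x, rfl⟩)
    obtain ⟨y, hy⟩ := hex N (x - x') (by rw [map_sub, h1, sub_self])
    exact ⟨y, by rw [← trHom_succ F (show i ≤ N by omega), hy, map_sub, h2, sub_zero]⟩
  intro k hk
  induction hk with
  | refl => exact fun x => ⟨x, rfl⟩
  | @step N hN ih =>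
    intro x
    obtain ⟨y, hy⟩ := ih x
    obtain ⟨y', hy'⟩ := step N hN y
    exact ⟨y', hy'.trans hy⟩

end Groth.Agent.H24FMod.GrML
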