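import Groth.Agent.H24FMod.Kernel

/-!
# Coherent modules and their inverse images to the levels
-/

set_option autoImplicit false
set_option linter.style.haveILetI false
set_option linter.unusedSectionVars false
universe u

open CategoryTheory CategoryTheory.Limits AlgebraicGeometry TopologicalSpace Opposite

namespace Groth.Agent.H24FMod

open H15Site.ModTensor H15Site.ModRel H15Site.LocGen H15Site.LocPres

variable {𝔛 : FSch.Sys.{u}} (hL : 𝔛.IsLocNoethFormal) {𝔉 𝔊 : FSch.ModF 𝔛 hL.1} {A W : (𝔛.X 0).Opens}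
  (h𝔉 : FSch.IsCohF 𝔛 hL.1 𝔉) (h𝔊 : FSch.IsCohF 𝔛 hL.1 𝔊)

/-- Sections of a morphism, as a linear map. -/
noncomputable abbrev secL (θ : 𝔉 ⟶ 𝔊) (A : (𝔛.X 0).Opens) : Sec hL.1 𝔉 A →ₗ[OSec hL.1 A] Sec hL.1 𝔊 A :=
  (θ.val.app (op A)).hom

include h𝔉 in
theorem bijective_secMap_toReal (A : (𝔛.X 0).Opens) : Function.Bijective (secMap (toReal hL 𝔉) A) := by
  haveI := isIso_toReal hL h𝔉
  refine ⟨injective_app (toReal hL 𝔉) (op A), fun y => ⟨secMap (inv (toReal hL 𝔉)) A y, ?_⟩⟩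
  exact congrArg (fun (q : (pullSys hL 𝔉).realMod hL.1 ⟶ (pullSys hL 𝔉).realMod hL.1) => (q.val.app (op A)).hom y)
    (IsIso.inv_hom_id (toReal hL 𝔉))

include h𝔉 in
/-- The sections of the inverse image to a level over an affine open are the reduction of the sections. -/
theorem surjective_unitSec (hA : IsAffineOpen A) (n : ℕ) :
    Function.Surjective (unitSec (FSch.levelMor 𝔛 hL.1 n) 𝔉 (U := A)) := fun y => by
  obtain ⟨J, -, -, hJ⟩ := exists_adic hL hA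
  letI := lvModule hL (pullSys hL 𝔉).F A
  let S := secAdic hL (pullSys hL 𝔉) hA (fun n => (isCoh_pullSys hL h𝔉 n).1) hJ
  obtain ⟨z, hz⟩ := S.π_surjective n y
  obtain ⟨x, rfl⟩ := (bijective_secMap_toReal hL h𝔉 A).2 z
  exact ⟨x, (pm_toReal hL n A x).symm.trans hz⟩

include h𝔉 in
theorem unitSec_eq_zero_iff (hA : IsAffineOpen A) {J : Ideal (OSec hL.1 A)}
    (hJ : ∀ n, RingHom.ker (oP hL.1 n A) = J ^ (n + 1)) (hc : IsAdicComplete J (OSec hL.1 A)) (n : ℕ)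
    (x : Sec hL.1 𝔉 A) :
    unitSec (FSch.levelMor 𝔛 hL.1 n) 𝔉 x = 0 ↔ x ∈ J ^ (n + 1) • (⊤ : Submodule (OSec hL.1 A) (Sec hL.1 𝔉 A)) := by
  haveI := hc
  letI := lvModule hL (pullSys hL 𝔉).F A
  haveI := finite_level hL hA 0 (isCoh_pullSys hL h𝔉 0)
  let S := secAdic hL (pullSys hL 𝔉) hA (fun n => (isCoh_pullSys hL h𝔉 n).1) hJ
  let e : Sec hL.1 𝔉 A ≃ₗ[OSec hL.1 A] Sec hL.1 ((pullSys hL 𝔉).realMod hL.1) A :=
    LinearEquiv.ofBijective ((toReal hL 𝔉).val.app (op A)).hom (bijective_secMap_toReal hL h𝔉 A)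
  have h1 : unitSec (FSch.levelMor 𝔛 hL.1 n) 𝔉 x = 0 ↔ e x ∈ LinearMap.ker (S.π n) := by
    rw [LinearMap.mem_ker, ← pm_toReal hL n A x]
    rfl
  rw [h1, S.ker_eq_of_finite n]
  have h2 : (J ^ (n + 1) • (⊤ : Submodule (OSec hL.1 A) (Sec hL.1 𝔉 A))).map e.toLinearMap =
      J ^ (n + 1) • ⊤ := by
    rw [Submodule.map_smul'', Submodule.map_top, LinearEquiv.range]
  rw [← h2]
  refine ⟨?_, Submodule.mem_map_of_mem⟩
  rintro ⟨z, hz, he⟩
  rwa [← e.injective he]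

include h𝔉 in
/-- The kernel of the reduction to a level is of finite type. -/
theorem isFiniteType_kernel_unit (n : ℕ) :
    SheafOfModules.IsFiniteType (R := ModSite.ringSh (𝔛.Osh hL.1))
      (kernel ((FSch.levelMor 𝔛 hL.1 n).adj.unit.app 𝔉)) := by
  let p := (FSch.levelMor 𝔛 hL.1 n).adj.unit.app 𝔉
  refine isFiniteType_of_lh (lh_of_coversTop (X := fun W : (𝔛.X 0).affineOpens => W.1)
    ((Opens.coversTop_iff _ _).2 (iSup_affineOpens_eq_top _)) FG.res fun A => ?_)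
  obtain ⟨A, hA⟩ := A
  obtain ⟨I, K, hI, hK, x, r, -, hP⟩ := exists_secPres hL h𝔉 hA
  obtain ⟨J, hN, hc, hJ⟩ := exists_adic hL hA
  haveI := hN
  haveI := finite_sec hL h𝔉 hA
  obtain ⟨M, q, hq⟩ := Submodule.fg_iff_exists_fin_generating_family.1
    (IsNoetherian.noetherian (J ^ (n + 1) • (⊤ : Submodule (OSec hL.1 A) (Sec hL.1 𝔉 A))))
  let k : ULift.{u} (Fin M) → Sec hL.1 𝔉 A := fun j => q j.down
  have hk0 : ∀ j, secMap p A (k j) = 0 := fun j =>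
    (unitSec_eq_zero_iff hL h𝔉 hA hJ hc n _).2 (hq ▸ Submodule.subset_span ⟨j.down, rfl⟩)
  choose s hs using fun j => exists_kerSec p (k j) (hk0 j)
  refine ⟨ULift.{u} (Fin M), inferInstance, s, fun V g t => ?_⟩
  refine ⟨affSieve V, affSieve_mem V, fun W q' hq' => ?_⟩
  obtain ⟨B, hB, h1, h2⟩ := hq'
  let l : B ⟶ A := homOfLE (h2.trans (leOfHom g))
  obtain ⟨J', hN', hc', hJ'⟩ := exists_adic hL hB
  have hmap : J.map (rsO hL l) = J' := map_ideal_def hL hA hB l hJ ⟨hN', hc'⟩ hJ'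
  let N : Submodule (OSec hL.1 B) (Sec hL.1 𝔉 B) := Submodule.span _ (Set.range fun j => rsF hL 𝔉 l (k j))
  let y : Sec hL.1 (kernel p) B := rs ((forg (𝔛.Osh hL.1)).obj (kernel p)) (homOfLE h2).op t
  have hy : secMap (kernel.ι p) B y ∈ N := by
    have h0 := (unitSec_eq_zero_iff hL h𝔉 hB hJ' hc' n (secMap (kernel.ι p) B y)).1
      (congrArg (fun (q : kernel p ⟶ _) => (q.val.app (op B)).hom y) (kernel.condition p))
    refine Submodule.smul_induction_on h0 (fun a ha z _ => ?_) fun _ _ => add_mem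
    obtain ⟨c, rfl⟩ := (hP B l hB).1 z
    rw [Finset.smul_sum]
    refine N.sum_mem fun i _ => ?_
    rw [smul_comm]
    refine N.smul_mem _ ?_
    let I₀ : Ideal (OSec hL.1 B) := N.comap (LinearMap.toSpanSingleton _ _ (rsF hL 𝔉 l (x i)))
    suffices hle : (J ^ (n + 1)).map (rsO hL l) ≤ I₀ by
      rw [Ideal.map_pow, hmap] at hle
      exact hle ha
    rw [Ideal.map_le_iff_le_comap]
    intro b hb
    show rsO hL l b • rsF hL 𝔉 l (x i) ∈ N
    have hbx : b • x i ∈ Submodule.span (OSec hL.1 A) (Set.range q) :=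
      hq ▸ Submodule.smul_mem_smul hb Submodule.mem_top
    obtain ⟨d, hd⟩ := (Submodule.mem_span_range_iff_exists_fun _).1 hbx
    have e := congrArg (rsF hL 𝔉 l) hd
    have h3 : rsO hL l b • rsF hL 𝔉 l (x i) = ∑ j, rsO hL l (d j) • rsF hL 𝔉 l (q j) :=
      (rs_smul' ((forg (𝔛.Osh hL.1)).obj 𝔉) l.op b (x i)).symm.trans (e.symm.trans
        ((rs_sum _ _ _ _).trans (Finset.sum_congr rfl fun j _ =>
          rs_smul' ((forg (𝔛.Osh hL.1)).obj 𝔉) l.op (d j) (q j))))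
    rw [h3]
    exact N.sum_mem fun j _ => N.smul_mem _ (Submodule.subset_span ⟨⟨j⟩, rfl⟩)
  obtain ⟨c, hc1⟩ := (Submodule.mem_span_range_iff_exists_fun _).1 hy
  refine ⟨fun j => rr (𝔛.Osh hL.1) (homOfLE h1).op (c j), ?_⟩
  rw [show q'.op = (homOfLE h2).op ≫ (homOfLE h1).op from Subsingleton.elim _ _, ← rs_rs]
  apply injective_app (kernel.ι p)
  refine Eq.trans ?_ (app_sum_smul (kernel.ι p) _ _ _).symm
  refine ((rs_app (kernel.ι p).val (homOfLE h1).op y).trans (congrArg _ hc1.symm)).trans ?_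
  refine (rs_sum _ _ _ _).trans (Finset.sum_congr rfl fun j _ => ?_)
  refine (rs_smul' _ _ _ _).trans (congrArg (_ • ·) ?_)
  refine (rs_rs _ _ _ _).trans ?_
  refine Eq.trans ?_ (rs_app (kernel.ι p).val (q' ≫ g).op (s j)).symm
  exact (congrArg (fun z => rs _ z (k j)) (Subsingleton.elim _ _)).trans (congrArg _ (hs j).symm)

theorem unitSec_natural (θ : 𝔉 ⟶ 𝔊) (n : ℕ) (A : (𝔛.X 0).Opens) (x : Sec hL.1 𝔉 A) :
    (((FSch.levelMor 𝔛 hL.1 n).pull.map θ).val.app (op (𝔛.lvU hL.1 n A))).hom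
      (unitSec (FSch.levelMor 𝔛 hL.1 n) 𝔉 x) = unitSec (FSch.levelMor 𝔛 hL.1 n) 𝔊 (secMap θ A x) :=
  (congrArg (fun (q : 𝔉 ⟶ (FSch.levelMor 𝔛 hL.1 n).push.obj ((FSch.levelMor 𝔛 hL.1 n).pull.obj 𝔊)) =>
    (q.val.app (op A)).hom x) ((FSch.levelMor 𝔛 hL.1 n).adj.unit.naturality θ)).symm

include h𝔉 h𝔊 in
/-- Nakayama for sections: surjectivity on the smallest level gives surjectivity. -/
theorem surjective_secMap_of_epi (θ : 𝔉 ⟶ 𝔊) [Epi ((FSch.levelMor 𝔛 hL.1 0).pull.map θ)] (hA : IsAffineOpen A) :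
    Function.Surjective (secMap θ A) := by
  obtain ⟨J, hN, hc, hJ⟩ := exists_adic hL hA
  haveI := hc
  haveI := finite_sec hL h𝔊 hA
  let θ₀ : ((pullSys hL 𝔉).F 0) ⟶ ((pullSys hL 𝔊).F 0) := (FSch.levelMor 𝔛 hL.1 0).pull.map θ
  haveI : Epi θ₀ := inferInstanceAs (Epi ((FSch.levelMor 𝔛 hL.1 0).pull.map θ))
  haveI := (isCoh_pullSys hL h𝔉 0).1
  haveI := (isCoh_pullSys hL h𝔊 0).1
  have hs0 : Function.Surjective (θ₀.app (𝔛.lvU hL.1 0 A)) :=
    H10Coh.surjective_app_of_epi θ₀ (isAffineOpen_lvU hL hA 0)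
  let θA : Sec hL.1 𝔉 A →ₗ[OSec hL.1 A] Sec hL.1 𝔊 A := (θ.val.app (op A)).hom
  have hsup : (⊤ : Submodule (OSec hL.1 A) (Sec hL.1 𝔊 A)) ≤ LinearMap.range θA ⊔ J • ⊤ := fun y _ => by
    obtain ⟨w, hw⟩ := hs0 (unitSec (FSch.levelMor 𝔛 hL.1 0) 𝔊 y)
    obtain ⟨x, rfl⟩ := surjective_unitSec hL h𝔉 hA 0 w
    refine Submodule.mem_sup.2 ⟨θA x, LinearMap.mem_range_self _ x, y - θA x, ?_, add_sub_cancel _ _⟩
    have h0 : unitSec (FSch.levelMor 𝔛 hL.1 0) 𝔊 (y - θA x) = 0 := by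
      refine (map_sub (((FSch.levelMor 𝔛 hL.1 0).adj.unit.app 𝔊).val.app (op A)).hom y (θA x)).trans ?_
      exact sub_eq_zero.2 (hw.symm.trans (unitSec_natural hL θ 0 A x))
    have h1 := (unitSec_eq_zero_iff hL h𝔊 hA hJ hc 0 _).1 h0
    rwa [zero_add, pow_one] at h1
  intro y
  exact Submodule.le_of_le_smul_of_le_jacobson_bot Module.Finite.fg_top (IsAdicComplete.le_jacobson_bot J) hsup
    (Submodule.mem_top (x := y))

theorem epi_of_surjective_affine (θ : 𝔉 ⟶ 𝔊) (h : ∀ B, IsAffineOpen B → Function.Surjective (secMap θ B)) : Epi θ := by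
  rw [epi_iff_locSurj]
  intro V t
  refine ⟨affSieve V, affSieve_mem V, fun W g hg => ?_⟩
  obtain ⟨B, hB, h1, h2⟩ := hg
  obtain ⟨z, hz⟩ := h B hB (rs ((forg (𝔛.Osh hL.1)).obj 𝔊) (homOfLE h2).op t)
  refine ⟨rs ((forg (𝔛.Osh hL.1)).obj 𝔉) (homOfLE h1).op z, ?_⟩
  rw [show g.op = (homOfLE h2).op ≫ (homOfLE h1).op from Subsingleton.elim _ _, ← rs_rs]
  exact (rs_app θ.val _ _).trans (congrArg _ hz)

theorem epi_pull_map (θ : 𝔉 ⟶ 𝔊) [Epi θ] (n : ℕ) : Epi ((FSch.levelMor 𝔛 hL.1 n).pull.map θ) := by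
  haveI := (FSch.levelMor 𝔛 hL.1 n).adj.isLeftAdjoint
  infer_instance

include h𝔉 h𝔊 in
theorem epi_iff_epi_pull (θ : 𝔉 ⟶ 𝔊) : Epi θ ↔ Epi ((FSch.levelMor 𝔛 hL.1 0).pull.map θ) :=
  ⟨fun _ => epi_pull_map hL θ 0, fun _ => epi_of_surjective_affine hL θ fun B hB =>
    surjective_secMap_of_epi hL h𝔉 h𝔊 θ hB⟩

include h𝔉 h𝔊 in
/-- Monomorphisms and epimorphisms are open among morphisms of coherent modules. -/
theorem exists_open_mono_epi [CompactSpace (𝔛.X 0)] (θ : 𝔉 ⟶ 𝔊) :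
    ∃ n : ℕ, ∀ ψ : 𝔉 ⟶ 𝔊, ψ ≫ (FSch.levelMor 𝔛 hL.1 n).adj.unit.app 𝔊 = 0 →
      (Mono θ → Mono (θ + ψ)) ∧ (Epi θ → Epi (θ + ψ)) := by
  obtain ⟨T, hT⟩ := isCompact_univ.elim_finite_subcover (fun A : (𝔛.X 0).affineOpens => (A.1 : Set (𝔛.X 0)))
    (fun A => A.1.isOpen) (fun x _ => by
      obtain ⟨A, hA, hxA, -⟩ := exists_isAffineOpen_mem_and_subset (x := x) (U := (⊤ : (𝔛.X 0).Opens)) trivial
      exact Set.mem_iUnion.2 ⟨⟨A, hA⟩, hxA⟩)
  choose J hN hc hJ using fun A : (𝔛.X 0).affineOpens => exists_adic hL A.2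
  have hAR : ∀ A : (𝔛.X 0).affineOpens, ∃ k : ℕ, ∀ m ≥ k, J A ^ m • (⊤ : Submodule (OSec hL.1 A.1) (Sec hL.1 𝔊 A.1)) ⊓
      LinearMap.range (secL hL θ A.1) ≤ J A ^ (m - k) • LinearMap.range (secL hL θ A.1) := fun A => by
    haveI := hN A
    haveI := finite_sec hL h𝔊 A.2
    obtain ⟨k, hk⟩ := Ideal.exists_pow_inf_eq_pow_smul (J A) (LinearMap.range (secL hL θ A.1))
    exact ⟨k, fun m hm => (hk m hm).le.trans (Submodule.smul_mono le_rfl inf_le_right)⟩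
  choose k hk using hAR
  refine ⟨T.sup k, fun ψ hψ => ?_⟩
  have hψA : ∀ (A : (𝔛.X 0).affineOpens) (x : Sec hL.1 𝔉 A.1),
      secMap ψ A.1 x ∈ J A ^ (T.sup k + 1) • (⊤ : Submodule (OSec hL.1 A.1) (Sec hL.1 𝔊 A.1)) := fun A x =>
    (unitSec_eq_zero_iff hL h𝔊 A.2 (hJ A) (hc A) _ _).1
      (congrArg (fun (q : 𝔉 ⟶ _) => (q.val.app (op A.1)).hom x) hψ)
  refine ⟨fun _ => ?_, fun _ => ?_⟩
  · have hinj : ∀ A ∈ T, ∀ x : Sec hL.1 𝔉 A.1, secMap (θ + ψ) A.1 x = 0 → x = 0 := fun A hA x hx => by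
      haveI := hN A
      haveI := hc A
      haveI := finite_sec hL h𝔉 A.2
      haveI : IsAdicComplete (J A) (Sec hL.1 𝔉 A.1) := H24Adic.isAdicComplete_of_finite (J A)
      let a : Sec hL.1 𝔉 A.1 →ₗ[OSec hL.1 A.1] Sec hL.1 𝔊 A.1 := secL hL θ A.1
      let b : Sec hL.1 𝔉 A.1 →ₗ[OSec hL.1 A.1] Sec hL.1 𝔊 A.1 := (ψ.val.app (op A.1)).hom
      have hab : a x + b x = 0 := hx
      have key : ∀ m : ℕ, x ∈ J A ^ m • (⊤ : Submodule (OSec hL.1 A.1) (Sec hL.1 𝔉 A.1)) := by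
        intro m
        induction m with
        | zero => simp
        | succ m ih =>
          have h1 : b x ∈ J A ^ (m + (T.sup k + 1)) • (⊤ : Submodule (OSec hL.1 A.1) (Sec hL.1 𝔊 A.1)) := by
            have h2 : (J A ^ m • (⊤ : Submodule (OSec hL.1 A.1) (Sec hL.1 𝔉 A.1))).map b ≤
                J A ^ (m + (T.sup k + 1)) • ⊤ := by
              rw [Submodule.map_smul'', Submodule.map_top, pow_add, mul_smul]
              refine Submodule.smul_mono le_rfl ?_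
              rintro _ ⟨z, rfl⟩
              exact hψA A z
            exact h2 (Submodule.mem_map_of_mem ih)
          have hle : k A ≤ T.sup k := Finset.le_sup hA
          have h3 : a x ∈ J A ^ (m + 1) • LinearMap.range a := by
            refine Submodule.smul_mono (Ideal.pow_le_pow_right (show m + 1 ≤ m + (T.sup k + 1) - k A by omega)) le_rfl
              (hk A (m + (T.sup k + 1)) (by omega) ⟨?_, LinearMap.mem_range_self a x⟩)
            rw [eq_neg_of_add_eq_zero_left hab]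
            exact neg_mem h1
          rw [← Submodule.map_top, ← Submodule.map_smul''] at h3
          obtain ⟨z, hz, hzx⟩ := h3
          exact (injective_app θ (op A.1) hzx : z = x) ▸ hz
      exact IsHausdorff.haus (I := J A) inferInstance x fun m => SModEq.zero.2 (key m)
    refine (Preadditive.mono_iff_cancel_zero _).2 fun P φ hφ => hom_ext_sec fun U y => ?_
    let z : Sec hL.1 𝔉 U := secMap φ U y
    have hz : secMap (θ + ψ) U z = 0 :=
      congrArg (fun (q : P ⟶ 𝔊) => (q.val.app (op U)).hom y) hφ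
    show z = 0
    let R : Sieve U :=
      { arrows := fun W _ => ∃ (A : (𝔛.X 0).affineOpens) (B : (𝔛.X 0).Opens), A ∈ T ∧ IsAffineOpen B ∧ W ≤ B ∧ B ≤ A.1 ∧ B ≤ U
        downward_closed := fun {W W'} _ hh g => by
          obtain ⟨A, B, h0, h1, h2, h3, h4⟩ := hh
          exact ⟨A, B, h0, h1, (leOfHom g).trans h2, h3, h4⟩ }
    have hR : R ∈ Opens.grothendieckTopology (𝔛.X 0) U := fun x hx => by
      obtain ⟨A, hA, hxA⟩ := Set.mem_iUnion₂.1 (hT (Set.mem_univ x))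
      obtain ⟨B, hB, hxB, hle⟩ := exists_isAffineOpen_mem_and_subset (x := x) (U := A.1 ⊓ U) ⟨hxA, hx⟩
      exact ⟨B, homOfLE (hle.trans inf_le_right),
        ⟨A, B, hA, hB, le_rfl, hle.trans inf_le_left, hle.trans inf_le_right⟩, hxB⟩
    refine separated_forg 𝔉 (X := op U) R hR _ _ fun W g hg => ?_
    obtain ⟨A, B, hA, hB, h1, h2, h3⟩ := hg
    obtain ⟨Jk, hJk, kk, hk0, hkk⟩ := exists_ker_gens hL h𝔉 h𝔊 (θ + ψ) A.2
    obtain ⟨c, hcB⟩ := hkk B (homOfLE h2) hB (rs ((forg (𝔛.Osh hL.1)).obj 𝔉) (homOfLE h3).op z)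
      ((rs_app (θ + ψ).val _ z).trans ((congrArg _ hz).trans (rs_zero _ _)))
    have h0 : rs ((forg (𝔛.Osh hL.1)).obj 𝔉) (homOfLE h3).op z = 0 := by
      rw [hcB]
      refine Finset.sum_eq_zero fun j _ => ?_
      rw [hinj A hA (kk j) (hk0 j), rsF, rs_zero, smul_zero]
    rw [rs_zero, show g.op = (homOfLE h3).op ≫ (homOfLE h1).op from Subsingleton.elim _ _, ← rs_rs, h0, rs_zero]
  · refine epi_of_surjective_affine hL _ fun B hB y => ?_
    haveI := epi_pull_map hL θ 0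
    obtain ⟨Jb, hNb, hcb, hJb⟩ := exists_adic hL hB
    haveI := hcb
    haveI := finite_sec hL h𝔊 hB
    let a : Sec hL.1 𝔉 B →ₗ[OSec hL.1 B] Sec hL.1 𝔊 B := (θ.val.app (op B)).hom
    let b : Sec hL.1 𝔉 B →ₗ[OSec hL.1 B] Sec hL.1 𝔊 B := (ψ.val.app (op B)).hom
    have hsup : (⊤ : Submodule (OSec hL.1 B) (Sec hL.1 𝔊 B)) ≤ LinearMap.range (a + b) ⊔ Jb • ⊤ := fun y _ => by
      obtain ⟨x, rfl⟩ := surjective_secMap_of_epi hL h𝔉 h𝔊 θ hB y
      refine Submodule.mem_sup.2 ⟨(a + b) x, LinearMap.mem_range_self _ x, -b x, neg_mem ?_, by show a x + b x + -b x = a x; abel⟩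
      have h := (unitSec_eq_zero_iff hL h𝔊 hB hJb hcb (T.sup k) (b x)).1
        (congrArg (fun (q : 𝔉 ⟶ _) => (q.val.app (op B)).hom x) hψ)
      exact Submodule.smul_mono (Ideal.pow_le_self (Nat.succ_ne_zero _)) le_rfl h
    exact Submodule.le_of_le_smul_of_le_jacobson_bot Module.Finite.fg_top (IsAdicComplete.le_jacobson_bot Jb) hsup
      (Submodule.mem_top (x := y))

end Groth.Agent.H24FMod
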