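import Groth.Agent.H24FMod.SysBridge
import Groth.Agent.H24FMod.Unit
import Groth.Agent.H24GE.ProperSupp
import Groth.Agent.H15Site.LocPresOps

/-!
# Algebraisation of coherent modules on a completion with proper support
-/

set_option autoImplicit false
set_option linter.style.haveILetI false
set_option linter.unusedSectionVars false
universe u

open CategoryTheory CategoryTheory.Limits AlgebraicGeometry TopologicalSpace Opposite

namespace Groth.Agent.H24FMod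

open H15Site.ModTensor H15Site.ModRel H15Site.LocGen H15Site.LocPres

theorem isCohF_of_iso {𝔛 : FSch.Sys.{u}} {h : 𝔛.IsFormal} {𝔉 𝔊 : FSch.ModF 𝔛 h} (e : 𝔉 ≅ 𝔊)
    (h𝔉 : FSch.IsCohF 𝔛 h 𝔉) : FSch.IsCohF 𝔛 h 𝔊 :=
  (SheafOfModules.isFinitePresentation (ModSite.ringSh (𝔛.Osh h))).prop_of_iso e h𝔉

theorem isCohF_cokernel {𝔛 : FSch.Sys.{u}} {h : 𝔛.IsFormal} {𝔉 𝔊 : FSch.ModF 𝔛 h} (θ : 𝔉 ⟶ 𝔊)
    (h𝔉 : FSch.IsCohF 𝔛 h 𝔉) (h𝔊 : FSch.IsCohF 𝔛 h 𝔊) : FSch.IsCohF 𝔛 h (cokernel θ) := by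
  haveI : SheafOfModules.IsFinitePresentation (R := ModSite.ringSh (𝔛.Osh h)) 𝔉 := h𝔉
  haveI : SheafOfModules.IsFinitePresentation (R := ModSite.ringSh (𝔛.Osh h)) 𝔊 := h𝔊
  exact H15Site.LocPres.isFinitePresentation_cokernel θ

theorem realModMap_comp_id {𝔛 : FSch.Sys.{u}} (h : 𝔛.IsFormal) {𝔐 𝔑 : FSch.ModSys 𝔛} (a : 𝔐 ⟶ 𝔑) (b : 𝔑 ⟶ 𝔐)
    (e : ∀ n, a.app n ≫ b.app n = 𝟙 _) : FSch.ModSys.realModMap h a ≫ FSch.ModSys.realModMap h b = 𝟙 _ := by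
  refine limit.hom_ext fun j => ?_
  obtain ⟨k⟩ := j
  show (FSch.ModSys.realModMap h a ≫ FSch.ModSys.realModMap h b) ≫ FSch.realProj 𝔛 h 𝔐.F 𝔐.toPush k = _
  have h1 := FSch.realLimMap_realProj 𝔛 h a.app (FSch.ModSys.Hom.toPush_comm a) k
  have h2 := FSch.realLimMap_realProj 𝔛 h b.app (FSch.ModSys.Hom.toPush_comm b) k
  refine (Category.assoc _ _ _).trans ((congrArg (FSch.ModSys.realModMap h a ≫ ·) h2).trans ?_)
  refine ((Category.assoc _ _ _).symm.trans (congrArg (· ≫ (FSch.levelMor 𝔛 h k).push.map (b.app k)) h1)).trans ?_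
  refine (Category.assoc _ _ _).trans (Eq.trans ?_ (Category.id_comp _).symm)
  refine (congrArg (FSch.realProj 𝔛 h 𝔐.F 𝔐.toPush k ≫ ·) ?_).trans (Category.comp_id _)
  exact ((FSch.levelMor 𝔛 h k).push.map_comp _ _).symm.trans ((congrArg _ (e k)).trans ((FSch.levelMor 𝔛 h k).push.map_id _))

/-- Isomorphic systems have isomorphic modules. -/
theorem nonempty_realMod_iso {𝔛 : FSch.Sys.{u}} (h : 𝔛.IsFormal) {𝔐 𝔑 : FSch.ModSys 𝔛} (e : 𝔐 ≅ 𝔑) :
    Nonempty (𝔐.realMod h ≅ 𝔑.realMod h) :=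
  ⟨⟨FSch.ModSys.realModMap h e.hom, FSch.ModSys.realModMap h e.inv,
    realModMap_comp_id h _ _ fun n => congrArg (fun q : 𝔐 ⟶ 𝔐 => q.app n) e.hom_inv_id,
    realModMap_comp_id h _ _ fun n => congrArg (fun q : 𝔑 ⟶ 𝔑 => q.app n) e.inv_hom_id⟩⟩

theorem lvU_zero {𝔛 : FSch.Sys.{u}} (h : 𝔛.IsFormal) (U : (𝔛.X 0).Opens) : 𝔛.lvU h 0 U = U := by
  have e : 𝔛.gInv h 0 = 𝟙 _ := (Category.comp_id _).symm.trans (𝔛.gInv_toX_base h 0)
  change (Opens.map (𝔛.gInv h 0)).obj U = U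
  rw [e]
  rfl

variable {X : Scheme.{u}} {𝔛 : FSch.Sys.{u}} (hL : 𝔛.IsLocNoethFormal) (c : ∀ n, 𝔛.X n ⟶ X)

/-- The set of points at which a module on the completion does not vanish. -/
def suppF (𝔉 : FSch.ModF 𝔛 hL.1) : Set X :=
  c 0 '' {z | ∀ A : (𝔛.X 0).Opens, IsAffineOpen A → z ∈ A → ¬ Subsingleton (Sec hL.1 𝔉 A)}

theorem isClosed_suppF [IsClosedImmersion (c 0)] (𝔉 : FSch.ModF 𝔛 hL.1) : IsClosed (suppF hL c 𝔉) := by
  refine (c 0).isClosedEmbedding.isClosedMap _ (isOpen_compl_iff.1 (isOpen_iff_mem_nhds.2 fun z hz => ?_))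
  simp only [Set.mem_compl_iff, Set.mem_ofPred_eq, not_forall, not_not] at hz
  obtain ⟨A, hA, hzA, hs⟩ := hz
  exact Filter.mem_of_superset (A.isOpen.mem_nhds hzA) fun w hw hw' => hw' A hA hw hs

variable {𝔉 𝔊 : FSch.ModF 𝔛 hL.1}

theorem subsingleton_sec_of_le (h𝔉 : FSch.IsCohF 𝔛 hL.1 𝔉) {A W : (𝔛.X 0).Opens} (hA : IsAffineOpen A)
    (hW : IsAffineOpen W) (l : W ≤ A) (hs : Subsingleton (Sec hL.1 𝔉 A)) : Subsingleton (Sec hL.1 𝔉 W) := by
  letI := (rsO hL (homOfLE l)).toAlgebra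
  exact Function.Surjective.subsingleton (bijective_bcMap hL h𝔉 hA hW (homOfLE l)).2

theorem suppF_subset_of_mono (θ : 𝔉 ⟶ 𝔊) [Mono θ] : suppF hL c 𝔉 ⊆ suppF hL c 𝔊 := by
  rintro x ⟨z, hz, rfl⟩
  refine ⟨z, fun A hA hzA hs => hz A hA hzA ?_, rfl⟩
  haveI := hs
  exact Function.Injective.subsingleton (β := Sec hL.1 𝔊 A) (injective_app θ (op A))

theorem suppF_subset_of_epi (h𝔉 : FSch.IsCohF 𝔛 hL.1 𝔉) (h𝔊 : FSch.IsCohF 𝔛 hL.1 𝔊) (θ : 𝔉 ⟶ 𝔊) [Epi θ] :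
    suppF hL c 𝔊 ⊆ suppF hL c 𝔉 := by
  rintro x ⟨z, hz, rfl⟩
  refine ⟨z, fun A hA hzA hs => hz A hA hzA ?_, rfl⟩
  haveI := epi_pull_map hL θ 0
  exact Function.Surjective.subsingleton (surjective_secMap_of_epi hL h𝔉 h𝔊 θ hA)

theorem suppF_subset_union {𝔎 : FSch.ModF 𝔛 hL.1} (h𝔎 : FSch.IsCohF 𝔛 hL.1 𝔎) (h𝔊 : FSch.IsCohF 𝔛 hL.1 𝔊)
    (a : 𝔎 ⟶ 𝔉) (θ : 𝔉 ⟶ 𝔊) (hker : ∃ l : kernel θ ⟶ 𝔎, l ≫ a = kernel.ι θ) :
    suppF hL c 𝔉 ⊆ suppF hL c 𝔎 ∪ suppF hL c 𝔊 := by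
  rintro x ⟨z, hz, rfl⟩
  by_contra hh
  rw [Set.mem_union, not_or] at hh
  obtain ⟨A₁, hA₁, hz₁, hs₁⟩ : ∃ A, IsAffineOpen A ∧ z ∈ A ∧ Subsingleton (Sec hL.1 𝔎 A) := by
    by_contra hc'; push Not at hc'; exact hh.1 ⟨z, fun A hA hzA => not_subsingleton_iff_nontrivial.2 (hc' A hA hzA), rfl⟩
  obtain ⟨A₃, hA₃, hz₃, hs₃⟩ : ∃ A, IsAffineOpen A ∧ z ∈ A ∧ Subsingleton (Sec hL.1 𝔊 A) := by
    by_contra hc'; push Not at hc'; exact hh.2 ⟨z, fun A hA hzA => not_subsingleton_iff_nontrivial.2 (hc' A hA hzA), rfl⟩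
  obtain ⟨W, hW, hzW, hle⟩ := exists_isAffineOpen_mem_and_subset (x := z) (U := A₁ ⊓ A₃) ⟨hz₁, hz₃⟩
  haveI := subsingleton_sec_of_le hL h𝔎 hA₁ hW (fun w hw => (hle hw).1) hs₁
  haveI := subsingleton_sec_of_le hL h𝔊 hA₃ hW (fun w hw => (hle hw).2) hs₃
  refine hz W hW hzW (subsingleton_of_forall_eq 0 fun y => ?_)
  obtain ⟨y', hy'⟩ := exists_kerSec θ (W := op W) y (Subsingleton.elim (α := Sec hL.1 𝔊 W) _ _)
  obtain ⟨l, hl⟩ := hker
  let w : Sec hL.1 𝔎 W := secMap l W y'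
  have h0 : w = 0 := Subsingleton.elim _ _
  refine hy'.symm.trans ?_
  refine (congrArg (fun (q : kernel θ ⟶ 𝔉) => (q.val.app (op W)).hom y') hl).symm.trans ?_
  show secMap a W w = 0
  rw [h0, map_zero]

theorem suppF_subset_of_iso (e : 𝔉 ≅ 𝔊) : suppF hL c 𝔉 ⊆ suppF hL c 𝔊 := suppF_subset_of_mono hL c e.hom

variable [∀ n, IsClosedImmersion (c n)] (hc : ∀ n, 𝔛.ι n ≫ c (n + 1) = c n)

/-- The support of the restriction to the smallest level is inside the support. -/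
theorem support_level_subset (h𝔉 : FSch.IsCohF 𝔛 hL.1 𝔉) :
    CohB1.support ((Scheme.Modules.pushforward (c 0)).obj ((pullSys hL 𝔉).F 0)) ⊆ suppF hL c 𝔉 := by
  intro x hx
  obtain ⟨z, rfl⟩ := LeadProper.support_subset_range _
    (H10Coh.isCoh_push_of_isFinite (c 0) _ (isCoh_pullSys hL h𝔉 0)).1 (c 0) (Iso.refl _) hx
  refine ⟨z, fun A hA hzA hs => hx ?_, rfl⟩
  let G := (pullSys hL 𝔉).F 0
  suffices Subsingleton (G.presheaf.stalk z) from
    Function.Injective.subsingleton (H24Hilb.Closed.pushStalk_bijective (c 0) G z).1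
  refine subsingleton_of_forall_eq 0 fun a => ?_
  obtain ⟨U, hzU, s, rfl⟩ := TopCat.Presheaf.exists_germ_eq G.presheaf a
  obtain ⟨W, hW, hzW, hle⟩ := exists_isAffineOpen_mem_and_subset (x := z) (U := U ⊓ A) ⟨hzU, hzA⟩
  haveI := subsingleton_sec_of_le hL h𝔉 hA hW (fun w hw => (hle hw).2) hs
  haveI : Subsingleton Γ(G, 𝔛.lvU hL.1 0 W) := Function.Surjective.subsingleton (surjective_unitSec hL h𝔉 hW 0)
  have l : 𝔛.lvU hL.1 0 W ≤ U := (lvU_zero hL.1 W).le.trans fun w hw => (hle hw).1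
  rw [← TopCat.Presheaf.germ_res_apply G.presheaf (homOfLE l) z ((lvU_zero hL.1 W).symm.le hzW),
    Subsingleton.elim (G.presheaf.map (homOfLE l).op s) 0, map_zero]

variable [IsLocallyNoetherian X]
  (T : ∀ n, Scheme.Modules.pullback (c (n + 1)) ⋙ Scheme.Modules.pullback (𝔛.ι n) ≅ Scheme.Modules.pullback (c n))
  (hT : ∀ n, T n = Scheme.Modules.pullbackComp (𝔛.ι n) (c (n + 1)) ≪≫ Scheme.Modules.pullbackCongr (hc n))

theorem subsingleton_sections_of_disjoint (M : X.Modules) (V : X.Opens)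
    (hV : ∀ y ∈ V, y ∉ CohB1.support M) : Subsingleton Γ(M, V) := by
  refine subsingleton_of_forall_eq 0 fun m => ?_
  refine TopCat.Presheaf.section_ext ⟨M.presheaf, M.isSheaf⟩ V m 0 fun y hy => ?_
  haveI : Subsingleton (M.presheaf.stalk y) := not_not.1 (hV y hy)
  exact Subsingleton.elim (α := ↑(M.presheaf.stalk y)) _ _

include hc in
/-- The support of a completion is inside the support. -/
theorem suppF_pbSys_subset (M : X.Modules) (hM : Coh.IsCoh M) :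
    suppF hL c ((pbSys c T M).realMod hL.1) ⊆ CohB1.support M := by
  rintro x ⟨z, hz, rfl⟩
  by_contra hh
  obtain ⟨V, hV, hxV, hle⟩ := exists_isAffineOpen_mem_and_subset (x := c 0 z)
    (U := ⟨_, (LeadProper.isClosed_support M hM.1 hM.2).isOpen_compl⟩) hh
  haveI := subsingleton_sections_of_disjoint M V fun y hy => hle hy
  refine hz (trOpen c V) (hV.preimage (c 0)) hxV (subsingleton_of_forall_eq 0 fun y => ?_)
  refine prS_ext hL.1 _ _ _ _ fun n => ?_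
  haveI : IsClosedImmersion (c n ∣_ V) := IsZariskiLocalAtTarget.restrict (P := @IsClosedImmersion) inferInstance _
  haveI : Subsingleton Γ((pbSys c T M).F n, 𝔛.lvU hL.1 n (trOpen c V)) := by
    haveI : Subsingleton Γ((pbSys c T M).F n, c n ⁻¹ᵁ V) :=
      Function.Surjective.subsingleton (H17.PullSect.isQuotOn_of_isAffineOpen (c n) M hM.1 hV).1
    exact Function.Surjective.subsingleton (bijective_res_of_le_le ((pbSys c T M).F n) (lvU_trOpen hL.1 c hc n V).le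
      (lvU_trOpen hL.1 c hc n V).ge).2
  exact Subsingleton.elim _ _

section Existence

variable {A : Type u} [CommRing A] [IsNoetherianRing A] (I : Ideal A) [IsAdicComplete I A]
  [X.Over (Spec (CommRingCat.of A))] [IsSeparated (X ↘ Spec (CommRingCat.of A))]
  [LocallyOfFiniteType (X ↘ Spec (CommRingCat.of A))] [QuasiCompact (X ↘ Spec (CommRingCat.of A))]
  (hk : ∀ n, (c n).ker = H24GE.idealOf X I ^ (n + 1))

include hc hT hk in
/-- A coherent module on the completion with proper support is the completion of a coherent module with proper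
support. -/
theorem exists_algebraization (h𝔉 : FSch.IsCohF 𝔛 hL.1 𝔉)
    (hs : ClSub.IsProperOver (X ↘ Spec (CommRingCat.of A)) (suppF hL c 𝔉)) :
    ∃ M : X.Modules, Coh.IsCoh M ∧ ClSub.IsProperOver (X ↘ Spec (CommRingCat.of A)) (CohB1.support M) ∧
      Nonempty (𝔉 ≅ (pbSys c T M).realMod hL.1) := by
  have hI : I.FG := IsNoetherian.noetherian I
  have h0 := H10Coh.isCoh_push_of_isFinite (c 0) _ (isCoh_pullSys hL h𝔉 0)
  obtain ⟨M, hM, hMs, ⟨e⟩⟩ := H24GE.exists_algebraization_properSupport X I (sysOf c hc (pullSys hL 𝔉))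
    (isCohFormal_sysOf c hc I hk hL.1 hI _ (isCoh_pullSys hL h𝔉))
    (LeadProper.isProperOver_mono hs (LeadProper.isClosed_support _ h0.1 h0.2)
      (support_level_subset hL c h𝔉))
  obtain ⟨e₁, -⟩ := exists_complIso c hc I hk T hT hI M hM
  obtain ⟨e₂⟩ := nonempty_iso_of_sys c hc (e₁.symm ≪≫ e)
  obtain ⟨e₃⟩ := nonempty_realMod_iso hL.1 e₂
  haveI := isIso_toReal hL h𝔉
  exact ⟨M, hM, hMs, ⟨asIso (toReal hL 𝔉) ≪≫ e₃.symm⟩⟩

include hc in
/-- Algebraisable modules are coherent with proper support. -/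
theorem properSupp_of_iso {M : X.Modules} (hM : Coh.IsCoh M)
    (hs : ClSub.IsProperOver (X ↘ Spec (CommRingCat.of A)) (CohB1.support M))
    (e : 𝔉 ≅ (pbSys c T M).realMod hL.1) :
    FSch.IsCohF 𝔛 hL.1 𝔉 ∧ ClSub.IsProperOver (X ↘ Spec (CommRingCat.of A)) (suppF hL c 𝔉) :=
  ⟨isCohF_of_iso e.symm (isCohF_realMod (hL := hL) (fun _ => H17.ConsProp.isCoh_pullback _ hM)),
    LeadProper.isProperOver_mono hs (isClosed_suppF hL c 𝔉)
      ((suppF_subset_of_iso hL c e).trans (suppF_pbSys_subset hL c hc T M hM))⟩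

end Existence

end Groth.Agent.H24FMod
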