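import Groth.Agent.H15Site.PullLocPres
import Groth.Agent.H29Fitt.Sheaf

/-!
# Generators and relations: inverse images, and sections over affine opens
-/

set_option autoImplicit false
set_option linter.style.haveILetI false
set_option linter.unusedSectionVars false
universe u

open CategoryTheory CategoryTheory.Limits AlgebraicGeometry Opposite TopologicalSpace

namespace Groth.Agent.H24FMod

open H15Site.ModTensor H15Site.ModRel H15Site.LocGen H15Site.LocPres H15Site.PullTensor H15Site.PullLocPres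

section Site

set_option backward.isDefEq.respectTransparency false

attribute [local instance 10000] H15Site.SiteInst.hasSheafifySite H15Site.SiteInst.hasWeakSheafifySite

variable {C D : Type u} [SmallCategory C] [SmallCategory D] {J : GrothendieckTopology C}
  {K : GrothendieckTopology D} {O_C : Sheaf J CommRingCat.{u}} {O_D : Sheaf K CommRingCat.{u}}
  (f : ModSite.RMor O_C O_D) (F : ModSite.Mod O_D) {U : D}

/-- The unit of the inverse image on sections. -/
noncomputable def unitSec (x : ((forg O_D).obj F).obj (op U)) :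
    ((forg O_C).obj (f.pull.obj F)).obj (op (f.fn.obj U)) :=
  ((f.adj.unit.app F).val.app (op U)).hom x

theorem unitSec_eq (x : ((forg O_D).obj F).obj (op U)) :
    ((explIso f F).hom.val.app (op (f.fn.obj U))).hom
      (cls' f F (StructuredArrow.mk (T := f.fn) (Y := U) (𝟙 (f.fn.obj U))) x) = unitSec f F x := by
  let σ := explσ f ((forg O_D).obj F)
  let k := (explIso f F).hom
  haveI := (univ_iff_isIso _).1 (univ_explσ f ((forg O_D).obj F))
  haveI := H15Site.ModOver.counit_isIso (O := O_D)
  have h0 : psi σ ≫ k = f.pull.map ((adj O_D).counit.app F) := IsIso.hom_inv_id_assoc _ _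
  have h2 : (fpAdj f).homEquiv _ _ (f.pull.map ((adj O_D).counit.app F)) =
      (forg O_D).map (f.adj.unit.app F) := by
    erw [fpAdj, Adjunction.comp_homEquiv, Equiv.trans_apply, f.adj.homEquiv_unit,
      ← f.adj.unit.naturality, Adjunction.homEquiv_unit, Functor.map_comp]
    exact (adj O_D).right_triangle_components_assoc F _
  have e := (homEquiv_psi_comp σ (f.pull.obj F) k).symm.trans ((congrArg _ h0).trans h2)
  rw [Adjunction.homEquiv_unit] at e
  exact congrArg (fun (q : (forg O_D).obj F ⟶ (pushP f).obj ((forg O_C).obj (f.pull.obj F))) =>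
    (q.app (op U)).hom x) e

/-- Generators and relations pull back to generators and relations. -/
theorem gen_rel_unitSec {I L : Type u} [Fintype I] [Fintype L] {s : I → ((forg O_D).obj F).obj (op U)}
    {r : L → I → O_D.obj.obj (op U)} (hs : Gen s) (hr : H15Site.LocFP.Rel s r) :
    Gen (fun i => unitSec f F (s i)) ∧
      H15Site.LocFP.Rel (fun i => unitSec f F (s i)) (fun l i => (f.sharp.hom.app (op U)).hom (r l i)) := by
  let X : StructuredArrow (f.fn.obj U) f.fn := StructuredArrow.mk (T := f.fn) (Y := U) (𝟙 (f.fn.obj U))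
  let e := explIso f F
  have hs' := gen_cls' f F X hs
  have hr' := rel_cls' f F X hs hr
  have he : (fun i => unitSec f F (s i)) = fun i => (e.hom.val.app (op (f.fn.obj U))).hom (cls' f F X (s i)) :=
    funext fun i => (unitSec_eq f F (s i)).symm
  have hrho : (fun l i => (f.sharp.hom.app (op U)).hom (r l i)) = fun l i => rho X (r l i) :=
    funext fun l => funext fun i => by
      show _ = rr O_C (𝟙 (f.fn.obj U)).op ((f.sharp.hom.app (op U)).hom (r l i))
      simp [rr]
  rw [he, hrho]
  refine ⟨gen_of_iso e hs', ⟨fun l => ?_, fun V g c hc => ?_⟩⟩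
  · exact (app_sum_smul e.hom _ _ _).symm.trans ((congrArg _ (hr'.zero l)).trans (map_zero _))
  · refine hr'.complete g c ?_
    apply injective_app e.hom
    rw [map_zero]
    refine (app_sum_smul e.hom _ _ _).trans (Eq.trans (Finset.sum_congr rfl fun i _ => ?_) hc)
    exact congrArg (c i • ·) (app_rs e.hom _ _)

end Site

section Affine

variable {X : Scheme.{u}}

/-- Clearing denominators in a combination. -/
theorem exists_clear {V : X.Opens} (hV : IsAffineOpen V) (M : X.Modules) (hM : Coh.IsQCoh M) (f : Γ(X, V))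
    {I : Type*} [Fintype I] (y : I → Γ(M, V)) (m : Γ(M, V)) (c : I → Γ(X, X.basicOpen f))
    (e : M.presheaf.map (homOfLE (X.basicOpen_le f)).op m =
      ∑ i, c i • M.presheaf.map (homOfLE (X.basicOpen_le f)).op (y i)) :
    ∃ (p : ℕ) (a : I → Γ(X, V)), f ^ p • m = ∑ i, a i • y i := by
  haveI := hM
  letI := Module.compHom Γ(M, X.basicOpen f) (algebraMap Γ(X, V) Γ(X, X.basicOpen f))
  haveI := H29Fitt.isLocalizedModule_resLin M hM hV f
  haveI := hV.isLocalization_basicOpen f
  obtain ⟨⟨b, hb⟩, hd⟩ := IsLocalization.exist_integer_multiples (Submonoid.powers f) Finset.univ c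
  obtain ⟨q, rfl⟩ := hb
  choose a ha using fun i => hd i (Finset.mem_univ i)
  have h2 : H29Fitt.resLin M f (f ^ q • m) = H29Fitt.resLin M f (∑ i, a i • y i) := by
    rw [map_smul, map_sum]
    show algebraMap Γ(X, V) Γ(X, X.basicOpen f) (f ^ q) • (M.presheaf.map (homOfLE (X.basicOpen_le f)).op m) = _
    rw [e, Finset.smul_sum]
    refine Finset.sum_congr rfl fun i _ => ?_
    rw [map_smul, smul_smul]
    show _ = algebraMap Γ(X, V) Γ(X, X.basicOpen f) (a i) • (M.presheaf.map (homOfLE (X.basicOpen_le f)).op (y i))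
    rw [ha i, Algebra.smul_def]
  obtain ⟨⟨_, p, rfl⟩, hp⟩ := IsLocalizedModule.exists_of_eq (S := Submonoid.powers f) h2
  refine ⟨p + q, fun i => f ^ p * a i, ?_⟩
  rw [pow_add, mul_smul]
  refine (hp : f ^ p • f ^ q • m = f ^ p • _).trans ?_
  rw [Finset.smul_sum]
  exact Finset.sum_congr rfl fun i _ => (mul_smul _ _ _).symm

/-- An ideal of sections containing powers of functions covering an affine open is everything. -/
theorem one_mem_of_forall_mem {V : X.Opens} (hV : IsAffineOpen V) (I : Ideal Γ(X, V))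
    (h : ∀ x ∈ V, ∃ f ∈ I, x ∈ X.basicOpen f) : (1 : Γ(X, V)) ∈ I := by
  have h1 : Ideal.span (I : Set Γ(X, V)) = ⊤ := (hV.self_le_iSup_basicOpen_iff).1 fun x hx => by
    obtain ⟨f, hf, hxf⟩ := h x hx
    exact Opens.mem_iSup.2 ⟨⟨f, hf⟩, hxf⟩
  rw [Ideal.span_eq] at h1
  rw [h1]
  trivial

variable {M : X.Modules} {V : X.Opens}

/-- Local generators of a quasi-coherent module generate the sections over an affine open. -/
theorem exists_comb_of_gen (hV : IsAffineOpen V) (hM : Coh.IsQCoh M) {I : Type u} [Fintype I]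
    (y : I → ((forg X.sheaf).obj M).obj (op V)) (hy : Gen (O := X.sheaf) (F := M) y) (m : Γ(M, V)) :
    ∃ c : I → Γ(X, V), m = ∑ i, c i • (y i : Γ(M, V)) := by
  let N : Submodule Γ(X, V) Γ(M, V) := Submodule.span _ (Set.range y)
  suffices h : m ∈ N by
    obtain ⟨c, hc⟩ := (Submodule.mem_span_range_iff_exists_fun _).1 h
    exact ⟨c, hc.symm⟩
  let I₀ : Ideal Γ(X, V) := N.comap (LinearMap.toSpanSingleton Γ(X, V) Γ(M, V) m)
  have h1 : (1 : Γ(X, V)) ∈ I₀ := one_mem_of_forall_mem hV I₀ fun x hx => by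
    obtain ⟨S, hS, hS'⟩ := hy (𝟙 V) m
    obtain ⟨W, g, hg, hxW⟩ := hS x hx
    obtain ⟨f, hfle, hxf⟩ := hV.exists_basicOpen_le ⟨x, hxW⟩ hx
    obtain ⟨r, hr⟩ := hS' _ (S.downward_closed hg (homOfLE hfle))
    obtain ⟨p, a, ha⟩ := exists_clear hV M hM f (fun i => (y i : Γ(M, V))) m r (by
      refine Eq.trans ?_ (hr.trans ?_)
      · exact congrArg (fun z => M.presheaf.map z m) (Subsingleton.elim _ _)
      · exact Finset.sum_congr rfl fun i _ => congrArg (fun z => (show Γ(X, X.basicOpen f) from r i) • (M.presheaf.map z (y i) : Γ(M, X.basicOpen f))) (Subsingleton.elim _ _))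
    refine ⟨f ^ (p + 1), ?_, by rw [X.basicOpen_pow f (Nat.succ_pos p)]; exact hxf⟩
    show f ^ (p + 1) • m ∈ N
    rw [pow_succ', mul_smul, ha]
    exact N.smul_mem _ (N.sum_mem fun i _ => N.smul_mem _ (Submodule.subset_span ⟨i, rfl⟩))
  simpa [I₀] using h1

/-- Locally complete relations are complete on sections over an affine open. -/
theorem exists_comb_of_rel (hV : IsAffineOpen V) {I L : Type u} [Fintype I] [Fintype L]
    (y : I → ((forg X.sheaf).obj M).obj (op V)) (r : L → I → Γ(X, V))
    (hr : H15Site.LocFP.Rel (O := X.sheaf) (F := M) y r) (c : I → Γ(X, V))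
    (hc : ∑ i, c i • (y i : Γ(M, V)) = 0) : ∃ d : L → Γ(X, V), ∀ i, c i = ∑ l, d l * r l i := by
  classical
  let N : Submodule Γ(X, V) (I → Γ(X, V)) := Submodule.span _ (Set.range r)
  suffices h : c ∈ N by
    obtain ⟨d, hd⟩ := (Submodule.mem_span_range_iff_exists_fun _).1 h
    exact ⟨d, fun i => by rw [← hd]; simp⟩
  let I₀ : Ideal Γ(X, V) := N.comap (LinearMap.toSpanSingleton Γ(X, V) (I → Γ(X, V)) c)
  have h1 : (1 : Γ(X, V)) ∈ I₀ := one_mem_of_forall_mem hV I₀ fun x hx => by
    obtain ⟨S, hS, hS'⟩ := hr.complete (𝟙 V) c (by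
      refine Eq.trans (Finset.sum_congr rfl fun i _ => ?_) hc
      exact congrArg (c i • ·) (rs_id _ _))
    obtain ⟨W, g, hg, hxW⟩ := hS x hx
    obtain ⟨f, hfle, hxf⟩ := hV.exists_basicOpen_le ⟨x, hxW⟩ hx
    obtain ⟨d, hd⟩ := hS' _ (S.downward_closed hg (homOfLE hfle))
    haveI := hV.isLocalization_basicOpen f
    let d₁ : L → Γ(X, X.basicOpen f) := d
    obtain ⟨⟨b, hb⟩, hd'⟩ := IsLocalization.exist_integer_multiples (Submonoid.powers f) Finset.univ d₁
    obtain ⟨q, rfl⟩ := hb
    choose a ha using fun l => hd' l (Finset.mem_univ l)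
    have e : ∀ i, algebraMap Γ(X, V) Γ(X, X.basicOpen f) (f ^ q * c i) =
        algebraMap Γ(X, V) Γ(X, X.basicOpen f) (∑ l, a l * r l i) := fun i => by
      have hdi : algebraMap Γ(X, V) Γ(X, X.basicOpen f) (c i) =
          ∑ l, d₁ l * algebraMap Γ(X, V) Γ(X, X.basicOpen f) (r l i) := by
        refine Eq.trans ?_ ((hd i).trans ?_)
        · exact congrArg (fun z => X.presheaf.map z (c i)) (Subsingleton.elim _ _)
        · exact Finset.sum_congr rfl fun l _ => congrArg (fun z => d₁ l * X.presheaf.map z (r l i)) (Subsingleton.elim _ _)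
      simp only [map_mul, map_sum, ha, Algebra.smul_def, mul_assoc, ← Finset.mul_sum, hdi]
    choose k hk using fun i => IsLocalization.exists_of_eq (M := Submonoid.powers f) (e i)
    obtain ⟨p, hp⟩ := (∏ i, k i).2
    refine ⟨f ^ (p + q + 1), ?_, by rw [X.basicOpen_pow f (Nat.succ_pos _)]; exact hxf⟩
    show f ^ (p + q + 1) • c ∈ N
    rw [pow_succ', mul_smul]
    refine N.smul_mem _ ((Submodule.mem_span_range_iff_exists_fun _).2 ⟨fun l => f ^ p * a l, funext fun i => ?_⟩)
    simp only [Finset.sum_apply, Pi.smul_apply, smul_eq_mul, mul_assoc, ← Finset.mul_sum]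
    have hdiv : (k i : Γ(X, V)) ∣ f ^ p := by
      rw [show f ^ p = ((∏ i, k i : Submonoid.powers f) : Γ(X, V)) from hp, Submonoid.coe_finset_prod]
      exact Finset.dvd_prod_of_mem _ (Finset.mem_univ i)
    obtain ⟨t, ht⟩ := hdiv
    rw [pow_add, mul_assoc, ht, mul_comm (k i : Γ(X, V)) t, mul_assoc, mul_assoc, hk i]
  simpa [I₀] using h1

end Affine

end Groth.Agent.H24FMod
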