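import Groth.Agent.H24FMod.Level
import Groth.Agent.H24FMod.PullSec
import Groth.Agent.H10Coh.QCohOps

/-!
# A coherent module on a formal scheme is the module of the system of its inverse images
-/

set_option autoImplicit false
set_option linter.style.haveILetI false
set_option linter.unusedSectionVars false
universe u

open CategoryTheory CategoryTheory.Limits AlgebraicGeometry TopologicalSpace Opposite

namespace Groth.Agent.H24FMod

open H15Site.ModTensor H15Site.ModRel H15Site.LocGen H15Site.LocPres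

variable {𝔛 : FSch.Sys.{u}} (hL : 𝔛.IsLocNoethFormal)

/-- The comparison of direct images from consecutive levels, as an isomorphism. -/
noncomputable def pushCompareIso (k : ℕ) :
    Scheme.Modules.pushforward (𝔛.ι k) ⋙ (FSch.levelMor 𝔛 hL.1 (k + 1)).push ≅ (FSch.levelMor 𝔛 hL.1 k).push :=
  { hom := FSch.pushCompare 𝔛 hL.1 k
    inv := FSch.pushCompareInv 𝔛 hL.1 k
    hom_inv_id := NatTrans.ext (funext fun G => FSch.pushCompare_pushCompareInv 𝔛 hL.1 k G)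
    inv_hom_id := NatTrans.ext (funext fun G => FSch.pushCompareInv_pushCompare 𝔛 hL.1 k G) }

/-- The adjunction of a level through the next one. -/
noncomputable def adjStep (k : ℕ) :
    (FSch.levelMor 𝔛 hL.1 (k + 1)).pull ⋙ Scheme.Modules.pullback (𝔛.ι k) ⊣ (FSch.levelMor 𝔛 hL.1 k).push :=
  ((FSch.levelMor 𝔛 hL.1 (k + 1)).adj.comp (Scheme.Modules.pullbackPushforwardAdjunction (𝔛.ι k))).ofNatIsoRight
    (pushCompareIso hL k)

variable (𝔉 : FSch.ModF 𝔛 hL.1)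

/-- The system of inverse images of a module to the levels. -/
noncomputable def pullSys : FSch.ModSys 𝔛 where
  F n := (FSch.levelMor 𝔛 hL.1 n).pull.obj 𝔉
  e n := (Adjunction.leftAdjointUniq (adjStep hL n) (FSch.levelMor 𝔛 hL.1 n).adj).app 𝔉

theorem unit_step (n : ℕ) :
    (FSch.levelMor 𝔛 hL.1 (n + 1)).adj.unit.app 𝔉 ≫
      ((FSch.levelMor 𝔛 hL.1 (n + 1)).push.map ((pullSys hL 𝔉).toPush n) ≫
        (FSch.pushCompare 𝔛 hL.1 n).app ((pullSys hL 𝔉).F n)) = (FSch.levelMor 𝔛 hL.1 n).adj.unit.app 𝔉 := by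
  have h := Adjunction.homEquiv_leftAdjointUniq_hom_app (adjStep hL n) (FSch.levelMor 𝔛 hL.1 n).adj 𝔉
  refine Eq.trans ?_ h
  rw [adjStep, Adjunction.homEquiv_ofNatIsoRight_apply, Adjunction.comp_homEquiv]
  simp only [Equiv.trans_apply, Adjunction.homEquiv_unit (adj := (FSch.levelMor 𝔛 hL.1 (n + 1)).adj), Category.assoc]
  rfl

/-- The canonical morphism to the module of the system of inverse images. -/
noncomputable def toReal : 𝔉 ⟶ (pullSys hL 𝔉).realMod hL.1 :=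
  limit.lift (FSch.levelSysOf 𝔛 hL.1 (pullSys hL 𝔉).F (pullSys hL 𝔉).toPush)
    { pt := 𝔉
      π := NatTrans.ofOpSequence (fun n => (FSch.levelMor 𝔛 hL.1 n).adj.unit.app 𝔉) fun n => by
        rw [FSch.levelSysOf_map_succ]
        exact (Category.id_comp _).trans (unit_step hL 𝔉 n).symm }

theorem toReal_proj (n : ℕ) :
    toReal hL 𝔉 ≫ FSch.realProj 𝔛 hL.1 (pullSys hL 𝔉).F (pullSys hL 𝔉).toPush n =
      (FSch.levelMor 𝔛 hL.1 n).adj.unit.app 𝔉 :=
  limit.lift_π _ _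

variable {𝔉} (h𝔉 : FSch.IsCohF 𝔛 hL.1 𝔉)

include h𝔉 in
theorem isCoh_pullSys : (pullSys hL 𝔉).IsCoh := fun n => by
  haveI : SheafOfModules.IsFinitePresentation (R := ModSite.ringSh (𝔛.Osh hL.1)) 𝔉 := h𝔉
  haveI hp := H15Site.PullLocPres.isFinitePresentation_pull (FSch.levelMor 𝔛 hL.1 n) 𝔉
  constructor
  · exact (inferInstance : SheafOfModules.IsQuasicoherent (R := ModSite.ringSh (𝔛.X n).sheaf)
      ((FSch.levelMor 𝔛 hL.1 n).pull.obj 𝔉))
  · exact (inferInstance : SheafOfModules.IsFiniteType (R := ModSite.ringSh (𝔛.X n).sheaf)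
      ((FSch.levelMor 𝔛 hL.1 n).pull.obj 𝔉))

theorem pm_toReal (n : ℕ) (A : (𝔛.X 0).Opens) (x : Sec hL.1 𝔉 A) :
    pm hL (pullSys hL 𝔉) n A (secMap (toReal hL 𝔉) A x) = unitSec (FSch.levelMor 𝔛 hL.1 n) 𝔉 x :=
  congrArg (fun (q : 𝔉 ⟶ (FSch.levelMor 𝔛 hL.1 n).push.obj ((pullSys hL 𝔉).F n)) => (q.val.app (op A)).hom x)
    (toReal_proj hL 𝔉 n)

include h𝔉 in
/-- A presentation of a coherent module gives a presentation of the module of its system. -/
theorem pres_toReal {A : (𝔛.X 0).Opens} (hA : IsAffineOpen A) {I K : Type u} [Fintype I] [Fintype K]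
    {x : I → Sec hL.1 𝔉 A} {r : K → I → OSec hL.1 A} (hx : Gen x) (hr : H15Site.LocFP.Rel x r) :
    Pres hL (pullSys hL 𝔉) A (fun i => secMap (toReal hL 𝔉) A (x i)) r := by
  refine pres_of_levels (isCoh_pullSys hL h𝔉) hA (fun k => ?_) fun n => ?_
  · exact (app_sum_smul (toReal hL 𝔉) _ _ _).symm.trans ((congrArg _ (hr.zero k)).trans (map_zero _))
  · obtain ⟨h1, h2⟩ := gen_rel_unitSec (FSch.levelMor 𝔛 hL.1 n) 𝔉 hx hr
    simp only [pm_toReal]
    exact ⟨exists_comb_of_gen (isAffineOpen_lvU hL hA n) (isCoh_pullSys hL h𝔉 n).1 _ h1,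
      exists_comb_of_rel (isAffineOpen_lvU hL hA n) _ _ h2⟩

include h𝔉 in
theorem exists_cover_pres (V : (𝔛.X 0).Opens) :
    ∃ S ∈ Opens.grothendieckTopology (𝔛.X 0) V, ∀ ⦃W : (𝔛.X 0).Opens⦄ (g : W ⟶ V), S g →
      ∃ A : (𝔛.X 0).Opens, W ≤ A ∧ A ≤ V ∧ IsAffineOpen A ∧ FP 𝔉 A := by
  haveI : SheafOfModules.IsFinitePresentation (R := ModSite.ringSh (𝔛.Osh hL.1)) 𝔉 := h𝔉
  obtain ⟨S, hS, hS'⟩ := lh_fp 𝔉 V
  let T : Sieve V :=
    { arrows := fun W _ => ∃ A : (𝔛.X 0).Opens, W ≤ A ∧ A ≤ V ∧ IsAffineOpen A ∧ FP 𝔉 A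
      downward_closed := fun {W W'} _ hh g => by
        obtain ⟨A, h1, h2, h3, h4⟩ := hh
        exact ⟨A, (leOfHom g).trans h1, h2, h3, h4⟩ }
  refine ⟨T, fun y hy => ?_, fun W g hg => hg⟩
  obtain ⟨B, g, hg, hyB⟩ := hS y hy
  obtain ⟨A, hA, hyA, hle⟩ := exists_isAffineOpen_mem_and_subset (x := y) (U := B) hyB
  exact ⟨A, homOfLE (le_trans hle (leOfHom g)),
    ⟨A, le_rfl, le_trans hle (leOfHom g), hA, FP.res (homOfLE hle) (hS' g hg)⟩, hyA⟩

include h𝔉 in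
theorem mono_toReal : Mono (toReal hL 𝔉) := by
  refine (Preadditive.mono_iff_cancel_zero _).2 fun P φ hφ => hom_ext_sec fun U y => ?_
  let z : Sec hL.1 𝔉 U := secMap φ U y
  have hz : secMap (toReal hL 𝔉) U z = 0 :=
    congrArg (fun (q : P ⟶ (pullSys hL 𝔉).realMod hL.1) => (q.val.app (op U)).hom y) hφ
  show z = 0
  obtain ⟨T, hT, hT'⟩ := exists_cover_pres hL h𝔉 U
  refine separated_forg 𝔉 (X := op U) T hT _ _ fun W g hg => ?_
  obtain ⟨A, h1, h2, hA, I, K, hI, hK, x, r, hx, hr⟩ := hT' g hg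
  obtain ⟨E, hE, hE'⟩ := hx (homOfLE le_rfl) (rs ((forg (𝔛.Osh hL.1)).obj 𝔉) (homOfLE h2).op z)
  refine (?_ : _ = (0 : Sec hL.1 𝔉 W)).trans (rs_zero _ _).symm
  refine separated_forg 𝔉 (X := op W) (E.pullback (homOfLE h1)) ((Opens.grothendieckTopology _).pullback_stable _ hE)
    _ _ fun Z k hk => ?_
  refine Eq.trans ?_ (rs_zero _ _).symm
  obtain ⟨c, hc⟩ := hE' (k ≫ homOfLE h1) hk
  have e1 : rs ((forg (𝔛.Osh hL.1)).obj 𝔉) k.op (rs ((forg (𝔛.Osh hL.1)).obj 𝔉) g.op z) =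
      ∑ i, c i • rs ((forg (𝔛.Osh hL.1)).obj 𝔉) ((k ≫ homOfLE h1) ≫ homOfLE le_rfl).op (x i) := by
    refine Eq.trans ?_ hc
    rw [rs_rs, rs_rs]
    exact congrArg (fun q => rs _ q z) (Subsingleton.elim _ _)
  refine e1.trans ?_
  obtain ⟨T', hT₁, hT₁'⟩ := exists_cover_pres hL h𝔉 Z
  refine separated_forg 𝔉 (X := op Z) (affSieve Z) (affSieve_mem Z) _ _ fun Z' q hq => ?_
  obtain ⟨B, hB, hq1, hq2⟩ := hq
  let l : B ⟶ A := homOfLE (hq2.trans ((leOfHom k).trans h1))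
  have hP := pres_toReal hL h𝔉 hB (hx.restrict l) (hr.restrict l)
  let cB : I → OSec hL.1 B := fun i => rr (𝔛.Osh hL.1) (homOfLE hq2).op (c i)
  have hsum : ∑ i, cB i • secMap (toReal hL 𝔉) B (rs ((forg (𝔛.Osh hL.1)).obj 𝔉) l.op (x i)) = 0 := by
    refine (app_sum_smul (toReal hL 𝔉) _ _ _).symm.trans ?_
    have e2 : ∑ i, cB i • rs ((forg (𝔛.Osh hL.1)).obj 𝔉) l.op (x i) =
        rs ((forg (𝔛.Osh hL.1)).obj 𝔉) ((homOfLE hq2) ≫ k ≫ g).op z := by
      rw [op_comp, op_comp, ← rs_rs, ← rs_rs, e1, rs_sum]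
      refine Finset.sum_congr rfl fun i _ => ?_
      rw [rs_smul', rs_rs]
      exact congrArg (fun q => cB i • rs _ q (x i)) (Subsingleton.elim _ _)
    refine (congrArg _ e2).trans ?_
    refine (rs_app (toReal hL 𝔉).val _ z).trans ?_
    exact (congrArg _ hz).trans (rs_zero _ _)
  obtain ⟨d, hd⟩ := hP.complete cB hsum
  rw [rs_zero, show q.op = (homOfLE hq2).op ≫ (homOfLE hq1).op from Subsingleton.elim _ _, ← rs_rs]
  refine (congrArg _ ?_).trans (rs_zero _ _)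
  rw [rs_sum]
  refine Eq.trans (Finset.sum_congr rfl fun i _ => ?_)
    (Eq.trans (b := ∑ i, (∑ j, d j * rr (𝔛.Osh hL.1) l.op (r j i)) • rs ((forg (𝔛.Osh hL.1)).obj 𝔉) l.op (x i)) rfl ?_)
  · rw [rs_smul', rs_rs, ← hd i]
    exact congrArg (fun q => cB i • rs _ q (x i)) (Subsingleton.elim _ _)
  · simp only [Finset.sum_smul, mul_smul]
    rw [Finset.sum_comm]
    refine Finset.sum_eq_zero fun j _ => ?_
    rw [← Finset.smul_sum]
    have := (hr.restrict l).zero j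
    rw [this, smul_zero]

include h𝔉 in
theorem epi_toReal : Epi (toReal hL 𝔉) := by
  rw [epi_iff_locSurj]
  intro V t
  obtain ⟨S, hS, hS'⟩ := exists_cover_pres hL h𝔉 V
  refine ⟨S, hS, fun W g hg => ?_⟩
  obtain ⟨A, h1, h2, hA, I, K, hI, hK, x, r, hx, hr⟩ := hS' g hg
  obtain ⟨c, hc⟩ := (pres_toReal hL h𝔉 hA hx hr).gen
    (rs ((forg (𝔛.Osh hL.1)).obj ((pullSys hL 𝔉).realMod hL.1)) (homOfLE h2).op t)
  refine ⟨rs ((forg (𝔛.Osh hL.1)).obj 𝔉) (homOfLE h1).op (∑ i, c i • x i), ?_⟩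
  rw [show g.op = (homOfLE h2).op ≫ (homOfLE h1).op from Subsingleton.elim _ _, ← rs_rs, hc]
  exact (rs_app (toReal hL 𝔉).val _ _).trans (congrArg _ (app_sum_smul (toReal hL 𝔉) _ _ _))

include h𝔉 in
/-- A coherent module is the module of the system of its inverse images. -/
theorem isIso_toReal : IsIso (toReal hL 𝔉) := by
  haveI := mono_toReal hL h𝔉
  haveI := epi_toReal hL h𝔉
  exact isIso_of_mono_of_epi _

end Groth.Agent.H24FMod
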