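import Groth.Agent.H15Site.LocPres
import Groth.Agent.H24FMod.Restrict
import Groth.Agent.H24GE.Sys

/-!
# Coherent modules on locally Noetherian schemes are finitely presented
-/

set_option autoImplicit false
set_option linter.style.haveILetI false
set_option linter.unusedSectionVars false
universe u

open CategoryTheory CategoryTheory.Limits AlgebraicGeometry TopologicalSpace Opposite

namespace Groth.Agent.H24FMod

open H15Site.ModTensor H15Site.ModRel H15Site.LocGen H15Site.LocPres

variable {X : Scheme.{u}} [IsLocallyNoetherian X]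

/-- The sieve of opens inside an affine open inside. -/
def affSieveS (V : X.Opens) : Sieve V where
  arrows W _ := ∃ A : X.Opens, IsAffineOpen A ∧ W ≤ A ∧ A ≤ V
  downward_closed {W W'} _ hh g := by
    obtain ⟨A, hA, h1, h2⟩ := hh
    exact ⟨A, hA, (leOfHom g).trans h1, h2⟩

theorem affSieveS_mem (V : X.Opens) : affSieveS V ∈ Opens.grothendieckTopology X V := fun y hy => by
  obtain ⟨A, hA, hyA, hle⟩ := exists_isAffineOpen_mem_and_subset (x := y) (U := V) hy
  exact ⟨A, homOfLE hle, ⟨A, hA, le_rfl, hle⟩, hyA⟩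

/-- A coherent module on a locally Noetherian scheme is finitely presented. -/
theorem isFinitePresentation_of_isCoh {F : X.Modules} (hF : Coh.IsCoh F) :
    SheafOfModules.IsFinitePresentation (R := ModSite.ringSh X.sheaf) F := by
  let M : ModSite.Mod X.sheaf := F
  refine isFinitePresentation_of_lh (O := X.sheaf) (F := M) (lh_of_coversTop (X := fun W : X.affineOpens => W.1)
    ((Opens.coversTop_iff _ _).2 (iSup_affineOpens_eq_top _)) FP.res fun A => ?_)
  obtain ⟨A, hA⟩ := A
  haveI := H24GE.isNoetherianRing_sections (X := X) hA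
  haveI := H24GE.finite_sections' hF hA
  obtain ⟨N, q, hq⟩ := Module.Finite.exists_fin (R := Γ(X, A)) (M := Γ(F, A))
  let s : ULift.{u} (Fin N) → Γ(F, A) := fun i => q i.down
  let p := Fintype.linearCombination Γ(X, A) s
  obtain ⟨K, t, ht⟩ := Submodule.fg_iff_exists_fin_generating_family.1 (IsNoetherian.noetherian (LinearMap.ker p))
  let r : ULift.{u} (Fin K) → ULift.{u} (Fin N) → Γ(X, A) := fun k => t k.down
  have hs : ∀ m, ∃ c : ULift.{u} (Fin N) → Γ(X, A), m = ∑ i, c i • s i := fun m => by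
    have hm : m ∈ Submodule.span Γ(X, A) (Set.range q) := hq ▸ Submodule.mem_top
    obtain ⟨c, hc⟩ := (Submodule.mem_span_range_iff_exists_fun _).1 hm
    exact ⟨fun i => c i.down, hc.symm.trans (Equiv.ulift.sum_comp fun i => c i • q i).symm⟩
  have hr0 : ∀ k, ∑ i, r k i • s i = 0 := fun k =>
    (Fintype.linearCombination_apply _ _ _).symm.trans (ht ▸ Submodule.subset_span ⟨k.down, rfl⟩ : t k.down ∈ LinearMap.ker p)
  have hr : ∀ c : ULift.{u} (Fin N) → Γ(X, A), ∑ i, c i • s i = 0 →
      ∃ d : ULift.{u} (Fin K) → Γ(X, A), ∀ i, c i = ∑ k, d k * r k i := fun c hc => by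
    have h1 : c ∈ Submodule.span Γ(X, A) (Set.range t) :=
      ht ▸ (LinearMap.mem_ker.2 ((Fintype.linearCombination_apply _ _ _).trans hc) : c ∈ LinearMap.ker p)
    obtain ⟨d, hd⟩ := (Submodule.mem_span_range_iff_exists_fun _).1 h1
    refine ⟨fun k => d k.down, fun i => ?_⟩
    rw [← hd, Finset.sum_apply]
    exact (Equiv.ulift.sum_comp fun k => d k * t k i).symm
  refine ⟨ULift.{u} (Fin N), ULift.{u} (Fin K), inferInstance, inferInstance, s, r, fun V g x => ?_,
    ⟨hr0, fun V g c hc => ?_⟩⟩
  · refine ⟨affSieveS V, affSieveS_mem V, fun W k hk => ?_⟩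
    obtain ⟨B, hB, h1, h2⟩ := hk
    obtain ⟨c, hc⟩ := (restrict_gen_rel F hF.1 hA hB (h2.trans (leOfHom g)) s r hs hr).1
      (rs ((forg X.sheaf).obj M) (homOfLE h2).op x)
    refine ⟨fun i => rr X.sheaf (homOfLE h1).op (c i), ?_⟩
    rw [show k.op = (homOfLE h2).op ≫ (homOfLE h1).op from Subsingleton.elim _ _, ← rs_rs]
    refine (congrArg (rs ((forg X.sheaf).obj M) (homOfLE h1).op) hc).trans ((rs_sum _ _ _ _).trans (Finset.sum_congr rfl fun i _ => ?_))
    refine (rs_smul' _ _ _ _).trans (congrArg (_ • ·) ?_)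
    exact (rs_rs ((forg X.sheaf).obj M) (homOfLE (h2.trans (leOfHom g))).op (homOfLE h1).op (s i)).trans
      (congrArg (fun z => rs _ z (s i)) (Subsingleton.elim _ _))
  · refine ⟨affSieveS V, affSieveS_mem V, fun W k hk => ?_⟩
    obtain ⟨B, hB, h1, h2⟩ := hk
    obtain ⟨d, hd⟩ := (restrict_gen_rel F hF.1 hA hB (h2.trans (leOfHom g)) s r hs hr).2
      (fun i => rr X.sheaf (homOfLE h2).op (c i)) (by
        have h := congrArg (fun z => rs ((forg X.sheaf).obj M) (homOfLE h2).op z) hc
        simp only [rs_sum, rs_smul', rs_rs, rs_zero] at h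
        refine (Finset.sum_congr rfl fun i _ => ?_).trans h
        exact congrArg (fun z => rr X.sheaf (homOfLE h2).op (c i) • rs ((forg X.sheaf).obj M) z (s i)) (Subsingleton.elim _ _))
    refine ⟨fun j => rr X.sheaf (homOfLE h1).op (d j), fun i => ?_⟩
    have h := congrArg (fun z => rr X.sheaf (homOfLE h1).op z) (hd i)
    simp only [rr_rr, map_sum, map_mul] at h
    rw [show k.op = (homOfLE h2).op ≫ (homOfLE h1).op from Subsingleton.elim _ _]
    refine h.trans ((map_sum (X.sheaf.obj.map (homOfLE h1).op).hom _ _).trans (Finset.sum_congr rfl fun j _ => ?_))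
    refine (map_mul (X.sheaf.obj.map (homOfLE h1).op).hom _ _).trans (congrArg (_ * ·) ?_)
    exact (rr_rr (O := X.sheaf) (homOfLE (h2.trans (leOfHom g))).op (homOfLE h1).op (r j i)).trans
      (congrArg (fun z => rr X.sheaf z (r j i)) (Subsingleton.elim _ _))

end Groth.Agent.H24FMod
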