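import Groth.Agent.H24FMod.Kernel
import Groth.Agent.H24FSch.Kernels
import Groth.Agent.H10Coh.QCohOps
import Groth.Prelude.Def_FSch3
import Mathlib.RingTheory.AdicCompletion.Exactness

/-!
# Sections of completions of coherent modules along a closed subscheme; exactness of completion
-/

set_option autoImplicit false
set_option linter.style.haveILetI false
set_option linter.unusedSectionVars false
universe u

open CategoryTheory CategoryTheory.Limits AlgebraicGeometry TopologicalSpace Opposite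

namespace Groth.Agent.H24FMod

open H15Site.ModTensor H15Site.ModRel H15Site.LocGen H15Site.LocPres

variable {X : Scheme.{u}} {𝔛 : FSch.Sys.{u}} (h : 𝔛.IsFormal) (c : ∀ n, 𝔛.X n ⟶ X)
  (hc : ∀ n, 𝔛.ι n ≫ c (n + 1) = c n)
  (T : ∀ n, Scheme.Modules.pullback (c (n + 1)) ⋙ Scheme.Modules.pullback (𝔛.ι n) ≅ Scheme.Modules.pullback (c n))
  (hT : ∀ n, T n = Scheme.Modules.pullbackComp (𝔛.ι n) (c (n + 1)) ≪≫ Scheme.Modules.pullbackCongr (hc n))

/-- The trace of an open on the common space. -/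
noncomputable abbrev trOpen (V : X.Opens) : (𝔛.X 0).Opens := c 0 ⁻¹ᵁ V

include hc in
theorem toX_cX (n : ℕ) : 𝔛.toX n ≫ c n = c 0 := by
  induction n with
  | zero => exact Category.id_comp _
  | succ n ih => exact (Category.assoc _ _ _).trans ((congrArg (𝔛.toX n ≫ ·) (hc n)).trans ih)

include hc in
theorem lvU_trOpen (n : ℕ) (V : X.Opens) : 𝔛.lvU h n (trOpen c V) = c n ⁻¹ᵁ V := by
  rw [trOpen, ← toX_cX c hc n, Scheme.Hom.comp_preimage]
  change (Opens.map (𝔛.gInv h n ≫ (𝔛.toX n).base)).obj (c n ⁻¹ᵁ V) = _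
  rw [𝔛.gInv_toX_base h n]
  rfl

/-- The system of inverse images of a module on the scheme to the levels. -/
noncomputable def pbSys (F : X.Modules) : FSch.ModSys 𝔛 where
  F n := (Scheme.Modules.pullback (c n)).obj F
  e n := (T n).app F

/-- The functoriality of the system of inverse images. -/
noncomputable def pbMap {F G : X.Modules} (f : F ⟶ G) : pbSys c T F ⟶ pbSys c T G :=
  ⟨fun n => (Scheme.Modules.pullback (c n)).map f, fun n => (T n).hom.naturality f⟩

variable (F G : X.Modules) (V : X.Opens)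

/-- The comparison of sections with the sections of a level of the completion. -/
noncomputable def κ (n : ℕ) :
    Γ(F, V) →+ Γ((pbSys c T F).F n, 𝔛.lvU h n (trOpen c V)) where
  toFun m := ((pbSys c T F).F n).presheaf.map (homOfLE (lvU_trOpen h c hc n V).le).op (OmegaSh.pullSect (c n) F V m)
  map_zero' := (congrArg _ (map_zero (OmegaSh.pullSect (c n) F V).hom)).trans (map_zero _)
  map_add' a b := (congrArg _ (map_add (OmegaSh.pullSect (c n) F V).hom a b)).trans (map_add _ _ _)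

theorem congr_pullSect' {Y Z : Scheme.{u}} {a b : Y ⟶ Z} (e : a = b) (N : Z.Modules) (U : Z.Opens)
    (s : Γ(N, U)) :
    ((Scheme.Modules.pullbackCongr e).hom.app N).app (a ⁻¹ᵁ U) (OmegaSh.pullSect a N U s) =
      ((Scheme.Modules.pullback b).obj N).presheaf.map (homOfLE (e ▸ le_rfl : a ⁻¹ᵁ U ≤ b ⁻¹ᵁ U)).op
        (OmegaSh.pullSect b N U s) := by
  subst e
  simp [Scheme.Modules.pullbackCongr]

theorem app_map (n : ℕ) {M N : (𝔛.X n).Modules} (a : M ⟶ N)
    {A B : (𝔛.X n).Opens} (l : A ≤ B) (x : Γ(M, B)) :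
    a.app A (M.presheaf.map (homOfLE l).op x) = N.presheaf.map (homOfLE l).op (a.app B x) :=
  congr($(a.mapPresheaf.naturality (homOfLE l).op) x)

include hT in
theorem toPush_pullSect (n : ℕ) (m : Γ(F, V)) :
    ((pbSys c T F).toPush n).app (c (n + 1) ⁻¹ᵁ V) (OmegaSh.pullSect (c (n + 1)) F V m) =
      ((pbSys c T F).F n).presheaf.map
        (homOfLE (show 𝔛.ι n ⁻¹ᵁ (c (n + 1) ⁻¹ᵁ V) ≤ c n ⁻¹ᵁ V by
          rw [← Scheme.Hom.comp_preimage, hc])).op (OmegaSh.pullSect (c n) F V m) := by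
  let ι := 𝔛.ι n
  let c₁ := c (n + 1)
  have h1 : ((pbSys c T F).toPush n).app (c₁ ⁻¹ᵁ V) (OmegaSh.pullSect c₁ F V m) =
      ((pbSys c T F).e n).hom.app (ι ⁻¹ᵁ (c₁ ⁻¹ᵁ V))
        (OmegaSh.pullSect ι ((pbSys c T F).F (n + 1)) (c₁ ⁻¹ᵁ V) (OmegaSh.pullSect c₁ F V m)) := by
    rw [FSch.ModSys.toPush, Adjunction.homEquiv_unit]
    rfl
  have h2 := H17.PullSect.pullSect_comp ι c₁ F V m
  have h3 := congrArg (fun z => ((Scheme.Modules.pullbackComp ι c₁).hom.app F).app (ι ⁻¹ᵁ (c₁ ⁻¹ᵁ V)) z) h2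
  have h4 : ((Scheme.Modules.pullbackComp ι c₁).hom.app F).app (ι ⁻¹ᵁ (c₁ ⁻¹ᵁ V))
      (((Scheme.Modules.pullbackComp ι c₁).inv.app F).app ((ι ≫ c₁) ⁻¹ᵁ V) (OmegaSh.pullSect (ι ≫ c₁) F V m)) =
      OmegaSh.pullSect (ι ≫ c₁) F V m :=
    congr($(congrArg (fun k => Scheme.Modules.Hom.app k ((ι ≫ c₁) ⁻¹ᵁ V))
      ((Scheme.Modules.pullbackComp ι c₁).inv_hom_id_app F)) (OmegaSh.pullSect (ι ≫ c₁) F V m))
  refine h1.trans ?_
  simp only [pbSys, hT, Iso.trans_hom, Iso.app_hom]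
  refine Eq.trans ?_ (congr_pullSect' (hc n) F V m)
  exact congrArg (((Scheme.Modules.pullbackCongr (hc n)).hom.app F).app ((ι ≫ c₁) ⁻¹ᵁ V)) (h3.symm.trans h4)

include hT in
theorem tr_κ (n : ℕ) (m : Γ(F, V)) :
    tr h (pbSys c T F).F (pbSys c T F).toPush n (trOpen c V) (κ h c hc T F V (n + 1) m) = κ h c hc T F V n m := by
  let 𝔐 := pbSys c T F
  show (𝔐.F n).presheaf.map _ ((𝔐.toPush n).app _ ((𝔐.F (n + 1)).presheaf.map _ (OmegaSh.pullSect (c (n + 1)) F V m))) =
    (𝔐.F n).presheaf.map _ (OmegaSh.pullSect (c n) F V m)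
  have e1 := congr($((𝔐.toPush n).mapPresheaf.naturality (homOfLE (lvU_trOpen h c hc (n + 1) V).le).op)
    (OmegaSh.pullSect (c (n + 1)) F V m))
  refine (congrArg _ e1).trans ?_
  refine (congrArg (fun z => (𝔐.F n).presheaf.map (homOfLE (𝔛.lvU_le h n (trOpen c V))).op
    ((((Scheme.Modules.pushforward (𝔛.ι n)).obj (𝔐.F n)).presheaf.map (homOfLE (lvU_trOpen h c hc (n + 1) V).le).op) z))
    (toPush_pullSect c hc T hT F V n m)).trans ?_
  refine (congrArg _ (map_map_eq (𝔐.F n) _ _ _)).trans ?_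
  exact map_map_eq (𝔐.F n) _ _ _

theorem κ_natural (n : ℕ) (f : F ⟶ G) (m : Γ(F, V)) :
    ((Scheme.Modules.pullback (c n)).map f).app _ (κ h c hc T F V n m) = κ h c hc T G V n (f.app V m) := by
  refine (app_map n _ _ _).trans (congrArg (((pbSys c T G).F n).presheaf.map _) ?_)
  have e := congrArg (fun q : F ⟶ (Scheme.Modules.pushforward (c n)).obj ((Scheme.Modules.pullback (c n)).obj G) =>
    q.app V m) ((Scheme.Modules.pullbackPushforwardAdjunction (c n)).unit.naturality f)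
  exact e.symm

variable {F G V} [IsLocallyNoetherian X] (𝓘 : X.IdealSheafData) [∀ n, IsClosedImmersion (c n)]
  (hc𝓘 : ∀ n (V : X.Opens) (hV : IsAffineOpen V), RingHom.ker ((c n).app V).hom = (𝓘.ideal ⟨V, hV⟩) ^ (n + 1))
  (hV : IsAffineOpen V)

include hc𝓘 hV in
theorem κ_isQuot (hF : Coh.IsCoh F) (n : ℕ) : Function.Surjective (κ h c hc T F V n) ∧
    ∀ m, κ h c hc T F V n m = 0 ↔ m ∈ (𝓘.ideal ⟨V, hV⟩) ^ (n + 1) • (⊤ : Submodule Γ(X, V) Γ(F, V)) := by
  haveI : IsClosedImmersion (c n ∣_ V) :=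
    IsZariskiLocalAtTarget.restrict (P := @IsClosedImmersion) inferInstance _
  obtain ⟨hs, hk⟩ := H17.PullSect.isQuotOn_of_isAffineOpen (c n) F hF.1 hV
  have hb := bijective_res_of_le_le ((pbSys c T F).F n) (lvU_trOpen h c hc n V).le (lvU_trOpen h c hc n V).ge
  have hker := hc𝓘 n V hV
  refine ⟨fun y => ?_, fun m => ⟨fun hm => ?_, fun hm => ?_⟩⟩
  · obtain ⟨z, rfl⟩ := hb.2 y
    obtain ⟨m, rfl⟩ := hs z
    exact ⟨m, rfl⟩
  · exact hker ▸ hk m (hb.1 (hm.trans (map_zero _).symm))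
  · refine Submodule.smul_induction_on (p := fun m => κ h c hc T F V n m = 0) hm (fun r hr x _ => ?_)
      fun a b ha hb' => by rw [map_add, ha, hb', add_zero]
    refine (congrArg (((pbSys c T F).F n).presheaf.map _) ?_).trans (map_zero _)
    refine (OmegaSh.pullSect_smul _ _ _ _ _).trans ?_
    rw [← hker, RingHom.mem_ker] at hr
    exact (congrArg (· • _) hr).trans (zero_smul _ _)

include hT hc𝓘 hV in
theorem exists_rep (hF : Coh.IsCoh F) (y : Sec h ((pbSys c T F).realMod h) (trOpen c V)) :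
    ∃ b : AdicCompletion.AdicCauchySequence (𝓘.ideal ⟨V, hV⟩) Γ(F, V),
      ∀ n, κ h c hc T F V n (b (n + 1)) = prS h (pbSys c T F).F (pbSys c T F).toPush n (trOpen c V) y := by
  choose m hm using fun n => (κ_isQuot h c hc T 𝓘 hc𝓘 hV hF n).1
    (prS h (pbSys c T F).F (pbSys c T F).toPush n (trOpen c V) y)
  refine ⟨AdicCompletion.AdicCauchySequence.mk _ _ (fun n => m (n - 1)) fun n => ?_, fun n => hm n⟩
  rcases n with _ | n
  · simp
  · rw [SModEq.sub_mem, ← (κ_isQuot h c hc T 𝓘 hc𝓘 hV hF n).2, map_sub, sub_eq_zero]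
    exact (hm n).trans ((tr_prS h _ _ n _ y).symm.trans ((congrArg _ (hm (n + 1)).symm).trans (tr_κ h c hc T hT F V n _)))

include hT hc𝓘 hV in
theorem exists_section (hF : Coh.IsCoh F) (b : AdicCompletion.AdicCauchySequence (𝓘.ideal ⟨V, hV⟩) Γ(F, V)) :
    ∃ y : Sec h ((pbSys c T F).realMod h) (trOpen c V), ∀ n,
      prS h (pbSys c T F).F (pbSys c T F).toPush n (trOpen c V) y = κ h c hc T F V n (b (n + 1)) :=
  exists_prS h _ _ _ _ fun n => (tr_κ h c hc T hT F V n _).trans (by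
    rw [← sub_eq_zero, ← map_sub, (κ_isQuot h c hc T 𝓘 hc𝓘 hV hF n).2, ← SModEq.sub_mem]
    exact (b.property (Nat.le_succ (n + 1))).symm)

omit [IsLocallyNoetherian X] in
theorem prS_realModMap {A : (𝔛.X 0).Opens} (f : F ⟶ G) (n : ℕ)
    (x : Sec h ((pbSys c T F).realMod h) A) :
    prS h (pbSys c T G).F (pbSys c T G).toPush n A
        (secMap (FSch.ModSys.realModMap h (pbMap c T f)) A x) =
      ((Scheme.Modules.pullback (c n)).map f).app _
        (prS h (pbSys c T F).F (pbSys c T F).toPush n A x) :=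
  congrArg (fun (q : (pbSys c T F).realMod h ⟶ (FSch.levelMor 𝔛 h n).push.obj ((pbSys c T G).F n)) =>
    (q.val.app (op A)).hom x)
    (FSch.realLimMap_realProj 𝔛 h (pbMap c T f).app
      (FSch.ModSys.Hom.toPush_comm (pbMap c T f)) n)

omit [IsLocallyNoetherian X] in
theorem exists_trOpen (U : (𝔛.X 0).Opens) :
    ∃ S ∈ Opens.grothendieckTopology (𝔛.X 0) U, ∀ ⦃W⦄ (g : W ⟶ U), S g →
      ∃ V : X.Opens, IsAffineOpen V ∧ W ≤ trOpen c V ∧ trOpen c V ≤ U := by
  let S : Sieve U :=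
    { arrows := fun W _ => ∃ V : X.Opens, IsAffineOpen V ∧ W ≤ trOpen c V ∧ trOpen c V ≤ U
      downward_closed := fun {W W'} _ hh g => by
        obtain ⟨V, h1, h2, h3⟩ := hh
        exact ⟨V, h1, (leOfHom g).trans h2, h3⟩ }
  refine ⟨S, fun x hx => ?_, fun W g hg => hg⟩
  obtain ⟨O, hO, hOU⟩ := ((c 0).isClosedEmbedding.isInducing.isOpen_iff).1 U.isOpen
  obtain ⟨V, hV, hxV, hle⟩ := exists_isAffineOpen_mem_and_subset (x := (c 0) x) (U := (⟨O, hO⟩ : X.Opens))
    (show x ∈ (c 0) ⁻¹' O by rw [hOU]; exact hx)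
  have hle' : trOpen c V ≤ U := fun z hz => by
    show z ∈ (U : Set _)
    rw [← hOU]
    exact hle hz
  exact ⟨trOpen c V, homOfLE hle', ⟨V, hV, le_rfl, hle'⟩, hxV⟩

include hT hc𝓘 in
set_option maxHeartbeats 1600000 in
/-- Completion of coherent modules is exact. -/
theorem shortExact_complMod {S : ShortComplex X.Modules} (hS : S.ShortExact) (h1 : Coh.IsCoh S.X₁)
    (h2 : Coh.IsCoh S.X₂) (h3 : Coh.IsCoh S.X₃)
    (w : FSch.ModSys.realModMap h (pbMap c T S.f) ≫ FSch.ModSys.realModMap h (pbMap c T S.g) = 0) :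
    (ShortComplex.mk _ _ w).ShortExact := by
  haveI := hS.mono_f
  haveI := hS.epi_g
  haveI := h2.1
  haveI := h3.1
  let a := FSch.ModSys.realModMap h (pbMap c T S.f)
  let b := FSch.ModSys.realModMap h (pbMap c T S.g)
  let f : ∀ V : X.Opens, Γ(S.X₁, V) →ₗ[Γ(X, V)] Γ(S.X₂, V) := fun V =>
    { toFun := S.f.app V, map_add' := map_add _, map_smul' := fun r m => S.f.app_smul r m }
  let g : ∀ V : X.Opens, Γ(S.X₂, V) →ₗ[Γ(X, V)] Γ(S.X₃, V) := fun V =>
    { toFun := S.g.app V, map_add' := map_add _, map_smul' := fun r m => S.g.app_smul r m }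
  have hf : ∀ V, Function.Injective (f V) := fun V => H10Coh.injective_app_of_mono' S.f V
  have hex : ∀ V, Function.Exact (f V) (g V) := fun V m => by
    refine ⟨fun hm => ?_, ?_⟩
    · obtain ⟨y, hy⟩ := exists_kerSec (O := X.sheaf) S.g (W := op V) m hm
      obtain ⟨l, hl⟩ := KernelFork.IsLimit.lift' hS.fIsKernel (kernel.ι S.g) (kernel.condition _)
      exact ⟨l.app V y, (congr($(congrArg (fun k => Scheme.Modules.Hom.app k V) hl) y)).trans hy⟩
    · rintro ⟨y, rfl⟩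
      exact congr($(congrArg (fun k => Scheme.Modules.Hom.app k V) S.zero) y)
  have hg : ∀ V, IsAffineOpen V → Function.Surjective (g V) := fun V hV => H10Coh.surjective_app_of_epi S.g hV
  have hN : ∀ V, IsAffineOpen V → IsNoetherianRing Γ(X, V) := fun V hV => H24GE.isNoetherianRing_sections hV
  haveI hm : Mono a := by
    refine (Preadditive.mono_iff_cancel_zero _).2 fun P φ hφ => hom_ext_sec fun U y => ?_
    let z : Sec h ((pbSys c T S.X₁).realMod h) U := secMap φ U y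
    have hz : secMap a U z = 0 :=
      congrArg (fun (q : P ⟶ (pbSys c T S.X₂).realMod h) => (q.val.app (op U)).hom y) hφ
    show z = 0
    obtain ⟨R, hR, hR'⟩ := exists_trOpen c U
    refine separated_forg _ (X := op U) R hR _ _ fun W q hq => ?_
    obtain ⟨V, hV, hW, hVU⟩ := hR' q hq
    haveI := hN V hV
    haveI := H24GE.finite_sections' h1 hV
    haveI := H24GE.finite_sections' h2 hV
    let zV : Sec h ((pbSys c T S.X₁).realMod h) (trOpen c V) := rs _ (homOfLE hVU).op z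
    have hzV : secMap a (trOpen c V) zV = 0 :=
      (rs_app a.val (homOfLE hVU).op z).trans ((congrArg _ hz).trans (rs_zero _ _))
    obtain ⟨cs, hcs⟩ := exists_rep h c hc T hT 𝓘 hc𝓘 hV h1 zV
    have hmem : ∀ n, f V (cs (n + 1)) ∈ (𝓘.ideal ⟨V, hV⟩) ^ (n + 1) • (⊤ : Submodule Γ(X, V) Γ(S.X₂, V)) := fun n => by
      refine ((κ_isQuot h c hc T 𝓘 hc𝓘 hV h2 n).2 _).1 ?_
      refine (κ_natural h c hc T S.X₁ S.X₂ V n S.f _).symm.trans ((congrArg _ (hcs n)).trans ?_)
      refine (prS_realModMap h c T S.f n zV).symm.trans ?_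
      exact (congrArg _ hzV).trans (map_zero _)
    have h0 : AdicCompletion.map (𝓘.ideal ⟨V, hV⟩) (f V) (AdicCompletion.mk _ _ cs) = 0 := by
      refine AdicCompletion.ext fun n => ?_
      rcases n with _ | n
      · haveI : Subsingleton (Γ(S.X₂, V) ⧸ ((𝓘.ideal ⟨V, hV⟩) ^ 0 • (⊤ : Submodule Γ(X, V) Γ(S.X₂, V)))) :=
          Submodule.Quotient.subsingleton_iff.2 (by simp)
        exact Subsingleton.elim _ _
      · exact (Submodule.Quotient.mk_eq_zero _).2 (hmem n)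
    have hc0 : AdicCompletion.mk _ _ cs = 0 := AdicCompletion.map_injective _ (hf V) (h0.trans (map_zero _).symm)
    have hzero : zV = 0 := prS_ext h _ _ _ _ fun n =>
      ((hcs n).symm.trans (((κ_isQuot h c hc T 𝓘 hc𝓘 hV h1 n).2 _).2 ((Submodule.Quotient.mk_eq_zero _).1
        (congrArg (fun t : AdicCompletion (𝓘.ideal ⟨V, hV⟩) Γ(S.X₁, V) => t.val (n + 1)) hc0)))).trans (map_zero _).symm
    rw [rs_zero, show q.op = (homOfLE hVU).op ≫ (homOfLE hW).op from Subsingleton.elim _ _, ← rs_rs]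
    exact (congrArg _ hzero).trans (rs_zero _ _)
  have hepi : Epi b := by
    rw [epi_iff_locSurj]
    intro U t
    obtain ⟨R, hR, hR'⟩ := exists_trOpen c U
    refine ⟨R, hR, fun W q hq => ?_⟩
    obtain ⟨V, hV, hW, hVU⟩ := hR' q hq
    let tV : Sec h ((pbSys c T S.X₃).realMod h) (trOpen c V) := rs _ (homOfLE hVU).op t
    obtain ⟨d, hd⟩ := exists_rep h c hc T hT 𝓘 hc𝓘 hV h3 tV
    obtain ⟨e, he⟩ := AdicCompletion.map_surjective (𝓘.ideal ⟨V, hV⟩) (hg V hV) (AdicCompletion.mk _ _ d)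
    obtain ⟨cs, rfl⟩ := AdicCompletion.mk_surjective _ _ e
    obtain ⟨y, hy⟩ := exists_section h c hc T hT 𝓘 hc𝓘 hV h2 cs
    refine ⟨rs _ (homOfLE hW).op y, ?_⟩
    rw [show q.op = (homOfLE hVU).op ≫ (homOfLE hW).op from Subsingleton.elim _ _, ← rs_rs]
    refine (rs_app b.val (homOfLE hW).op y).trans (congrArg _ ?_)
    refine prS_ext h _ _ _ _ fun n => ?_
    refine (prS_realModMap h c T S.g n y).trans ((congrArg _ (hy n)).trans ?_)
    refine (κ_natural h c hc T S.X₂ S.X₃ V n S.g _).trans (Eq.trans ?_ (hd n))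
    refine sub_eq_zero.1 ((map_sub _ _ _).symm.trans (((κ_isQuot h c hc T 𝓘 hc𝓘 hV h3 n).2 _).2 ?_))
    exact (Submodule.Quotient.eq _).1
      (congrArg (fun t : AdicCompletion (𝓘.ideal ⟨V, hV⟩) Γ(S.X₃, V) => t.val (n + 1)) he)
  have hexact : (ShortComplex.mk a b w).Exact := by
    rw [ShortComplex.exact_iff_epi_kernel_lift, epi_iff_locSurj]
    intro U t
    let y : Sec h ((pbSys c T S.X₂).realMod h) U := secMap (kernel.ι b) U t
    obtain ⟨R, hR, hR'⟩ := exists_trOpen c U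
    refine ⟨R, hR, fun W q hq => ?_⟩
    obtain ⟨V, hV, hW, hVU⟩ := hR' q hq
    haveI := hN V hV
    haveI := H24GE.finite_sections' h1 hV
    haveI := H24GE.finite_sections' h2 hV
    haveI := H24GE.finite_sections' h3 hV
    let yV : Sec h ((pbSys c T S.X₂).realMod h) (trOpen c V) := rs _ (homOfLE hVU).op y
    have hyV : secMap b (trOpen c V) yV = 0 := by
      refine (rs_app b.val (homOfLE hVU).op y).trans ?_
      refine (congrArg _ (congrArg (fun (q : kernel b ⟶ _) => (q.val.app (op U)).hom t) (kernel.condition b))).trans ?_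
      exact rs_zero _ _
    obtain ⟨d, hd⟩ := exists_rep h c hc T hT 𝓘 hc𝓘 hV h2 yV
    have h0 : AdicCompletion.map (𝓘.ideal ⟨V, hV⟩) (g V) (AdicCompletion.mk _ _ d) = 0 := by
      refine AdicCompletion.ext fun n => ?_
      rcases n with _ | n
      · haveI : Subsingleton (Γ(S.X₃, V) ⧸ ((𝓘.ideal ⟨V, hV⟩) ^ 0 • (⊤ : Submodule Γ(X, V) Γ(S.X₃, V)))) :=
          Submodule.Quotient.subsingleton_iff.2 (by simp)
        exact Subsingleton.elim _ _
      · refine (Submodule.Quotient.mk_eq_zero _).2 ((κ_isQuot h c hc T 𝓘 hc𝓘 hV h3 n).2 _ |>.1 ?_)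
        refine (κ_natural h c hc T S.X₂ S.X₃ V n S.g _).symm.trans ((congrArg _ (hd n)).trans ?_)
        refine (prS_realModMap h c T S.g n yV).symm.trans ?_
        exact (congrArg _ hyV).trans (map_zero _)
    obtain ⟨e, he⟩ := ((AdicCompletion.map_exact (hf V) (hex V) (hg V hV)) _).1 h0
    obtain ⟨cs, rfl⟩ := AdicCompletion.mk_surjective _ _ e
    obtain ⟨x, hx⟩ := exists_section h c hc T hT 𝓘 hc𝓘 hV h1 cs
    refine ⟨rs _ (homOfLE hW).op x, ?_⟩
    apply injective_app (kernel.ι b)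
    refine Eq.trans ?_ (rs_app (kernel.ι b).val q.op t).symm
    refine (congrArg (fun (k : (pbSys c T S.X₁).realMod h ⟶ (pbSys c T S.X₂).realMod h) =>
      (k.val.app (op W)).hom (rs _ (homOfLE hW).op x)) (kernel.lift_ι b a w)).trans ?_
    rw [show q.op = (homOfLE hVU).op ≫ (homOfLE hW).op from Subsingleton.elim _ _]
    refine Eq.trans ?_ (rs_rs ((forg (𝔛.Osh h)).obj ((pbSys c T S.X₂).realMod h)) (homOfLE hVU).op (homOfLE hW).op y)
    refine (rs_app a.val (homOfLE hW).op x).trans (congrArg _ ?_)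
    refine prS_ext h _ _ _ _ fun n => ?_
    refine (prS_realModMap h c T S.f n x).trans ((congrArg _ (hx n)).trans ?_)
    refine (κ_natural h c hc T S.X₁ S.X₂ V n S.f _).trans (Eq.trans ?_ (hd n))
    refine sub_eq_zero.1 ((map_sub _ _ _).symm.trans (((κ_isQuot h c hc T 𝓘 hc𝓘 hV h2 n).2 _).2 ?_))
    exact (Submodule.Quotient.eq _).1
      (congrArg (fun t : AdicCompletion (𝓘.ideal ⟨V, hV⟩) Γ(S.X₂, V) => t.val (n + 1)) he)
  exact { exact := hexact, mono_f := hm, epi_g := hepi }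

end Groth.Agent.H24FMod
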