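import Groth.Agent.H24FMod.FlatRes
import Groth.Agent.H24FMod.ComplSec
import Groth.Agent.H15Site.PullFlatness

/-!
# The morphism from a completion to the scheme is flat
-/

set_option autoImplicit false
set_option linter.style.haveILetI false
set_option linter.unusedSectionVars false
universe u

open CategoryTheory CategoryTheory.Limits AlgebraicGeometry TopologicalSpace Opposite TensorProduct

namespace Groth.Agent.H24FMod

open H15Site.ModTensor H15Site.ModRel

variable {X : Scheme.{u}} [IsLocallyNoetherian X] {𝔛 : FSch.Sys.{u}} (hL : 𝔛.IsLocNoethFormal)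
  (p : ∀ n, 𝔛.X n ⟶ X) (hp : ∀ n, 𝔛.ι n ≫ p (n + 1) = p n) [∀ n, IsClosedImmersion (p n)]
  (𝓘 : X.IdealSheafData)
  (hp𝓘 : ∀ n (V : X.Opens) (hV : IsAffineOpen V), RingHom.ker ((p n).app V).hom = (𝓘.ideal ⟨V, hV⟩) ^ (n + 1))
  {W : X.Opens}

/-- The map on sections to the formal scheme. -/
noncomputable abbrev shp (W : X.Opens) : Γ(X, W) →+* OSec hL.1 (trOpen p W) :=
  ((FSch.schSharp 𝔛 hL.1 p hp).hom.app (op W)).hom

theorem oP_shp (n : ℕ) (r : Γ(X, W)) :
    oP hL.1 n (trOpen p W) (shp hL p hp W r) =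
      (𝔛.X n).presheaf.map (homOfLE (lvU_trOpen hL.1 p hp n W).le).op ((p n).app W r) :=
  ((congrArg (fun (q : X.sheaf ⟶ _) => (q.hom.app (op W)).hom r) (FSch.schSharp_proj 𝔛 hL.1 p hp n)).trans
    (congr($(FSch.schLevel_app 𝔛 hL.1 p hp n (op W)) r))).trans rfl

include hp in
theorem surjective_oP_shp (hW : IsAffineOpen W) (n : ℕ) (y : Γ(𝔛.X n, 𝔛.lvU hL.1 n (trOpen p W))) :
    ∃ r, oP hL.1 n (trOpen p W) (shp hL p hp W r) = y := by
  obtain ⟨z, rfl⟩ := (bijective_res_ring (X := 𝔛.X n) (lvU_trOpen hL.1 p hp n W).le (lvU_trOpen hL.1 p hp n W).ge).2 y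
  obtain ⟨r, rfl⟩ := (p n).app_surjective W hW z
  exact ⟨r, oP_shp hL p hp n r⟩

include hp hp𝓘 in
theorem oP_shp_eq_zero (hW : IsAffineOpen W) (n : ℕ) (r : Γ(X, W)) :
    oP hL.1 n (trOpen p W) (shp hL p hp W r) = 0 ↔ r ∈ (𝓘.ideal ⟨W, hW⟩) ^ (n + 1) := by
  rw [oP_shp, ← hp𝓘 n W hW, RingHom.mem_ker]
  exact ⟨fun h => (bijective_res_ring (X := 𝔛.X n) (lvU_trOpen hL.1 p hp n W).le (lvU_trOpen hL.1 p hp n W).ge).1
    (h.trans (map_zero _).symm), fun h => (congrArg _ h).trans (map_zero _)⟩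

include hp hp𝓘 in
/-- Sections over an affine open map flatly to their completion. -/
theorem flat_shp (hW : IsAffineOpen W) : (shp hL p hp W).Flat := by
  have hA : IsAffineOpen (trOpen p W) := hW.preimage (p 0)
  obtain ⟨J, hN, hc, hJ⟩ := exists_adic hL hA
  haveI := hN
  haveI := hc
  haveI := H24GE.isNoetherianRing_sections (X := X) hW
  let I := 𝓘.ideal ⟨W, hW⟩
  have hker : ∀ n (r : Γ(X, W)), shp hL p hp W r ∈ J ^ (n + 1) ↔ r ∈ I ^ (n + 1) := fun n r => by
    rw [← hJ, RingHom.mem_ker, oP_shp_eq_zero hL p hp 𝓘 hp𝓘 hW]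
  have hmap : I.map (shp hL p hp W) = J := by
    refine le_antisymm (Ideal.map_le_iff_le_comap.2 fun r hr => ?_) ?_
    · rw [Ideal.mem_comap]
      have := (hker 0 r).2 (by rwa [zero_add, pow_one])
      rwa [zero_add, pow_one] at this
    · refine Submodule.le_of_le_smul_of_le_jacobson_bot (IsNoetherian.noetherian _)
        (IsAdicComplete.le_jacobson_bot J) fun z hz => ?_
      obtain ⟨r, hr⟩ := surjective_oP_shp hL p hp hW 1 (oP hL.1 1 (trOpen p W) z)
      have h1 : shp hL p hp W r - z ∈ J ^ (1 + 1) := by rw [← hJ, RingHom.mem_ker, map_sub, hr, sub_self]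
      have h2 : shp hL p hp W r ∈ J := by
        have h3 : J ^ (1 + 1) ≤ J := Ideal.pow_le_self (by norm_num)
        simpa using add_mem (h3 h1) hz
      refine Submodule.mem_sup.2 ⟨shp hL p hp W r, Ideal.mem_map_of_mem _ ?_, z - shp hL p hp W r, ?_, add_sub_cancel _ _⟩
      · have := (hker 0 r).1 (by rwa [zero_add, pow_one])
        rwa [zero_add, pow_one] at this
      · rw [smul_eq_mul, ← pow_two, ← neg_sub]
        exact neg_mem h1
  letI : Algebra Γ(X, W) (OSec hL.1 (trOpen p W)) := (shp hL p hp W).toAlgebra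
  change Module.Flat Γ(X, W) (OSec hL.1 (trOpen p W))
  refine H24Flat.flat_of_flat_quotient_pow (S := OSec hL.1 (trOpen p W)) I
    (le_trans (le_of_eq hmap) (IsAdicComplete.le_jacobson_bot _)) fun n => ?_
  cases n with
  | zero =>
    haveI : Subsingleton (Γ(X, W) ⧸ I ^ 0) := Ideal.Quotient.subsingleton_iff.2 (by simp)
    infer_instance
  | succ n =>
    let B := Γ(X, W) ⧸ I ^ (n + 1)
    let f : Γ(X, W) →+* Γ(𝔛.X n, 𝔛.lvU hL.1 n (trOpen p W)) := (oP hL.1 n (trOpen p W)).comp (shp hL p hp W)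
    have hf : RingHom.ker f = I ^ (n + 1) := Ideal.ext fun r => oP_shp_eq_zero hL p hp 𝓘 hp𝓘 hW n r
    let e : B ≃+* Γ(𝔛.X n, 𝔛.lvU hL.1 n (trOpen p W)) :=
      (Ideal.quotEquivOfEq hf.symm).trans (RingHom.quotientKerEquivOfSurjective
        (show Function.Surjective f from surjective_oP_shp hL p hp hW n))
    let Sn := Γ(𝔛.X n, 𝔛.lvU hL.1 n (trOpen p W))
    letI : Algebra B Sn := e.toRingHom.toAlgebra
    haveI : Module.Flat B Sn := RingHom.Flat.of_bijective e.bijective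
    letI : Algebra Γ(X, W) Sn := f.toAlgebra
    haveI : IsScalarTower Γ(X, W) B Sn := IsScalarTower.of_algebraMap_eq fun r => rfl
    let ψ : OSec hL.1 (trOpen p W) →ₗ[Γ(X, W)] Sn :=
      { toFun := oP hL.1 n (trOpen p W)
        map_add' := map_add _
        map_smul' := fun r x => by
          show oP hL.1 n _ (shp hL p hp W r * x) = oP hL.1 n _ (shp hL p hp W r) * oP hL.1 n _ x
          rw [map_mul] }
    let Φ : B ⊗[Γ(X, W)] OSec hL.1 (trOpen p W) →ₗ[B] Sn := LinearMap.liftBaseChange B ψ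
    have hsurj : Function.Surjective (TensorProduct.mk Γ(X, W) B (OSec hL.1 (trOpen p W)) 1) :=
      TensorProduct.mk_surjective _ _ _ Ideal.Quotient.mk_surjective
    have hΦ : ∀ x, Φ (1 ⊗ₜ x) = oP hL.1 n (trOpen p W) x := fun x => by simp [Φ, ψ]
    have hbij : Function.Bijective Φ := by
      refine ⟨(injective_iff_map_eq_zero _).2 fun t ht => ?_, fun y => ?_⟩
      · obtain ⟨x, rfl⟩ := hsurj t
        rw [TensorProduct.mk_apply, hΦ] at ht
        have hx : x ∈ (I ^ (n + 1)).map (algebraMap Γ(X, W) (OSec hL.1 (trOpen p W))) := by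
          rw [Ideal.map_pow]
          rw [← RingHom.mem_ker, hJ, ← hmap] at ht
          exact ht
        rw [← Submodule.restrictScalars_mem Γ(X, W), ← Ideal.smul_top_eq_map] at hx
        refine Submodule.smul_induction_on (p := fun w => TensorProduct.mk Γ(X, W) B (OSec hL.1 (trOpen p W)) 1 w = 0) hx
          (fun r hr w _ => ?_) fun w w' h h' => by rw [map_add, h, h', add_zero]
        rw [map_smul, TensorProduct.mk_apply, TensorProduct.smul_tmul', Algebra.smul_def, mul_one]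
        show (Ideal.Quotient.mk (I ^ (n + 1)) r) ⊗ₜ[Γ(X, W)] w = 0
        rw [Ideal.Quotient.eq_zero_iff_mem.2 hr, TensorProduct.zero_tmul]
      · obtain ⟨r, hr⟩ := surjective_oP_shp hL p hp hW n y
        exact ⟨1 ⊗ₜ shp hL p hp W r, (hΦ _).trans hr⟩
    exact Module.Flat.of_linearEquiv (LinearEquiv.ofBijective Φ hbij)

section Main

open H15Site.PullTensor

include hp hp𝓘 in
/-- The morphism from the completion to the scheme is flat. -/
theorem isFlat_toSchemeMor : (FSch.toSchemeMor 𝔛 hL.1 p hp).IsFlat := by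
  classical
  refine isFlat_of_refTriv fun U V b m α z hz => ?_
  let T : Sieve U :=
    { arrows := fun U' _ => ∃ W : X.Opens, IsAffineOpen W ∧ W ≤ V ∧ trOpen p W ≤ U ∧ U' ≤ trOpen p W
      downward_closed := fun {U' U''} _ hh g => by
        obtain ⟨W, h1, h2, h3, h4⟩ := hh
        exact ⟨W, h1, h2, h3, (leOfHom g).trans h4⟩ }
  refine ⟨T, fun x hx => ?_, fun U' v hv => ?_⟩
  · obtain ⟨O, hO, hOU⟩ := ((p 0).isClosedEmbedding.isInducing.isOpen_iff).1 U.isOpen
    obtain ⟨W, hW, hxW, hle⟩ := exists_isAffineOpen_mem_and_subset (x := (p 0) x) (U := (⟨O, hO⟩ : X.Opens) ⊓ V)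
      ⟨show x ∈ (p 0) ⁻¹' O by rw [hOU]; exact hx, leOfHom b hx⟩
    have hle' : trOpen p W ≤ U := fun z hz => by
      show z ∈ (U : Set _)
      rw [← hOU]
      exact (hle hz).1
    exact ⟨trOpen p W, homOfLE hle', ⟨W, hW, hle.trans inf_le_right, hle', le_rfl⟩, hxW⟩
  · obtain ⟨W, hW, hWV, hWU, hU'⟩ := hv
    letI : Algebra Γ(X, W) (OSec hL.1 (trOpen p W)) := (shp hL p hp W).toAlgebra
    haveI : Module.Flat Γ(X, W) (OSec hL.1 (trOpen p W)) := flat_shp hL p hp 𝓘 hp𝓘 hW
    let αW : Fin m → Γ(X, W) := fun j => rr X.sheaf (homOfLE hWV).op (α j)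
    let zW : Fin m → OSec hL.1 (trOpen p W) := fun j => rr (𝔛.Osh hL.1) (homOfLE hWU).op (z j)
    have hrel : ∑ j, αW j • zW j = 0 := by
      have h := congrArg (rr (𝔛.Osh hL.1) (homOfLE hWU).op) hz
      refine Eq.trans ?_ (h.trans (map_zero _))
      refine Eq.trans ?_ (map_sum ((𝔛.Osh hL.1).obj.map (homOfLE hWU).op).hom _ _).symm
      refine Finset.sum_congr rfl fun j _ => ?_
      refine Eq.trans ?_ (map_mul ((𝔛.Osh hL.1).obj.map (homOfLE hWU).op).hom _ _).symm
      refine congrArg (· * zW j) ?_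
      refine (congr($((FSch.schSharp 𝔛 hL.1 p hp).hom.naturality (homOfLE hWV).op) (α j))).trans ?_
      refine Eq.trans ?_ (rr_rr (O := 𝔛.Osh hL.1) b.op (homOfLE hWU).op _).symm
      exact congrArg (fun q => rr (𝔛.Osh hL.1) q _) (Subsingleton.elim _ _)
    obtain ⟨k, a, y, hzy, ha⟩ := Module.Flat.isTrivialRelation_of_sum_smul_eq_zero (f := αW) (x := zW) hrel
    refine ⟨W, homOfLE hWV, homOfLE hU', Subsingleton.elim _ _, k,
      fun l => rr (𝔛.Osh hL.1) (homOfLE hU').op (y l), a, fun j => ?_, fun _ l => ?_⟩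
    · refine Eq.trans ?_ ((congrArg (rr (𝔛.Osh hL.1) (homOfLE hU').op) (hzy j)).trans
        ((map_sum ((𝔛.Osh hL.1).obj.map (homOfLE hU').op).hom _ _).trans (Finset.sum_congr rfl fun l _ => ?_)))
      · refine Eq.trans ?_ (rr_rr (O := 𝔛.Osh hL.1) (homOfLE hWU).op (homOfLE hU').op (z j)).symm
        exact congrArg (fun q => rr (𝔛.Osh hL.1) q (z j)) (Subsingleton.elim _ _)
      · exact map_mul ((𝔛.Osh hL.1).obj.map (homOfLE hU').op).hom _ _
    · refine Eq.trans (Finset.sum_congr rfl fun j _ => ?_) (ha l)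
      exact mul_comm _ _

end Main

end Groth.Agent.H24FMod
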