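import Groth.Agent.H24FMod.GrTower
import Groth.Agent.H24FMod.LimH
import Groth.Agent.H24FMod.MLOne
import Mathlib.Algebra.Category.ModuleCat.Sheaf.Limits

/-!
# Cohomology of the limit of a tower of sheaves of modules

For a tower with acyclic terms and surjective transition maps on a covering family, whose cohomology has stationary
images, the cohomology of the limit is the limit of the cohomology.
-/

set_option autoImplicit false
set_option linter.style.haveILetI false
set_option linter.unusedSectionVars false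

universe u

open CategoryTheory CategoryTheory.Limits Opposite CategoryTheory.Abelian

namespace Groth.Agent.H24FMod.GrLimit

variable {C : Type u} [SmallCategory C] {Jt : GrothendieckTopology C}

theorem acyc_X₂ {B : Set C} {S : ShortComplex (Sheaf Jt AddCommGrpCat.{u})} (hS : S.ShortExact)
    (h₁ : LimH.Acyc B S.X₁) (h₃ : LimH.Acyc B S.X₃) : LimH.Acyc B S.X₂ := by
  intro U hU p
  haveI := H15Site.SiteInst.hasSheafifySite Jt
  haveI := H15Site.SiteInst.hasExtSite Jt
  haveI := h₁ U hU p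
  haveI := h₃ U hU p
  have h0 : ∀ x : Ext (CohCx.freeSheaf Jt U) S.X₂ (p + 1), x = 0 := fun x => by
    obtain ⟨y, hy⟩ := Ext.covariant_sequence_exact₂ (CohCx.freeSheaf Jt U) hS x
      (Subsingleton.elim (α := CohSite.HU S.X₃ (p + 1) U) _ _)
    have hy0 : y = (0 : Ext (CohCx.freeSheaf Jt U) S.X₁ (p + 1)) := Subsingleton.elim (α := CohSite.HU S.X₁ (p + 1) U) _ _
    rw [← hy, hy0, Ext.zero_comp]
  exact ⟨fun x y => (h0 x).trans (h0 y).symm⟩

theorem acyc_of_iso {B : Set C} {F G : Sheaf Jt AddCommGrpCat.{u}} (e : F ≅ G) (h : LimH.Acyc B F) :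
    LimH.Acyc B G := by
  intro U hU p
  haveI := H15Site.SiteInst.hasSheafifySite Jt
  haveI := H15Site.SiteInst.hasExtSite Jt
  haveI := h U hU p
  have h0 : ∀ x : Ext (CohCx.freeSheaf Jt U) G (p + 1), x = 0 := fun x => by
    have h1 : x.comp (Ext.mk₀ e.inv) (add_zero _) = 0 := Subsingleton.elim (α := CohSite.HU F (p + 1) U) _ _
    have h2 := congrArg (fun y => Ext.comp y (Ext.mk₀ e.hom) (add_zero _)) h1
    simpa using h2
  exact ⟨fun x y => (h0 x).trans (h0 y).symm⟩

variable {O : Sheaf Jt CommRingCat.{u}} [HasSheafify Jt AddCommGrpCat.{u}]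
  [HasExt.{u} (Sheaf Jt AddCommGrpCat.{u})]

theorem preservesLimit_seq (G : ℕᵒᵖ ⥤ ModSite.Mod O) :
    PreservesLimit G (SheafOfModules.toSheaf.{u} (ModSite.ringSh O)) := by
  haveI : PreservesLimitsOfSize.{u, u} (SheafOfModules.toSheaf.{u} (ModSite.ringSh O) ⋙ sheafToPresheaf Jt AddCommGrpCat.{u}) :=
    inferInstanceAs (PreservesLimitsOfSize.{u, u}
      (SheafOfModules.forget.{u} (ModSite.ringSh O) ⋙ PresheafOfModules.toPresheaf _))
  haveI : PreservesLimitsOfSize.{u, u} (SheafOfModules.toSheaf.{u} (ModSite.ringSh O)) :=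
    preservesLimits_of_reflects_of_preserves _ (sheafToPresheaf Jt AddCommGrpCat.{u})
  haveI : PreservesLimitsOfSize.{0, 0} (SheafOfModules.toSheaf.{u} (ModSite.ringSh O)) :=
    preservesSmallestLimits_of_preservesLimits _
  infer_instance

variable {X : ℕ → ModSite.Mod O} (t : ∀ k, X (k + 1) ⟶ X k) {pt : ModSite.Mod O}
  (e : pt ≅ limit (Functor.ofOpSequence t)) (u : ∀ k, pt ⟶ X k)
  (he : ∀ k, e.hom ≫ limit.π (Functor.ofOpSequence t) (op k) = u k)
  {B : Set C} (hB : LimH.IsCovering Jt B)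
  (hacyc : ∀ k, LimH.Acyc B ((SheafOfModules.toSheaf.{u} (ModSite.ringSh O)).obj (X k)))
  (hsurj : ∀ U ∈ B, ∀ k, Function.Surjective
    (((SheafOfModules.toSheaf.{u} (ModSite.ringSh O)).map (t k)).hom.app (op U)).hom)

set_option quotPrecheck false in
local notation "H[" F ", " p "]" => Sheaf.H ((SheafOfModules.toSheaf (ModSite.ringSh _)).obj F) p

include e he hB hacyc hsurj in
theorem bijective (p : ℕ) (hML : ∀ q, ∃ c, GrML.Stable (GrTower.sys X t q) c) :
    (∀ x : H[pt, p], (∀ k, GrTower.hm (u k) p x = 0) → x = 0) ∧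
      (∀ y : ∀ k, H[(X k), p], (∀ k, GrTower.hm (t k) p (y (k + 1)) = y k) →
        ∃ x : H[pt, p], ∀ k, GrTower.hm (u k) p x = y k) := by
  haveI := preservesLimit_seq (Functor.ofOpSequence t)
  let S := SheafOfModules.toSheaf.{u} (ModSite.ringSh O)
  let F := Functor.ofOpSequence t ⋙ S
  let i : S.obj pt ≅ limit F := S.mapIso e ≪≫ preservesLimitIso S _
  have hi : ∀ k, i.hom ≫ limit.π F (op k) = S.map (u k) := fun k => by
    refine (Category.assoc _ _ _).trans ?_
    refine (congrArg (S.map e.hom ≫ ·) (preservesLimitIso_hom_π S (Functor.ofOpSequence t) (op k))).trans ?_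
    exact (S.map_comp _ _).symm.trans (congrArg S.map (he k))
  have htr : ∀ k, LimH.trans F k = S.map (t k) := fun k => congrArg S.map (Functor.ofOpSequence_map_homOfLE_succ t k)
  have hs : ∀ U ∈ B, ∀ k, Function.Surjective ((LimH.trans F k).hom.app (op U)).hom := fun U hU k => by
    rw [htr]; exact hsurj U hU k
  let Q := (constantSheaf Jt AddCommGrpCat.{u}).obj (AddCommGrpCat.of (ULift.{u} ℤ))
  have hcomp : ∀ (x : H[pt, p]) (k : ℕ),
      (Ext.comp x (Ext.mk₀ i.hom) (add_zero p)).comp (Ext.mk₀ (limit.π F (op k))) (add_zero p) = GrTower.hm (u k) p x :=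
    fun x k => by
      rw [Ext.comp_assoc_of_second_deg_zero, Ext.mk₀_comp_mk₀, hi k]
      rfl
  refine ⟨fun x hx => ?_, fun y hy => ?_⟩
  · have h0 : Ext.comp x (Ext.mk₀ i.hom) (add_zero p) = 0 := by
      cases p with
      | zero => exact LimH.eq_zero_zero F hB hacyc hs Q _ fun k => (hcomp x k).trans (hx k)
      | succ q =>
        refine LimH.eq_zero_of_limOne F hB hacyc hs Q q (fun z => ?_) _ fun k => (hcomp x k).trans (hx k)
        obtain ⟨c, hc⟩ := hML q
        obtain ⟨w, hw⟩ := MLOne.exists_limOne_of_isMittagLeffler (GrTower.sys X t q) (GrML.isMittagLeffler_of_stable hc) z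
        refine ⟨w, fun n => Eq.trans ?_ (hw n)⟩
        refine congrArg (fun v => w n - v) (Eq.trans ?_ (GrTower.trHom_sys X t q n (w (n + 1))).symm)
        exact congrArg (fun f => Ext.comp (w (n + 1)) (Ext.mk₀ f) (add_zero q)) (htr n)
    have h2 := congrArg (fun z => Ext.comp z (Ext.mk₀ i.inv) (add_zero p)) h0
    simpa using h2
  · obtain ⟨η, hη⟩ := LimH.exists_lift F hB hacyc hs Q p y fun k => by
      rw [htr]
      exact hy k
    refine ⟨η.comp (Ext.mk₀ i.inv) (add_zero p), fun k => ?_⟩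
    refine (hcomp _ k).symm.trans ?_
    rw [Ext.comp_assoc_of_second_deg_zero η, Ext.mk₀_comp_mk₀, Iso.inv_hom_id, Ext.comp_mk₀_id]
    exact hη k

end Groth.Agent.H24FMod.GrLimit
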