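import Groth.Agent.H24FMod.Coh
import Groth.Agent.H24FMod.ComplSec
import Groth.Agent.H24FMod.CohFP

/-!
# Recognition of the module of a system by its inverse images; completion as inverse image
-/

set_option autoImplicit false
set_option linter.style.haveILetI false
set_option linter.unusedSectionVars false
universe u

open CategoryTheory CategoryTheory.Limits AlgebraicGeometry TopologicalSpace Opposite

namespace Groth.Agent.H24FMod

open H15Site.ModTensor H15Site.ModRel H15Site.LocGen H15Site.LocPres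

section Recognition

variable {𝔛 : FSch.Sys.{u}} (hL : 𝔛.IsLocNoethFormal) {𝔉 : FSch.ModF 𝔛 hL.1}
  (h𝔉 : FSch.IsCohF 𝔛 hL.1 𝔉) {𝔐 : FSch.ModSys 𝔛}
  (q : ∀ k, 𝔉 ⟶ (FSch.levelMor 𝔛 hL.1 k).push.obj (𝔐.F k))
  (hq : ∀ k, q (k + 1) ≫ ((FSch.levelMor 𝔛 hL.1 (k + 1)).push.map (𝔐.toPush k) ≫
    (FSch.pushCompare 𝔛 hL.1 k).app (𝔐.F k)) = q k)
  (hiso : ∀ k, IsIso (((FSch.levelMor 𝔛 hL.1 k).adj.homEquiv _ _).symm (q k)))

include h𝔉 hq hiso in
/-- A coherent module with compatible maps to a system inducing isomorphisms on all levels is the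
module of the system. -/
theorem exists_iso_of_levels :
    ∃ e : 𝔉 ≅ 𝔐.realMod hL.1, ∀ k, e.hom ≫ FSch.realProj 𝔛 hL.1 𝔐.F 𝔐.toPush k = q k := by
  let c : ∀ k, (pullSys hL 𝔉).F k ⟶ 𝔐.F k := fun k => ((FSch.levelMor 𝔛 hL.1 k).adj.homEquiv _ _).symm (q k)
  haveI : ∀ k, IsIso (c k) := hiso
  have hc : ∀ k, (FSch.levelMor 𝔛 hL.1 k).adj.unit.app 𝔉 ≫ (FSch.levelMor 𝔛 hL.1 k).push.map (c k) = q k := fun k =>
    ((FSch.levelMor 𝔛 hL.1 k).adj.homEquiv_unit _ _ _).symm.trans (Equiv.apply_symm_apply _ _)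
  have hcomm : ∀ k, (pullSys hL 𝔉).toPush k ≫ (Scheme.Modules.pushforward (𝔛.ι k)).map (c k) = c (k + 1) ≫ 𝔐.toPush k := by
    intro k
    let U₁ := (FSch.levelMor 𝔛 hL.1 (k + 1)).push
    let U₀ := (FSch.levelMor 𝔛 hL.1 k).push
    let cmp := FSch.pushCompare 𝔛 hL.1 k
    haveI : IsIso (cmp.app (𝔐.F k)) :=
      ⟨(FSch.pushCompareInv 𝔛 hL.1 k).app (𝔐.F k), FSch.pushCompare_pushCompareInv 𝔛 hL.1 k _,
        FSch.pushCompareInv_pushCompare 𝔛 hL.1 k _⟩
    refine ((FSch.levelMor 𝔛 hL.1 (k + 1)).adj.homEquiv _ _).injective ((cancel_mono (cmp.app (𝔐.F k))).1 ?_)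
    rw [Adjunction.homEquiv_unit, Adjunction.homEquiv_unit]
    refine Eq.trans (b := q k) ?_ ?_
    · refine Eq.trans ?_ (hc k)
      refine Eq.trans ?_ (congrArg (· ≫ U₀.map (c k)) (unit_step hL 𝔉 k))
      refine (Category.assoc _ _ _).trans (Eq.trans ?_ (Category.assoc _ _ _).symm)
      refine congrArg ((FSch.levelMor 𝔛 hL.1 (k + 1)).adj.unit.app 𝔉 ≫ ·) ?_
      refine (congrArg (· ≫ cmp.app (𝔐.F k)) (U₁.map_comp ((pullSys hL 𝔉).toPush k) _)).trans ?_
      exact (Category.assoc _ _ _).trans ((congrArg (U₁.map ((pullSys hL 𝔉).toPush k) ≫ ·) (cmp.naturality (c k))).trans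
        (Category.assoc _ _ _).symm)
    · refine (hq k).symm.trans ?_
      refine (congrArg (· ≫ _) (hc (k + 1)).symm).trans ?_
      refine (Category.assoc _ _ _).trans (Eq.trans ?_ (Category.assoc _ _ _).symm)
      refine congrArg ((FSch.levelMor 𝔛 hL.1 (k + 1)).adj.unit.app 𝔉 ≫ ·) ?_
      refine (Category.assoc _ _ _).symm.trans ?_
      exact congrArg (· ≫ cmp.app (𝔐.F k)) (U₁.map_comp (c (k + 1)) (𝔐.toPush k)).symm
  let m := FSch.levelSysMap 𝔛 hL.1 c hcomm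
  haveI : ∀ j, IsIso (m.app j) := fun j => by
    show IsIso ((FSch.levelMor 𝔛 hL.1 j.unop).push.map (c j.unop))
    exact ((FSch.levelMor 𝔛 hL.1 j.unop).push.mapIso (@asIso _ _ _ _ (c j.unop) (hiso j.unop))).isIso_hom
  haveI : IsIso m := NatIso.isIso_of_isIso_app m
  let L := FSch.realLimMap 𝔛 hL.1 c hcomm
  have hLi : IsIso L := by
    show IsIso (limMap m)
    exact (HasLimit.isoOfNatIso (asIso m)).isIso_hom
  haveI := isIso_toReal hL h𝔉
  refine ⟨asIso (toReal hL 𝔉) ≪≫ @asIso _ _ _ _ L hLi, fun k => ?_⟩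
  refine (Category.assoc _ _ _).trans ?_
  refine (congrArg (toReal hL 𝔉 ≫ ·) (FSch.realLimMap_realProj 𝔛 hL.1 c hcomm k)).trans ?_
  refine (Category.assoc _ _ _).symm.trans ?_
  exact (congrArg (· ≫ _) (toReal_proj hL 𝔉 k)).trans (hc k)

end Recognition

section ToScheme

variable {𝔛 : FSch.Sys.{u}} (hL : 𝔛.IsLocNoethFormal) {Y : Scheme.{u}} (p : ∀ n, 𝔛.X n ⟶ Y)
  (hp : ∀ n, 𝔛.ι n ≫ p (n + 1) = p n)
  (T : ∀ n, Scheme.Modules.pullback (p (n + 1)) ⋙ Scheme.Modules.pullback (𝔛.ι n) ≅ Scheme.Modules.pullback (p n))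
  (hT : ∀ n, T n = Scheme.Modules.pullbackComp (𝔛.ι n) (p (n + 1)) ≪≫ Scheme.Modules.pullbackCongr (hp n))

theorem isIso_schPushCompare (k : ℕ) (G : (𝔛.X k).Modules) :
    IsIso ((FSch.schPushCompare 𝔛 hL.1 p hp k).app G) := by
  let φ := (FSch.schPushCompare 𝔛 hL.1 p hp k).app G
  have hb : ∀ V : Y.Opens, Function.Bijective ((φ.val.app (op V)).hom) := fun V =>
    bijective_res_of_le_le G (lvU_trOpen hL.1 p hp k V).le (lvU_trOpen hL.1 p hp k V).ge
  haveI : Epi φ := (epi_iff_locSurj (O := Y.sheaf) φ).2 fun V t =>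
    ⟨⊤, (Opens.grothendieckTopology Y).top_mem V, fun W g _ => (hb W).2 _⟩
  haveI : Mono φ := by
    refine (Preadditive.mono_iff_cancel_zero _).2 fun P a ha => ?_
    refine SheafOfModules.Hom.ext (PresheafOfModules.hom_ext fun U => ModuleCat.hom_ext (LinearMap.ext fun x => ?_))
    exact (hb U.unop).1 ((congr($(congrArg (fun z => Scheme.Modules.Hom.app z U.unop) ha) x)).trans (map_zero _).symm)
  exact isIso_of_mono_of_epi φ

variable (F : Y.Modules)

/-- The level maps of a module on the scheme, pushed to the formal scheme. -/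
noncomputable def schUnit (k : ℕ) :
    F ⟶ (FSch.toSchemeMor 𝔛 hL.1 p hp).push.obj ((FSch.levelMor 𝔛 hL.1 k).push.obj ((pbSys p T F).F k)) :=
  (Scheme.Modules.pullbackPushforwardAdjunction (p k)).unit.app F ≫
    (FSch.schPushCompare 𝔛 hL.1 p hp k).app ((pbSys p T F).F k)

include hT in
theorem schUnit_step (k : ℕ) :
    schUnit hL p hp T F (k + 1) ≫ (FSch.toSchemeMor 𝔛 hL.1 p hp).push.map
      ((FSch.levelMor 𝔛 hL.1 (k + 1)).push.map ((pbSys p T F).toPush k) ≫
        (FSch.pushCompare 𝔛 hL.1 k).app ((pbSys p T F).F k)) = schUnit hL p hp T F k :=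
  SheafOfModules.Hom.ext (PresheafOfModules.hom_ext fun U => ModuleCat.hom_ext (LinearMap.ext fun x =>
    tr_κ hL.1 p hp T hT F U.unop k x))

include hT in
/-- The inverse image of a coherent module on the scheme to the formal scheme is the module of the
system of inverse images. -/
theorem exists_pull_iso [IsLocallyNoetherian Y] (hF : Coh.IsCoh F) :
    ∃ e : (FSch.toSchemeMor 𝔛 hL.1 p hp).pull.obj F ≅ (pbSys p T F).realMod hL.1,
      ∀ k, ((FSch.toSchemeMor 𝔛 hL.1 p hp).adj.homEquiv _ _ e.hom) ≫ (FSch.toSchemeMor 𝔛 hL.1 p hp).push.map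
        (FSch.realProj 𝔛 hL.1 (pbSys p T F).F (pbSys p T F).toPush k) = schUnit hL p hp T F k := by
  let S := FSch.toSchemeMor 𝔛 hL.1 p hp
  haveI : SheafOfModules.IsFinitePresentation (R := ModSite.ringSh Y.sheaf) F := isFinitePresentation_of_isCoh hF
  have h𝔉 : FSch.IsCohF 𝔛 hL.1 (S.pull.obj F) := H15Site.PullLocPres.isFinitePresentation_pull S F
  let q : ∀ k, S.pull.obj F ⟶ (FSch.levelMor 𝔛 hL.1 k).push.obj ((pbSys p T F).F k) := fun k =>
    (S.adj.homEquiv _ _).symm (schUnit hL p hp T F k)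
  have hq : ∀ k, q (k + 1) ≫ ((FSch.levelMor 𝔛 hL.1 (k + 1)).push.map ((pbSys p T F).toPush k) ≫
      (FSch.pushCompare 𝔛 hL.1 k).app ((pbSys p T F).F k)) = q k := fun k =>
    (Adjunction.homEquiv_naturality_right_symm _ _ _).symm.trans (congrArg _ (schUnit_step hL p hp T hT F k))
  have hiso : ∀ k, IsIso (((FSch.levelMor 𝔛 hL.1 k).adj.homEquiv _ _).symm (q k)) := fun k => by
    haveI : ∀ G, IsIso ((FSch.schPushCompare 𝔛 hL.1 p hp k).app G) := isIso_schPushCompare hL p hp k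
    let cmp := NatIso.ofComponents (fun G => asIso ((FSch.schPushCompare 𝔛 hL.1 p hp k).app G))
      (fun f => (FSch.schPushCompare 𝔛 hL.1 p hp k).naturality f)
    let adj₁ := (Scheme.Modules.pullbackPushforwardAdjunction (p k)).ofNatIsoRight cmp
    let adj₂ := S.adj.comp (FSch.levelMor 𝔛 hL.1 k).adj
    have h := Adjunction.homEquiv_leftAdjointUniq_hom_app adj₂ adj₁ F
    have e : ((FSch.levelMor 𝔛 hL.1 k).adj.homEquiv _ _).symm (q k) = (Adjunction.leftAdjointUniq adj₂ adj₁).hom.app F := by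
      refine (adj₂.homEquiv _ _).injective (Eq.trans ?_ h.symm)
      rw [Adjunction.comp_homEquiv]
      refine (congrArg (S.adj.homEquiv _ _) (Equiv.apply_symm_apply _ _)).trans ((Equiv.apply_symm_apply _ _).trans ?_)
      rfl
    rw [e]
    exact ((Adjunction.leftAdjointUniq adj₂ adj₁).app F).isIso_hom
  obtain ⟨e, he⟩ := exists_iso_of_levels hL h𝔉 q hq hiso
  refine ⟨e, fun k => ?_⟩
  exact (Adjunction.homEquiv_naturality_right _ _ _).symm.trans ((congrArg _ (he k)).trans (Equiv.apply_symm_apply _ _))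

end ToScheme

end Groth.Agent.H24FMod
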