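import Groth.Agent.H24FMod.SysBridge
import Groth.Agent.H24FMod.OfLevels
import Groth.Prelude.Def_Formal2
import Mathlib.Algebra.Category.ModuleCat.Sheaf.Limits

/-!
# The direct image to the scheme of the module of a system is the limit of the direct images of the levels
-/

set_option autoImplicit false
set_option linter.style.haveILetI false
set_option linter.unusedSectionVars false
universe u

attribute [-instance] CategoryTheory.catToReflQuiver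

open CategoryTheory CategoryTheory.Limits AlgebraicGeometry TopologicalSpace Opposite

namespace Groth.Agent.H24FMod

variable {𝔛 : FSch.Sys.{u}} (hL : 𝔛.IsLocNoethFormal) {Y : Scheme.{u}} (p : ∀ n, 𝔛.X n ⟶ Y)
  (hp : ∀ n, 𝔛.ι n ≫ p (n + 1) = p n)

theorem schPush_step (𝔐 : FSch.ModSys 𝔛) (n : ℕ) :
    stepMap p hp 𝔐 n ≫ (FSch.schPushCompare 𝔛 hL.1 p hp n).app (𝔐.F n) =
      (FSch.schPushCompare 𝔛 hL.1 p hp (n + 1)).app (𝔐.F (n + 1)) ≫ (FSch.toSchemeMor 𝔛 hL.1 p hp).push.map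
        ((FSch.levelMor 𝔛 hL.1 (n + 1)).push.map (𝔐.toPush n) ≫ (FSch.pushCompare 𝔛 hL.1 n).app (𝔐.F n)) := by
  refine SheafOfModules.Hom.ext (PresheafOfModules.hom_ext fun U => ModuleCat.hom_ext (LinearMap.ext fun m => ?_))
  show (𝔐.F n).presheaf.map (homOfLE (lvU_trOpen hL.1 p hp n U.unop).le).op
      ((𝔐.F n).presheaf.map (homOfLE (show p n ⁻¹ᵁ U.unop ≤ 𝔛.ι n ⁻¹ᵁ (p (n + 1) ⁻¹ᵁ U.unop) by rw [← Scheme.Hom.comp_preimage, hp])).op
        ((𝔐.toPush n).app (p (n + 1) ⁻¹ᵁ U.unop) m)) =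
    (𝔐.F n).presheaf.map (homOfLE (𝔛.lvU_le hL.1 n (trOpen p U.unop))).op
      ((𝔐.toPush n).app _ ((𝔐.F (n + 1)).presheaf.map (homOfLE (lvU_trOpen hL.1 p hp (n + 1) U.unop).le).op m))
  refine (map_map_eq _ _ _ _).trans (Eq.symm ?_)
  refine (congrArg _ (app_map (N := (Scheme.Modules.pushforward (𝔛.ι n)).obj (𝔐.F n)) (n + 1) (𝔐.toPush n)
    (lvU_trOpen hL.1 p hp (n + 1) U.unop).le m)).trans ?_
  exact map_map_eq (𝔐.F n) (A := 𝔛.ι n ⁻¹ᵁ (p (n + 1) ⁻¹ᵁ U.unop)) _ _ _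

theorem nonempty_push_realMod_iso (𝔐 : FSch.ModSys 𝔛) :
    Nonempty (limit (sysOf p hp 𝔐) ≅ (FSch.toSchemeMor 𝔛 hL.1 p hp).push.obj (𝔐.realMod hL.1)) := by
  let S := FSch.toSchemeMor 𝔛 hL.1 p hp
  haveI : PreservesLimit (FSch.levelSysOf 𝔛 hL.1 𝔐.F 𝔐.toPush) S.push :=
    S.adj.rightAdjoint_preservesLimits.preservesLimitsOfShape.preservesLimit
  let a : sysOf p hp 𝔐 ⟶ FSch.levelSysOf 𝔛 hL.1 𝔐.F 𝔐.toPush ⋙ S.push :=
    NatTrans.ofOpSequence (fun n => (FSch.schPushCompare 𝔛 hL.1 p hp n).app (𝔐.F n)) fun n => by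
      rw [sysOf_map_succ]
      refine (schPush_step hL p hp 𝔐 n).trans ?_
      exact congrArg (fun φ => (FSch.schPushCompare 𝔛 hL.1 p hp (n + 1)).app (𝔐.F (n + 1)) ≫ S.push.map φ)
        (FSch.levelSysOf_map_succ 𝔛 hL.1 𝔐.F 𝔐.toPush n).symm
  haveI : ∀ n, IsIso (a.app n) := fun n => isIso_schPushCompare hL p hp n.unop (𝔐.F n.unop)
  haveI := NatIso.isIso_of_isIso_app a
  exact ⟨HasLimit.isoOfNatIso (asIso a) ≪≫ (preservesLimitIso S.push (FSch.levelSysOf 𝔛 hL.1 𝔐.F 𝔐.toPush)).symm⟩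

end Groth.Agent.H24FMod
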