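import Groth.Agent.H24FMod.PushHC
import Groth.Agent.H24FMod.GrLimit
import Groth.Agent.H24FMod.LimTop
import Groth.Agent.H24FMod.RealPush
import Groth.Agent.H24FMod.AlgPred
import Groth.Agent.H10Coh.Affine
import Groth.Agent.LeadFF.Limit
import Groth.Agent.LeadFF.ProperSupp
import Groth.Prelude.Def_Formal2

/-!
# Formal functions on the completion of a proper scheme
-/

set_option autoImplicit false
set_option linter.style.haveILetI false
set_option linter.unusedSectionVars false
universe u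

attribute [-instance] CategoryTheory.catToReflQuiver

open CategoryTheory CategoryTheory.Limits AlgebraicGeometry TopologicalSpace Opposite

namespace Groth.Agent.H24FMod

section Site

variable {C : Type u} [SmallCategory C] {Jt : GrothendieckTopology C} {O : Sheaf Jt CommRingCat.{u}}
  [HasSheafify Jt AddCommGrpCat.{u}] [HasExt.{u} (Sheaf Jt AddCommGrpCat.{u})]

theorem trHom_sys_eq {X : ℕ → ModSite.Mod O} (t : ∀ k, X (k + 1) ⟶ X k) (p : ℕ) {i k : ℕ} (h : i ≤ k)
    (x : Sheaf.H ((SheafOfModules.toSheaf (ModSite.ringSh O)).obj (X k)) p) :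
    H16Derived.ML.trHom (GrTower.sys X t p) h x = GrTower.hm ((Functor.ofOpSequence t).map (homOfLE h).op) p x := by
  induction h with
  | refl =>
    refine (congr($((GrTower.sys X t p).map_id (op i)) x)).trans ?_
    refine ((congrArg (fun q => GrTower.hm q p x) ((Functor.ofOpSequence t).map_id (op i))).trans (GrTower.hm_id _ p x)).symm
  | @step k h ih =>
    refine (GrML.trHom_succ (GrTower.sys X t p) h x).symm.trans ?_
    refine (ih _).trans ?_
    refine (congrArg (GrTower.hm _ p) (GrTower.trHom_sys X t p k x)).trans ?_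
    refine (GrTower.hm_comp _ _ p x).symm.trans (congrArg (fun q => GrTower.hm q p x) ?_)
    rw [← Functor.ofOpSequence_map_homOfLE_succ t k]
    exact ((Functor.ofOpSequence t).map_comp _ _).symm

/-- The cohomology of the limit of a tower as a subgroup of compatible families in given groups. -/
theorem nonempty_limit_equiv {X : ℕ → ModSite.Mod O} (t : ∀ k, X (k + 1) ⟶ X k) {pt : ModSite.Mod O}
    (e : pt ≅ limit (Functor.ofOpSequence t)) {B : Set C} (hB : LimH.IsCovering Jt B)
    (hac : ∀ k, LimH.Acyc B ((SheafOfModules.toSheaf.{u} (ModSite.ringSh O)).obj (X k)))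
    (hs : ∀ U ∈ B, ∀ k, Function.Surjective
      (((SheafOfModules.toSheaf.{u} (ModSite.ringSh O)).map (t k)).hom.app (op U)).hom)
    (hML : ∀ q, ∃ c, GrML.Stable (GrTower.sys X t q) c) (p : ℕ) {T : ℕ → Type u} [∀ n, AddCommGroup (T n)]
    (cv : ∀ n, Sheaf.H ((SheafOfModules.toSheaf (ModSite.ringSh O)).obj (X n)) p ≃+ T n) (τ : ∀ n, T (n + 1) →+ T n)
    (hτ : ∀ n x, cv n (GrTower.hm (t n) p x) = τ n (cv (n + 1) x))
    (L : AddSubgroup (∀ n, T n)) (hL : ∀ x, x ∈ L ↔ ∀ n, τ n (x (n + 1)) = x n) :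
    Nonempty (Sheaf.H ((SheafOfModules.toSheaf (ModSite.ringSh O)).obj pt) p ≃+ L) := by
  let u : ∀ k, pt ⟶ X k := fun k => e.hom ≫ limit.π (Functor.ofOpSequence t) (op k)
  have hw : ∀ n, u (n + 1) ≫ t n = u n := fun n => by
    refine (Category.assoc _ _ _).trans (congrArg (e.hom ≫ ·) ?_)
    exact (congrArg (limit.π (Functor.ofOpSequence t) (op (n + 1)) ≫ ·) (Functor.ofOpSequence_map_homOfLE_succ t n).symm).trans
      (limit.w (Functor.ofOpSequence t) (homOfLE (Nat.le_succ n)).op)
  obtain ⟨h1, h2⟩ := GrLimit.bijective t e u (fun _ => rfl) hB hac hs p hML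
  let f : Sheaf.H ((SheafOfModules.toSheaf (ModSite.ringSh O)).obj pt) p →+ (∀ n, T n) :=
    AddMonoidHom.pi fun n => (cv n).toAddMonoidHom.comp (GrTower.hm (u n) p)
  have hmem : ∀ x, f x ∈ L := fun x => (hL _).2 fun n => by
    refine (hτ n _).symm.trans (congrArg (cv n) ?_)
    exact (GrTower.hm_comp (u (n + 1)) (t n) p x).symm.trans (congrArg (fun φ => GrTower.hm φ p x) (hw n))
  refine ⟨AddEquiv.ofBijective (f.codRestrict _ hmem) ⟨(injective_iff_map_eq_zero _).2 fun x h => ?_, fun z => ?_⟩⟩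
  · exact h1 x fun n => (cv n).injective ((congrFun (congrArg Subtype.val h) n).trans (map_zero _).symm)
  · obtain ⟨x, hx⟩ := h2 (fun n => (cv n).symm (z.1 n)) fun n => (cv n).injective
      ((hτ n _).trans (by
        rw [AddEquiv.apply_symm_apply, AddEquiv.apply_symm_apply]
        exact (hL z.1).1 z.2 n))
    exact ⟨x, Subtype.ext (funext fun n => (congrArg (cv n) (hx n)).trans ((cv n).apply_symm_apply _))⟩

end Site

variable {A : Type u} [CommRing A] [IsNoetherianRing A] {X : Scheme.{u}} [X.Over (Spec (CommRingCat.of A))]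
  [IsProper (X ↘ Spec (CommRingCat.of A))] (I : Ideal A) {F : X.Modules}

omit [IsNoetherianRing A] [IsProper (X ↘ Spec (CommRingCat.of A))] in
/-- The cohomology of modules on a scheme, written out. -/
theorem exists_toHH (p : ℕ) :
    ∃ cv : ∀ M : ModSite.Mod X.sheaf,
        Sheaf.H ((SheafOfModules.toSheaf (ModSite.ringSh X.sheaf)).obj M) p ≃+ Coh.HH X M p,
      ∀ (M N : ModSite.Mod X.sheaf) (φ : M ⟶ N) (x : Sheaf.H ((SheafOfModules.toSheaf (ModSite.ringSh X.sheaf)).obj M) p),
        cv N (GrTower.hm φ p x) = LeadFF.Hm φ p (cv M x) :=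
  ⟨fun _ => AddEquiv.refl _, fun _ _ _ _ => rfl⟩

theorem exists_stable_completion (hF : Coh.IsCoh F) (q : ℕ) :
    ∃ c, GrML.Stable (GrTower.sys (O := X.sheaf) (fun k => Formal.modPow I (k + 1) F)
      (fun k => Formal.modPowTrans I (k + 1) F) q) c := by
  obtain ⟨c, hc⟩ := LeadFF.exists_mittag_leffler I F (LeadFF.properCoh_of_isProper (X ↘ Spec (CommRingCat.of A)) hF) q
  obtain ⟨cv, hcv⟩ := exists_toHH (X := X) q
  refine ⟨c, fun i k hk x => ?_⟩
  obtain ⟨y, hy⟩ := hc i (i + c) (Nat.le_add_right i c) le_rfl (cv (Formal.modPow I (i + c + 1) F) x)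
  refine ⟨GrTower.hm (O := X.sheaf) (Formal.modPowπ I (k + 1) F) q ((cv F).symm y), ?_⟩
  refine (trHom_sys_eq (O := X.sheaf) (X := fun k => Formal.modPow I (k + 1) F) (fun k => Formal.modPowTrans I (k + 1) F) q
    ((Nat.le_add_right i c).trans hk) _).trans (Eq.trans ?_
    (trHom_sys_eq (O := X.sheaf) (X := fun k => Formal.modPow I (k + 1) F) (fun k => Formal.modPowTrans I (k + 1) F) q
      (Nat.le_add_right i c) x).symm)
  apply (cv (Formal.modPow I (i + 1) F)).injective
  refine Eq.trans ?_ (hy.trans (hcv (Formal.modPow I (i + c + 1) F) (Formal.modPow I (i + 1) F) _ x).symm)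
  refine (congrArg (cv _) (GrTower.hm_comp _ _ q ((cv F).symm y)).symm).trans ((hcv F (Formal.modPow I (i + 1) F) _ _).trans ?_)
  rw [AddEquiv.apply_symm_apply]
  exact congrArg (fun φ => LeadFF.Hm φ q y) (LeadFF.modPowπ_completion_map I F ((Nat.le_add_right i c).trans hk))

theorem nonempty_HH_limit_completion (hF : Coh.IsCoh F) (p : ℕ) :
    Nonempty (Sheaf.H ((SheafOfModules.toSheaf (ModSite.ringSh X.sheaf)).obj (limit (Formal.completion I F) : X.Modules)) p ≃+
      Formal.HHlim I F p) := by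
  haveI : IsLocallyNoetherian X := LocallyOfFiniteType.isLocallyNoetherian (X ↘ Spec (CommRingCat.of A))
  obtain ⟨cv, hcv⟩ := exists_toHH (X := X) p
  exact nonempty_limit_equiv (O := X.sheaf) (X := fun k => Formal.modPow I (k + 1) F) (fun k => Formal.modPowTrans I (k + 1) F)
    (Iso.refl _) (LimTop.isCovering_of_isBasis X.isBasis_affineOpens)
    (fun k U hU p => by
      haveI := (H24Formal.isCoh_modPow I (k + 1) hF).1
      exact H10Coh.subsingleton_HnM_of_isAffineOpen (Formal.modPow I (k + 1) F) hU p)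
    (fun U hU k y => by
      obtain ⟨x, rfl⟩ := H24Formal.HomC.surjective_modPowπ I (k + 1) hF hU y
      exact ⟨(Formal.modPowπ I (k + 1 + 1) F).app U x, congr(($(Formal.modPowπ_trans I (k + 1) F)).app U x)⟩)
    (fun q => exists_stable_completion I hF q) p (fun n => cv (Formal.modPow I (n + 1) F)) (Formal.HHmodPowTrans I F p)
    (fun n x => hcv _ _ _ x) (Formal.HHlim I F p) (fun _ => Iff.rfl)

variable (𝓚 : X.IdealSheafData)

theorem nonempty_HF_completion_hhlim (h𝓚 : 𝓚 = (FSch.idealSpec A I).comap (X ↘ Spec (CommRingCat.of A)))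
    (hX : (FSch.completionAlong X 𝓚).IsFormal) (hF : Coh.IsCoh F) (n : ℕ) :
    Nonempty (FSch.HF (FSch.completionAlong X 𝓚) hX ((FSch.toSchemeMor (FSch.completionAlong X 𝓚) hX
      (FSch.completionToX X 𝓚) (FSch.completionToX_comm X 𝓚)).pull.obj F) n ≃+ Formal.HHlim I F n) := by
  haveI : IsLocallyNoetherian X := LocallyOfFiniteType.isLocallyNoetherian (X ↘ Spec (CommRingCat.of A))
  haveI := isClosedImmersion_completionToX (𝓘 := 𝓚)
  let hL := H24FSch.isLocNoethFormal_completionAlong X 𝓚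
  let c := FSch.completionToX X 𝓚
  let hc := FSch.completionToX_comm X 𝓚
  let T := FSch.complTransIso 𝓚
  obtain ⟨Φ, -⟩ := PushHC.exists_pushMod (OZ := (FSch.completionAlong X 𝓚).Osh hX) (OX := X.sheaf) (c 0).base
    (FSch.schSharp (FSch.completionAlong X 𝓚) hX c hc) (c 0).isClosedEmbedding n
  obtain ⟨e₁, -⟩ := exists_pull_iso hL c hc T (fun _ => rfl) F hF
  obtain ⟨e₂⟩ := nonempty_push_realMod_iso hL c hc (pbSys c T F)
  obtain ⟨e₃, -⟩ := exists_complIso c hc I (ker_completionToX A I (X ↘ Spec (CommRingCat.of A)) h𝓚 rfl) T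
    (fun _ => rfl) (IsNoetherian.noetherian I) F hF
  let E := (FSch.toSchemeMor (FSch.completionAlong X 𝓚) hX c hc).push.mapIso e₁ ≪≫ e₂.symm ≪≫
    (HasLimit.isoOfNatIso e₃).symm
  obtain ⟨L⟩ := nonempty_HH_limit_completion I hF n
  exact ⟨((Φ _).trans (GrTower.hmEquiv (O := X.sheaf) E.hom E.isIso_hom n)).trans L⟩

end Groth.Agent.H24FMod
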