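import Groth.Agent.H24FMod.Affine
import Groth.Agent.LeadFF.BaseChange
import Groth.Prelude.Def_DerComp
import Groth.Prelude.Def_FSch4

/-!
# Scalars on an adic formal scheme over an adic ring

For an adic morphism `f : 𝔛 ⟶ Spf A`: the map `A → Γ(U, O_𝔛)`, and the ideal of definition over an affine open is
the extension of the ideal of definition of `A`.
-/

set_option autoImplicit false
set_option linter.style.haveILetI false
set_option linter.unusedSectionVars false

universe u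

open AlgebraicGeometry CategoryTheory CategoryTheory.Limits TopologicalSpace Opposite

namespace Groth.Agent.H24FMod

open LeadFF H15Site.ModTensor H15Site.ModRel

theorem scal_comp_specMap {A B : Type u} [CommRing A] [CommRing B] {X : Scheme.{u}}
    (g : X ⟶ Spec (CommRingCat.of B)) (φ : A →+* B) (U : X.Opens) (a : A) :
    scal (g ≫ Spec.map (CommRingCat.ofHom φ)) U a = scal g U (φ a) := by
  have h : CommRingCat.ofHom (scal (g ≫ Spec.map (CommRingCat.ofHom φ)) U) =
      CommRingCat.ofHom φ ≫ CommRingCat.ofHom (scal g U) := by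
    rw [scal_eq_appLE, scal_eq_appLE, Scheme.ΓSpecIso_inv_naturality_assoc,
      Scheme.Hom.appTop, Scheme.Hom.app_eq_appLE (Spec.map (CommRingCat.ofHom φ)) (U := ⊤)]
    exact congrArg _ (Scheme.Hom.appLE_comp_appLE _ _ _ _ _ _ _).symm
  exact congr($h a)

theorem appLE_scal {A : Type u} [CommRing A] {X X' : Scheme.{u}} (g : X ⟶ Spec (CommRingCat.of A)) (q : X' ⟶ X)
    {U : X.Opens} {V : X'.Opens} (e : V ≤ q ⁻¹ᵁ U) (a : A) :
    q.appLE U V e (scal g U a) = scal (q ≫ g) V a := by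
  have h : CommRingCat.ofHom (scal g U) ≫ q.appLE U V e = CommRingCat.ofHom (scal (q ≫ g) V) := by
    rw [scal_eq_appLE, scal_eq_appLE, Category.assoc]
    congr 1
    exact Scheme.Hom.appLE_comp_appLE _ _ _ _ _ _ _
  exact congr($h a)

/-- In a cartesian square over a closed immersion of affine bases, the kernel on sections is the extended ideal. -/
theorem mem_map_ker_of_appLE_eq_zero {A S : Type u} [CommRing A] [CommRing S] {φ : A →+* S}
    (hφ : Function.Surjective φ) {X X' : Scheme.{u}} {q : X' ⟶ X} {g : X ⟶ Spec (CommRingCat.of A)}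
    {g' : X' ⟶ Spec (CommRingCat.of S)} (hsq : IsPullback q g' g (Spec.map (CommRingCat.ofHom φ)))
    {U : X.Opens} (hU : IsAffineOpen U) {W : X'.Opens} (hW : W = q ⁻¹ᵁ U) (b : Γ(X, U))
    (hb : q.appLE U W hW.le b = 0) : b ∈ (RingHom.ker φ).map (scal g U) := by
  subst hW
  rw [← Scheme.Hom.app_eq_appLE] at hb
  let 𝔞 : Ideal Γ(X, U) := (RingHom.ker φ).map (scal g U)
  let k : A →+* Γ(X, U) ⧸ 𝔞 := (Ideal.Quotient.mk 𝔞).comp (scal g U)
  have hk : RingHom.ker φ ≤ RingHom.ker k := fun a ha =>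
    RingHom.mem_ker.2 (Ideal.Quotient.eq_zero_iff_mem.2 (Ideal.mem_map_of_mem _ ha))
  let ψ : S →+* Γ(X, U) ⧸ 𝔞 := RingHom.liftOfSurjective φ hφ ⟨k, hk⟩
  have hψ : ∀ a, ψ (φ a) = k a := fun a => RingHom.liftOfSurjective_comp_apply φ hφ ⟨k, hk⟩ a
  have hc : CommRingCat.ofHom (scal g U) ≫ CommRingCat.ofHom (Ideal.Quotient.mk 𝔞) =
      CommRingCat.ofHom φ ≫ CommRingCat.ofHom ψ := CommRingCat.hom_ext (RingHom.ext fun a => (hψ a).symm)
  have h := congr($((isPushout_scal hsq hU).inl_desc (CommRingCat.ofHom (Ideal.Quotient.mk 𝔞)) (CommRingCat.ofHom ψ) hc) b)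
  refine Ideal.Quotient.eq_zero_iff_mem.1 (h.symm.trans ?_)
  show ((isPushout_scal hsq hU).desc _ _ hc) (q.app U b) = 0
  rw [hb, map_zero]

variable {A : Type u} [CommRing A] (J : Ideal A) {𝔛 : FSch.Sys.{u}} (f : 𝔛 ⟶ FSch.spf A J)

/-- The levels over the base. -/
noncomputable abbrev toA (n : ℕ) : 𝔛.X n ⟶ Spec (CommRingCat.of A) :=
  (f : FSch.Hom 𝔛 (FSch.spf A J)).app n ≫ FSch.spfToSpec A J n

theorem ι_toA (n : ℕ) : 𝔛.ι n ≫ toA J f (n + 1) = toA J f n := by
  rw [toA, toA, ← Category.assoc, ← (f : FSch.Hom 𝔛 (FSch.spf A J)).comm n, Category.assoc]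
  exact congrArg ((f : FSch.Hom 𝔛 (FSch.spf A J)).app n ≫ ·) (CohB1.specQuotTrans_specQuot J n)

/-- The morphism to the spectrum of the level of the base. -/
noncomputable abbrev toQ (n : ℕ) : 𝔛.X n ⟶ Spec (CommRingCat.of (A ⧸ J ^ (n + 1))) :=
  (f : FSch.Hom 𝔛 (FSch.spf A J)).app n

theorem scal_toA (n : ℕ) (V : (𝔛.X n).Opens) (a : A) :
    scal (toA J f n) V a = scal (toQ J f n) V (Ideal.Quotient.mk (J ^ (n + 1)) a) :=
  scal_comp_specMap (toQ J f n) _ V a

theorem scal_toA_eq_zero (n : ℕ) (V : (𝔛.X n).Opens) {a : A} (ha : a ∈ J ^ (n + 1)) :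
    scal (toA J f n) V a = 0 :=
  (scal_toA J f n V a).trans (by rw [Ideal.Quotient.eq_zero_iff_mem.2 ha, map_zero])

variable (hL : 𝔛.IsLocNoethFormal)

theorem exists_σ (U : (𝔛.X 0).Opens) (a : A) :
    ∃ r : OSec hL.1 U, ∀ n, oP hL.1 n U r = scal (toA J f n) (𝔛.lvU hL.1 n U) a :=
  exists_oP hL.1 U _ fun n => (appLE_scal (toA J f (n + 1)) (𝔛.ι n) _ a).trans (by rw [ι_toA])

/-- The scalars over an open. -/
noncomputable def σU (U : (𝔛.X 0).Opens) : A →+* OSec hL.1 U where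
  toFun a := (exists_σ J f hL U a).choose
  map_one' := oP_ext hL.1 _ _ fun n => by rw [(exists_σ J f hL U 1).choose_spec n, map_one, map_one]
  map_zero' := oP_ext hL.1 _ _ fun n => by rw [(exists_σ J f hL U 0).choose_spec n, map_zero, map_zero]
  map_add' a b := oP_ext hL.1 _ _ fun n => by
    rw [(exists_σ J f hL U (a + b)).choose_spec n, map_add, map_add, (exists_σ J f hL U a).choose_spec n,
      (exists_σ J f hL U b).choose_spec n]
  map_mul' a b := oP_ext hL.1 _ _ fun n => by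
    rw [(exists_σ J f hL U (a * b)).choose_spec n, map_mul, map_mul, (exists_σ J f hL U a).choose_spec n,
      (exists_σ J f hL U b).choose_spec n]

theorem oP_σU (n : ℕ) (U : (𝔛.X 0).Opens) (a : A) :
    oP hL.1 n U (σU J f hL U a) = scal (toA J f n) (𝔛.lvU hL.1 n U) a :=
  (exists_σ J f hL U a).choose_spec n

/-- The scalars as global sections. -/
noncomputable def σ (a : A) : DerComp.GSec (𝔛.Osh hL.1) :=
  ⟨fun U => σU J f hL U a, fun U V g => oP_ext hL.1 _ _ fun n => by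
    refine (oP_res hL.1 n g _).trans ?_
    rw [oP_σU, oP_σU]
    exact map_scal _ _ a⟩

theorem σ_add (a b : A) : σ J f hL (a + b) = σ J f hL a + σ J f hL b :=
  Subtype.ext (funext fun U => map_add (σU J f hL U) a b)

theorem σ_mul (a b : A) : σ J f hL (a * b) = σ J f hL a * σ J f hL b :=
  Subtype.ext (funext fun U => map_mul (σU J f hL U) a b)

theorem σ_one : σ J f hL 1 = 1 :=
  Subtype.ext (funext fun U => map_one (σU J f hL U))

variable [IsNoetherianRing A]

/-- The ideal of definition over an affine open comes from the base. -/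
theorem exists_adic_base (hf : FSch.IsAdicHom f) {U : (𝔛.X 0).Opens} (hU : IsAffineOpen U) :
    IsAdicComplete (J.map (σU J f hL U)) (OSec hL.1 U) ∧
      ∀ n, RingHom.ker (oP hL.1 n U) = (J.map (σU J f hL U)) ^ (n + 1) := by
  obtain ⟨I, hN, hc, hI⟩ := exists_adic hL hU
  haveI := hc
  haveI := hN
  have h0 : J.map (σU J f hL U) ≤ I := Ideal.map_le_iff_le_comap.2 fun a ha => by
    rw [Ideal.mem_comap, ← pow_one I, ← hI 0, RingHom.mem_ker, oP_σU]
    exact scal_toA_eq_zero J f 0 _ (by rwa [zero_add, pow_one])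
  suffices h : I = J.map (σU J f hL U) by
    subst h
    exact ⟨hc, hI⟩
  refine le_antisymm (Submodule.le_of_le_smul_of_le_jacobson_bot (IsNoetherian.noetherian I)
    (IsAdicComplete.le_jacobson_bot I) fun r hr => ?_) h0
  have hr0 : oP hL.1 0 U r = 0 := by rw [← RingHom.mem_ker, hI 0, zero_add, pow_one]; exact hr
  have h1 := mem_map_ker_of_appLE_eq_zero (A := A ⧸ J ^ (1 + 1)) (S := A ⧸ J ^ (0 + 1))
    (φ := Ideal.Quotient.factor (Ideal.pow_le_pow_right (Nat.le_succ (0 + 1)))) (Ideal.Quotient.factor_surjective _)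
    (q := 𝔛.ι 0) (g := toQ J f 1) (g' := toQ J f 0)
    (hf 0) (isAffineOpen_lvU hL hU 1) (𝔛.lvU_succ hL.1 0 U).symm (oP hL.1 1 U r) ((trO_oP hL.1 0 U r).trans hr0)
  have h2 : oP hL.1 1 U r ∈ (J.map (σU J f hL U)).map (oP hL.1 1 U) := by
    refine Ideal.map_le_iff_le_comap.2 (fun x hx => ?_) h1
    obtain ⟨a, rfl⟩ := Ideal.Quotient.mk_surjective x
    rw [RingHom.mem_ker, Ideal.Quotient.factor_mk, Ideal.Quotient.eq_zero_iff_mem, zero_add, pow_one] at hx
    rw [Ideal.mem_comap, ← scal_toA, ← oP_σU J f hL 1 U a]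
    exact Ideal.mem_map_of_mem _ (Ideal.mem_map_of_mem _ hx)
  obtain ⟨r', hr', he⟩ := (Ideal.mem_map_iff_of_surjective _ (surjective_oP hL hU 1)).1 h2
  refine Submodule.mem_sup.2 ⟨r', hr', r - r', ?_, add_sub_cancel _ _⟩
  rw [smul_eq_mul, ← sq]
  show r - r' ∈ I ^ (1 + 1)
  rw [← hI 1, RingHom.mem_ker, map_sub, he, sub_self]

end Groth.Agent.H24FMod
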