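import Groth.Agent.H24FMod.GrSections
import Groth.Agent.LeadFF.Gen
import Groth.Agent.H10Coh.SubMod
import Groth.Agent.H24Formal.SectionSystem

/-!
# Stable families in the cohomology of the pieces of a graded module over the Rees algebra

For `Y` over `Spec A`, an ideal `I` and quasi-coherent modules `K k` with multiplications `K k → K n` by the
elements of `I^(n-k)`, generated in degree zero: the sum of the `K k` is the direct image of a coherent module on
`Y ×_A Rees I`, so a stable family of subgroups of the `H^p(Y, K k)` is generated in bounded degree.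
-/

set_option autoImplicit false
set_option linter.style.haveILetI false
set_option linter.unusedSectionVars false

universe u

open AlgebraicGeometry CategoryTheory CategoryTheory.Limits TopologicalSpace Opposite

namespace Groth.Agent.H24FMod.Gr

open LeadFF

variable {A : Type u} [CommRing A] {Y : Scheme.{u}} [Y.Over (Spec (CommRingCat.of A))] (I : Ideal A)

/-- Modules with multiplications by the powers of an ideal, generated in degree zero. -/
structure Data where
  /-- The pieces. -/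
  K : ℕ → Y.Modules
  qcoh : ∀ k, Coh.IsQCoh (K k)
  /-- The multiplications. -/
  m : ∀ k n, k ≤ n → ∀ a ∈ I ^ (n - k), K k ⟶ K n
  m_add : ∀ k n h a b (ha : a ∈ I ^ (n - k)) (hb : b ∈ I ^ (n - k)),
    m k n h (a + b) (add_mem ha hb) = m k n h a ha + m k n h b hb
  m_smul : ∀ k n h a b (hb : b ∈ I ^ (n - k)),
    m k n h (a * b) (Ideal.mul_mem_left _ a hb) = Formal.smulMod A (K k) a ≫ m k n h b hb
  m_comp : ∀ k c n (h : k ≤ c) (h' : c ≤ n) a b (ha : a ∈ I ^ (c - k)) (hb : b ∈ I ^ (n - c))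
    (hab : b * a ∈ I ^ (n - k)), m k c h a ha ≫ m c n h' b hb = m k n (h.trans h') (b * a) hab
  gen : ∀ k (U : Y.Opens), IsAffineOpen U → ∀ y : Γ(K k, U), y ∈ AddSubgroup.closure
    {z | ∃ a, ∃ ha : a ∈ I ^ (k - 0), ∃ g, (m 0 k k.zero_le a ha).app U g = z}

variable {I} (D : Data (Y := Y) I)

/-- `q_* q^* K 0`. -/
noncomputable abbrev P : Y.Modules :=
  (Coh.push (q I Y)).obj ((Scheme.Modules.pullback (q I Y)).obj (D.K 0))

/-- The unit. -/
noncomputable abbrev un : D.K 0 ⟶ P D :=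
  (Scheme.Modules.pullbackPushforwardAdjunction (q I Y)).unit.app (D.K 0)

/-- The action of the Rees algebra. -/
noncomputable def Pa (s : Rees I) : P D ⟶ P D :=
  (Coh.push (q I Y)).map (Formal.smulModΓ _ (glob (gR I Y) s))

/-- A section of `q^* K 0` over `q⁻¹U` as a section of `q_* q^* K 0`. -/
noncomputable def toP (U : Y.Opens) (z : Γ((Scheme.Modules.pullback (q I Y)).obj (D.K 0), q I Y ⁻¹ᵁ U)) :
    Γ(P D, U) := z

theorem Pa_toP (s : Rees I) (U : Y.Opens) (z : Γ((Scheme.Modules.pullback (q I Y)).obj (D.K 0), q I Y ⁻¹ᵁ U)) :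
    (Pa D s).app U (toP D U z) = toP D U (scal (gR I Y) (q I Y ⁻¹ᵁ U) s • z) := rfl

theorem Pa_add (s t : Rees I) : Pa D (s + t) = Pa D s + Pa D t := by
  refine hom_ext_sections _ _ fun U z => ?_
  show scal (gR I Y) (q I Y ⁻¹ᵁ U) (s + t) •
    (show Γ((Scheme.Modules.pullback (q I Y)).obj (D.K 0), q I Y ⁻¹ᵁ U) from z) = _
  rw [map_add, add_smul]
  rfl

theorem Pa_mul (s t : Rees I) : Pa D (s * t) = Pa D t ≫ Pa D s := by
  refine hom_ext_sections _ _ fun U z => ?_
  show scal (gR I Y) (q I Y ⁻¹ᵁ U) (s * t) •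
    (show Γ((Scheme.Modules.pullback (q I Y)).obj (D.K 0), q I Y ⁻¹ᵁ U) from z) = _
  rw [map_mul, mul_smul]
  rfl

theorem mem_sub (n : ℕ) (s : Rees I) : s.1.coeff n ∈ I ^ (n - 0) := (Nat.sub_zero n).symm ▸ s.2 n

theorem m_congr {k n : ℕ} (h : k ≤ n) {a b : A} (e : a = b) (ha : a ∈ I ^ (n - k)) :
    D.m k n h a ha = D.m k n h b (e ▸ ha) := by
  subst e; rfl

theorem m_zero {k n : ℕ} (h : k ≤ n) : D.m k n h 0 (zero_mem _) = 0 := by
  have := D.m_add k n h 0 0 (zero_mem _) (zero_mem _)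
  rw [m_congr D h (add_zero (0 : A))] at this
  exact left_eq_add.1 this

theorem exists_L (n : ℕ) {U : Y.Opens} (hU : IsAffineOpen U) :
    ∃ L : Γ(P D, U) →ₗ[Γ(Y, U)] Γ(D.K n, U), ∀ (s : Rees I) (g : Γ(D.K 0, U)),
      L (toP D U (scal (gR I Y) (q I Y ⁻¹ᵁ U) s • OmegaSh.pullSect (q I Y) (D.K 0) U g)) =
        (D.m 0 n n.zero_le (s.1.coeff n) (mem_sub n s)).app U g := by
  let f : Rees I →+ Γ(D.K 0, U) →+ Γ(D.K n, U) :=
    AddMonoidHom.mk' (fun s => ((D.m 0 n n.zero_le (s.1.coeff n) (mem_sub n s)).app U).hom) fun s t => by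
      have e : (s + t).1.coeff n = s.1.coeff n + t.1.coeff n := Polynomial.coeff_add _ _ _
      rw [m_congr D n.zero_le e, D.m_add]
      rfl
  obtain ⟨L, hL⟩ := exists_sections_lift (sqR I Y) (D.K 0) (D.qcoh 0) hU f fun a s g => by
    have e : (φR I a * s).1.coeff n = a * s.1.coeff n := Polynomial.coeff_C_mul s.1
    show (D.m 0 n n.zero_le ((φR I a * s).1.coeff n) _).app U g = _
    rw [m_congr D n.zero_le e, D.m_smul]
    rfl
  refine ⟨{ toFun := fun z => L z, map_add' := fun x y => L.map_add x y, map_smul' := fun b z => ?_ }, hL⟩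
  show L ((q I Y).app U b • (show Γ((Scheme.Modules.pullback (q I Y)).obj (D.K 0), q I Y ⁻¹ᵁ U) from z)) = b • L z
  refine (exists_sections (sqR I Y) (D.K 0) (D.qcoh 0) hU).1 (fun z => L ((q I Y).app U b • z) = b • L z) ?_ ?_ ?_ z
  · show L ((q I Y).app U b • 0) = b • L 0
    rw [smul_zero, map_zero, smul_zero]
  · intro x y hx hy
    show L ((q I Y).app U b • (x + y)) = b • L (x + y)
    rw [smul_add, map_add, map_add, smul_add, hx, hy]
  · intro s g
    show L ((q I Y).app U b • (_ • _)) = b • L (_ • _)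
    rw [smul_comm, ← OmegaSh.pullSect_smul, hL, hL]
    exact Scheme.Modules.Hom.app_smul _ _ _

theorem exists_Lmap (n : ℕ) : ∃ α : P D ⟶ D.K n, ∀ (U : Y.Opens) (hU : IsAffineOpen U) (z : Γ(P D, U)),
    α.app U z = (exists_L D n hU).choose z :=
  H17.PrinOmega.exists_hom_of_basis (P D) (D.K n) IsAffineOpen
    (fun W x hx => by
      obtain ⟨V, hV, hxV, hle⟩ := exists_isAffineOpen_mem_and_subset (U := W) hx
      exact ⟨V, hV, hxV, hle⟩)
    (fun U hU => (exists_L D n hU).choose)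
    (fun U V hU hV e z => by
      set LU := (exists_L D n hU).choose with hLU
      set LV := (exists_L D n hV).choose with hLV
      refine (exists_sections (sqR I Y) (D.K 0) (D.qcoh 0) hU).1
        (fun z => LV ((P D).presheaf.map (homOfLE e).op (toP D U z)) =
          (D.K n).presheaf.map (homOfLE e).op (LU (toP D U z))) ?_ ?_ ?_ z
      · show LV ((P D).presheaf.map (homOfLE e).op (0 : Γ(P D, U))) = (D.K n).presheaf.map _ (LU 0)
        rw [map_zero, map_zero, map_zero, map_zero]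
      · intro x y hx hy
        show LV ((P D).presheaf.map (homOfLE e).op (toP D U x + toP D U y)) =
          (D.K n).presheaf.map (homOfLE e).op (LU (toP D U x + toP D U y))
        rw [map_add, map_add, map_add, map_add, hx, hy]
      · intro s g
        have hgen : (P D).presheaf.map (homOfLE e).op
            (toP D U (scal (gR I Y) (q I Y ⁻¹ᵁ U) s • OmegaSh.pullSect (q I Y) (D.K 0) U g)) =
            toP D V (scal (gR I Y) (q I Y ⁻¹ᵁ V) s • OmegaSh.pullSect (q I Y) (D.K 0) V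
              ((D.K 0).presheaf.map (homOfLE e).op g)) := by
          show ((Scheme.Modules.pullback (q I Y)).obj (D.K 0)).presheaf.map
            (homOfLE ((q I Y).preimage_mono e)).op (scal (gR I Y) (q I Y ⁻¹ᵁ U) s • OmegaSh.pullSect (q I Y) (D.K 0) U g) = _ • _
          rw [Scheme.Modules.map_smul, map_scal, ← OmegaSh.pullSect_map]
        show LV _ = (D.K n).presheaf.map _ (LU _)
        rw [hgen, hLU, hLV, (exists_L D n hU).choose_spec, (exists_L D n hV).choose_spec]
        exact congr($((D.m 0 n n.zero_le (s.1.coeff n) (mem_sub n s)).mapPresheaf.naturality (homOfLE e).op) g))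

/-- The degree-`n` component. -/
noncomputable def L (n : ℕ) : P D ⟶ D.K n := (exists_Lmap D n).choose

theorem L_gen (n : ℕ) {U : Y.Opens} (hU : IsAffineOpen U) (s : Rees I) (g : Γ(D.K 0, U)) :
    (L D n).app U (toP D U (scal (gR I Y) (q I Y ⁻¹ᵁ U) s • OmegaSh.pullSect (q I Y) (D.K 0) U g)) =
      (D.m 0 n n.zero_le (s.1.coeff n) (mem_sub n s)).app U g :=
  ((exists_Lmap D n).choose_spec U hU _).trans ((exists_L D n hU).choose_spec s g)

/-- Induction over the sections of `q_* q^* K 0` on an affine open. -/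
theorem P_induction {U : Y.Opens} (hU : IsAffineOpen U) (M : Γ(P D, U) → Prop) (h0 : M 0)
    (hadd : ∀ x y, M x → M y → M (x + y))
    (hgen : ∀ (s : Rees I) (g : Γ(D.K 0, U)),
      M (toP D U (scal (gR I Y) (q I Y ⁻¹ᵁ U) s • OmegaSh.pullSect (q I Y) (D.K 0) U g)))
    (z : Γ(P D, U)) : M z :=
  (exists_sections (sqR I Y) (D.K 0) (D.qcoh 0) hU).1 (fun z => M (toP D U z)) h0 hadd hgen z

theorem Pa_L (i k : ℕ) (b : A) (hb : b ∈ I ^ i) (hb' : b ∈ I ^ (i + k - k)) :
    Pa D (mon I i b hb) ≫ L D (i + k) = L D k ≫ D.m k (i + k) (Nat.le_add_left k i) b hb' := by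
  refine hom_ext_affine _ _ fun U hU z => ?_
  refine P_induction D hU (fun z => (Pa D (mon I i b hb) ≫ L D (i + k)).app U z =
    (L D k ≫ D.m k (i + k) (Nat.le_add_left k i) b hb').app U z) ((map_zero _).trans (map_zero _).symm)
    (fun x y hx hy => by
      show (Pa D (mon I i b hb) ≫ L D (i + k)).app U (x + y) =
        (L D k ≫ D.m k (i + k) (Nat.le_add_left k i) b hb').app U (x + y)
      rw [map_add, map_add, hx, hy]) (fun s g => ?_) z
  show (L D (i + k)).app U ((Pa D (mon I i b hb)).app U _) = (D.m k (i + k) _ b hb').app U ((L D k).app U _)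
  rw [Pa_toP, smul_smul, ← map_mul, L_gen D _ hU, L_gen D _ hU]
  have e : (mon I i b hb * s).1.coeff (i + k) = b * s.1.coeff k := by
    show (Polynomial.monomial i b * s.1).coeff (i + k) = _
    rw [add_comm i k]
    exact Polynomial.coeff_monomial_mul s.1 i k b
  rw [m_congr D (i + k).zero_le e, ← D.m_comp 0 k (i + k) k.zero_le (Nat.le_add_left k i) (s.1.coeff k) b (mem_sub k s) hb']
  rfl

theorem Pa_L_lt (i n : ℕ) (h : n < i) (b : A) (hb : b ∈ I ^ i) : Pa D (mon I i b hb) ≫ L D n = 0 := by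
  refine hom_ext_affine _ _ fun U hU z => ?_
  refine P_induction D hU (fun z => (Pa D (mon I i b hb) ≫ L D n).app U z = 0) (map_zero _)
    (fun x y hx hy => by
      show (Pa D (mon I i b hb) ≫ L D n).app U (x + y) = 0
      rw [map_add, hx, hy, add_zero]) (fun s g => ?_) z
  show (L D n).app U ((Pa D (mon I i b hb)).app U _) = 0
  rw [Pa_toP, smul_smul, ← map_mul, L_gen D _ hU]
  have e : (mon I i b hb * s).1.coeff n = 0 := by
    show (Polynomial.monomial i b * s.1).coeff n = _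
    rw [← Polynomial.C_mul_X_pow_eq_monomial, mul_assoc, Polynomial.coeff_C_mul, Polynomial.coeff_X_pow_mul',
      if_neg (by omega), mul_zero]
  rw [m_congr D n.zero_le e, m_zero D]
  rfl

theorem L_Pa_eq_zero {U : Y.Opens} (s : Rees I) (z : Γ(P D, U)) (hz : ∀ n, (L D n).app U z = 0) (n : ℕ) :
    (L D n).app U ((Pa D s).app U z) = 0 := by
  suffices h : ∀ (S : Finset ℕ) (t : ℕ → A) (ht : ∀ i, t i ∈ I ^ i),
      (L D n).app U ((Pa D (∑ i ∈ S, mon I i (t i) (ht i))).app U z) = 0 by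
    have := h s.1.support (fun i => s.1.coeff i) s.2
    rwa [← eq_sum_mon I s] at this
  intro S t ht
  classical
  induction S using Finset.induction with
  | empty =>
    rw [Finset.sum_empty]
    have h0 : Pa D (0 : Rees I) = 0 := by
      have := Pa_add D 0 0
      rw [add_zero] at this
      exact left_eq_add.1 this
    rw [h0]
    exact map_zero _
  | insert i S hi ih =>
    rw [Finset.sum_insert hi, Pa_add]
    show (L D n).app U ((Pa D _).app U z + (Pa D _).app U z) = 0
    rw [map_add, ih, add_zero]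
    by_cases h : n < i
    · exact congr($(congrArg (fun f => Scheme.Modules.Hom.app f U) (Pa_L_lt D i n h (t i) (ht i))) z)
    · obtain ⟨k, rfl⟩ : ∃ k, n = i + k := ⟨n - i, by omega⟩
      refine (congr($(congrArg (fun f => Scheme.Modules.Hom.app f U)
        (Pa_L D i k (t i) (ht i) (by rw [Nat.add_sub_cancel]; exact ht i))) z)).trans ?_
      show (D.m k (i + k) _ (t i) _).app U ((L D k).app U z) = 0
      rw [hz, map_zero]

section relations

variable [IsNoetherianRing A] [IsLocallyNoetherian Y]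

/-- A number of generators of `I^k`. -/
noncomputable def rk (k : ℕ) : ℕ :=
  (Submodule.fg_iff_exists_fin_generating_family.1 (IsNoetherian.noetherian (I ^ (k - 0)))).choose

/-- Generators of `I^k`. -/
noncomputable def genA (k : ℕ) (j : Fin (rk (I := I) k)) : A :=
  (Submodule.fg_iff_exists_fin_generating_family.1 (IsNoetherian.noetherian (I ^ (k - 0)))).choose_spec.choose j

theorem span_genA (k : ℕ) : Submodule.span A (Set.range (genA (I := I) k)) = I ^ (k - 0) :=
  (Submodule.fg_iff_exists_fin_generating_family.1 (IsNoetherian.noetherian (I ^ (k - 0)))).choose_spec.choose_spec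

theorem genA_mem (k : ℕ) (j : Fin (rk (I := I) k)) : genA k j ∈ I ^ (k - 0) :=
  (span_genA (I := I) k).le (Submodule.subset_span ⟨j, rfl⟩)

theorem genA_mem' (k : ℕ) (j : Fin (rk (I := I) k)) : genA k j ∈ I ^ k :=
  have h := genA_mem (I := I) k j
  by simpa using h

/-- Copies of `K 0` on the generators of degree `k`. -/
noncomputable abbrev Src (k : ℕ) : Y.Modules := ∐ fun _ : ULift.{u} (Fin (rk (I := I) k)) => D.K 0

/-- The presentation of `K k`. -/
noncomputable def Φ (k : ℕ) : Src D k ⟶ D.K k :=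
  Sigma.desc fun j => D.m 0 k k.zero_le (genA k j.down) (genA_mem k j.down)

/-- The monomials of degree `k`. -/
noncomputable def ψm (k : ℕ) : Src D k ⟶ P D :=
  Sigma.desc fun j => un D ≫ Pa D (mon I k (genA k j.down) (genA_mem' k j.down))

theorem un_Pa_L (k n : ℕ) (a : A) (ha : a ∈ I ^ k) (U : Y.Opens) (hU : IsAffineOpen U) (g : Γ(D.K 0, U)) :
    (L D n).app U ((un D ≫ Pa D (mon I k a ha)).app U g) =
      if h : k = n then (D.m 0 n n.zero_le a (by rw [Nat.sub_zero, ← h]; exact ha)).app U g else 0 := by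
  show (L D n).app U (toP D U (scal (gR I Y) (q I Y ⁻¹ᵁ U) (mon I k a ha) • OmegaSh.pullSect (q I Y) (D.K 0) U g)) = _
  rw [L_gen D n hU]
  by_cases h : k = n
  · subst h
    rw [dif_pos rfl, m_congr D k.zero_le (show (mon I k a ha).1.coeff k = a from Polynomial.coeff_monomial_same k a)]
  · rw [dif_neg h, m_congr D n.zero_le (show (mon I k a ha).1.coeff n = 0 from Polynomial.coeff_monomial_of_ne a (Ne.symm h)),
      m_zero D]
    rfl

theorem ψm_L (k : ℕ) : ψm D k ≫ L D k = Φ D k := by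
  refine Sigma.hom_ext _ _ fun j => ?_
  rw [ψm, Sigma.ι_desc_assoc, Φ, Sigma.ι_desc]
  refine hom_ext_affine _ _ fun U hU g => ?_
  exact (un_Pa_L D k k _ _ U hU g).trans (by rw [dif_pos rfl])

theorem ψm_L_ne {k n : ℕ} (h : k ≠ n) : ψm D k ≫ L D n = 0 := by
  refine Sigma.hom_ext _ _ fun j => ?_
  rw [ψm, Sigma.ι_desc_assoc, comp_zero]
  refine hom_ext_affine _ _ fun U hU g => ?_
  exact (un_Pa_L D k n _ _ U hU g).trans (by rw [dif_neg h]; rfl)

theorem qcoh_Src (k : ℕ) : (Src D k).IsQuasicoherent :=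
  H10Coh.isQuasicoherent_coproduct _ fun _ => D.qcoh 0

theorem epi_Φ (k : ℕ) : Epi (Φ D k) := by
  refine (Preadditive.epi_iff_cancel_zero _).2 fun N f hf => hom_ext_affine _ _ fun U hU y => ?_
  have hz : ∀ a, ∀ ha : a ∈ I ^ (k - 0), D.m 0 k k.zero_le a ha ≫ f = 0 := by
    intro a ha
    suffices h : ∃ h' : a ∈ I ^ (k - 0), D.m 0 k k.zero_le a h' ≫ f = 0 from h.choose_spec
    have hs : a ∈ Submodule.span A (Set.range (genA (I := I) k)) := (span_genA (I := I) k).symm ▸ ha
    clear ha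
    induction hs using Submodule.span_induction with
    | mem x hx =>
      obtain ⟨j, rfl⟩ := hx
      refine ⟨genA_mem k j, ?_⟩
      have := Sigma.ι (fun _ : ULift.{u} (Fin (rk (I := I) k)) => D.K 0) ⟨j⟩ ≫= hf
      rwa [Φ, Sigma.ι_desc_assoc, comp_zero] at this
    | zero => exact ⟨zero_mem _, by rw [m_zero D, zero_comp]⟩
    | add x y hx' hy' hx hy =>
      obtain ⟨h1, e1⟩ := hx
      obtain ⟨h2, e2⟩ := hy
      exact ⟨add_mem h1 h2, by rw [D.m_add _ _ _ x y h1 h2, Preadditive.add_comp, e1, e2, add_zero]⟩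
    | smul r x hx' hx =>
      obtain ⟨h1, e1⟩ := hx
      exact ⟨Ideal.mul_mem_left _ r h1, by rw [m_congr D k.zero_le (smul_eq_mul r x), D.m_smul _ _ _ r x h1, Category.assoc, e1, comp_zero]⟩
  refine AddSubgroup.closure_induction (p := fun y _ => f.app U y = (0 : D.K k ⟶ N).app U y) ?_
    ((map_zero _).trans (map_zero _).symm)
    (fun a b _ _ ha hb => by rw [map_add, map_add, ha, hb]) (fun a _ ha => by rw [map_neg, map_neg, ha])
    (D.gen k U hU y)
  rintro z ⟨a, ha, g, rfl⟩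
  exact congr($(congrArg (fun e => Scheme.Modules.Hom.app e U) (hz a ha)) g)

/-- The source of the relations. -/
noncomputable abbrev W : Y.Modules := ∐ fun k : ULift.{u} ℕ => kernel (Φ D k.down)

/-- The relations. -/
noncomputable def w : W D ⟶ P D := Sigma.desc fun k => kernel.ι (Φ D k.down) ≫ ψm D k.down

theorem w_L (n : ℕ) : w D ≫ L D n = 0 := by
  refine Sigma.hom_ext _ _ fun k => ?_
  rw [w, Sigma.ι_desc_assoc, comp_zero, Category.assoc]
  by_cases h : k.down = n
  · subst h; rw [ψm_L, kernel.condition]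
  · rw [ψm_L_ne D h, comp_zero]

/-- The submodule of the relations. -/
noncomputable abbrev N : Y.Modules := Abelian.image (w D)

theorem ι_L (n : ℕ) : Abelian.image.ι (w D) ≫ L D n = 0 := by
  rw [← cancel_epi (Abelian.factorThruImage (w D)), ← Category.assoc, Abelian.image.fac, w_L, comp_zero]

theorem qcoh_P : (P D).IsQuasicoherent := by
  haveI := isAffineHom_fst (sqR I Y)
  haveI : ((Scheme.Modules.pullback (q I Y)).obj (D.K 0)).IsQuasicoherent := H29Fitt.isQCoh_pullback _ _ (D.qcoh 0)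
  exact H10Coh.isQuasicoherent_pushforward_of_isAffineHom (q I Y) _

theorem qcoh_N : (N D).IsQuasicoherent := by
  haveI := qcoh_P D
  haveI : (W D).IsQuasicoherent := H10Coh.isQuasicoherent_coproduct _ fun k => by
    haveI := qcoh_Src D k.down
    haveI : (D.K k.down).IsQuasicoherent := D.qcoh k.down
    exact H10Coh.isQuasicoherent_kernel (Φ D k.down)
  haveI := H10Coh.isQuasicoherent_cokernel (w D)
  exact H10Coh.isQuasicoherent_kernel (cokernel.π (w D))

/-- The relations on the Rees scheme. -/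
noncomputable def α : (Scheme.Modules.pullback (q I Y)).obj (N D) ⟶ (Scheme.Modules.pullback (q I Y)).obj (D.K 0) :=
  ((Scheme.Modules.pullbackPushforwardAdjunction (q I Y)).homEquiv _ _).symm (Abelian.image.ι (w D))

theorem unit_α : (Scheme.Modules.pullbackPushforwardAdjunction (q I Y)).unit.app (N D) ≫
    (Coh.push (q I Y)).map (α D) = Abelian.image.ι (w D) :=
  ((Scheme.Modules.pullbackPushforwardAdjunction (q I Y)).homEquiv_unit _ _ (α D)).symm.trans
    (((Scheme.Modules.pullbackPushforwardAdjunction (q I Y)).homEquiv _ _).apply_symm_apply _)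

/-- The module on the Rees scheme. -/
noncomputable abbrev Kt : (XR I Y).Modules := cokernel (α D)

/-- Its direct image. -/
noncomputable abbrev Q : Y.Modules := (Coh.push (q I Y)).obj (Kt D)

/-- The projection. -/
noncomputable def proj : P D ⟶ Q D := (Coh.push (q I Y)).map (cokernel.π (α D))

theorem ι_proj : Abelian.image.ι (w D) ≫ proj D = 0 := by
  rw [← unit_α, Category.assoc, proj, ← Functor.map_comp, cokernel.condition, Functor.map_zero, comp_zero]

theorem surjective_proj {U : Y.Opens} (hU : IsAffineOpen U) : Function.Surjective ((proj D).app U) := by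
  haveI := isAffineHom_fst (sqR I Y)
  haveI : ((Scheme.Modules.pullback (q I Y)).obj (D.K 0)).IsQuasicoherent := H29Fitt.isQCoh_pullback _ _ (D.qcoh 0)
  haveI : ((Scheme.Modules.pullback (q I Y)).obj (N D)).IsQuasicoherent := H29Fitt.isQCoh_pullback _ _ (qcoh_N D)
  haveI := H10Coh.isQuasicoherent_cokernel (α D)
  exact H10Coh.surjective_app_of_epi (cokernel.π (α D)) (hU.preimage (q I Y))

theorem epi_proj : Epi (proj D) := by
  refine (Preadditive.epi_iff_cancel_zero _).2 fun M f hf => hom_ext_affine _ _ fun U hU y => ?_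
  obtain ⟨x, rfl⟩ := surjective_proj D hU y
  exact congr($(congrArg (fun e => Scheme.Modules.Hom.app e U) hf) x)

theorem L_eq_zero_of_proj (n : ℕ) {U : Y.Opens} (hU : IsAffineOpen U) (z : Γ(P D, U))
    (hz : (proj D).app U z = 0) : (L D n).app U z = 0 := by
  haveI := isAffineHom_fst (sqR I Y)
  haveI : ((Scheme.Modules.pullback (q I Y)).obj (D.K 0)).IsQuasicoherent := H29Fitt.isQCoh_pullback _ _ (D.qcoh 0)
  haveI : ((Scheme.Modules.pullback (q I Y)).obj (N D)).IsQuasicoherent := H29Fitt.isQCoh_pullback _ _ (qcoh_N D)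
  haveI := H10Coh.isQuasicoherent_cokernel (α D)
  haveI : (Abelian.image (α D)).IsQuasicoherent := H10Coh.isQuasicoherent_kernel (cokernel.π (α D))
  obtain ⟨a, ha⟩ := H24Formal.exists_kernel_section (cokernel.π (α D)) (q I Y ⁻¹ᵁ U) z hz
  obtain ⟨v, rfl⟩ := H10Coh.surjective_app_of_epi (Abelian.factorThruImage (α D)) (hU.preimage (q I Y)) a
  have hv : z = toP D U ((α D).app (q I Y ⁻¹ᵁ U) v) :=
    ha.symm.trans (congr($(congrArg (fun e => Scheme.Modules.Hom.app e (q I Y ⁻¹ᵁ U)) (Abelian.image.fac (α D))) v))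
  rw [hv]
  clear hv ha
  refine (exists_sections (sqR I Y) (N D) (qcoh_N D) hU).1
    (fun v => ∀ n, (L D n).app U (toP D U ((α D).app (q I Y ⁻¹ᵁ U) v)) = 0) (fun n => ?_) (fun x y hx hy n => ?_)
    (fun s ν n => ?_) v n
  · rw [map_zero]; exact map_zero _
  · rw [map_add]
    exact (map_add ((L D n).app U).hom (toP D U _) (toP D U _)).trans (by erw [hx n, hy n, add_zero])
  · rw [Scheme.Modules.Hom.app_smul, ← Pa_toP]
    refine L_Pa_eq_zero D s _ (fun k => ?_) n
    have : toP D U ((α D).app (q I Y ⁻¹ᵁ U) (OmegaSh.pullSect (q I Y) (N D) U ν)) = (Abelian.image.ι (w D)).app U ν :=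
      congr($(congrArg (fun e => Scheme.Modules.Hom.app e U) (unit_α D)) ν)
    rw [this]
    exact congr($(congrArg (fun e => Scheme.Modules.Hom.app e U) (ι_L D k)) ν)

/-- The projection to a piece. -/
noncomputable def π (n : ℕ) : Q D ⟶ D.K n :=
  haveI := epi_proj D
  Abelian.epiDesc (proj D) (L D n) (hom_ext_affine _ _ fun U hU z =>
    (L_eq_zero_of_proj D n hU _ (congr($(congrArg (fun e => Scheme.Modules.Hom.app e U) (kernel.condition (proj D))) z))).trans rfl)

theorem proj_π (n : ℕ) : proj D ≫ π D n = L D n :=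
  haveI := epi_proj D
  Abelian.comp_epiDesc _ _ _

theorem ker_Φ_proj (k : ℕ) : kernel.ι (Φ D k) ≫ ψm D k ≫ proj D = 0 := by
  have h : kernel.ι (Φ D k) ≫ ψm D k = Sigma.ι (fun k : ULift.{u} ℕ => kernel (Φ D k.down)) ⟨k⟩ ≫ w D :=
    (Sigma.ι_desc (f := fun k : ULift.{u} ℕ => kernel (Φ D k.down))
      (fun k => kernel.ι (Φ D k.down) ≫ ψm D k.down) ⟨k⟩).symm
  rw [← Category.assoc, h, ← Abelian.image.fac (w D)]
  simp only [Category.assoc, ι_proj, comp_zero]

/-- The inclusion of a piece. -/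
noncomputable def ι (k : ℕ) : D.K k ⟶ Q D :=
  haveI := epi_Φ D k
  Abelian.epiDesc (Φ D k) (ψm D k ≫ proj D) (ker_Φ_proj D k)

theorem Φ_ι (k : ℕ) : Φ D k ≫ ι D k = ψm D k ≫ proj D :=
  haveI := epi_Φ D k
  Abelian.comp_epiDesc _ _ _

theorem ι_π_self (n : ℕ) : ι D n ≫ π D n = 𝟙 _ := by
  haveI := epi_Φ D n
  rw [← cancel_epi (Φ D n), ← Category.assoc, Φ_ι, Category.assoc, proj_π, ψm_L, Category.comp_id]

theorem ι_π_ne {k n : ℕ} (h : k ≠ n) : ι D k ≫ π D n = 0 := by
  haveI := epi_Φ D k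
  rw [← cancel_epi (Φ D k), ← Category.assoc, Φ_ι, Category.assoc, proj_π, ψm_L_ne D h, comp_zero]

theorem φR_mul_mon (r : A) (k : ℕ) (a : A) (ha : a ∈ I ^ k) :
    φR I r * mon I k a ha = mon I k (r * a) (Ideal.mul_mem_left _ r ha) :=
  Subtype.ext (Polynomial.C_mul_monomial (a := r) (b := a) (n := k))

theorem un_Pa_smul (r : A) (s : Rees I) :
    Formal.smulMod A (D.K 0) r ≫ un D ≫ Pa D s = un D ≫ Pa D (φR I r * s) := by
  refine hom_ext_sections _ _ fun U g => ?_
  show scal (gR I Y) (q I Y ⁻¹ᵁ U) s •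
      OmegaSh.pullSect (q I Y) (D.K 0) U (scal (Y ↘ Spec (CommRingCat.of A)) U r • g) =
    scal (gR I Y) (q I Y ⁻¹ᵁ U) (φR I r * s) • OmegaSh.pullSect (q I Y) (D.K 0) U g
  rw [OmegaSh.pullSect_smul, app_scal (sqR I Y), smul_smul, ← map_mul, mul_comm (φR I r)]

/-- The inclusions are given by the monomials. -/
theorem m_ι (n : ℕ) (a : A) (ha : a ∈ I ^ (n - 0)) (ha' : a ∈ I ^ n) :
    D.m 0 n n.zero_le a ha ≫ ι D n = un D ≫ Pa D (mon I n a ha') ≫ proj D := by
  suffices h : ∃ (h1 : a ∈ I ^ (n - 0)) (h2 : a ∈ I ^ n),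
      D.m 0 n n.zero_le a h1 ≫ ι D n = un D ≫ Pa D (mon I n a h2) ≫ proj D from h.choose_spec.choose_spec
  have hs : a ∈ Submodule.span A (Set.range (genA (I := I) n)) := (span_genA (I := I) n).symm ▸ ha
  clear ha ha'
  induction hs using Submodule.span_induction with
  | mem x hx =>
    obtain ⟨j, rfl⟩ := hx
    refine ⟨genA_mem n j, genA_mem' n j, ?_⟩
    have := Sigma.ι (fun _ : ULift.{u} (Fin (rk (I := I) n)) => D.K 0) ⟨j⟩ ≫= Φ_ι D n
    rwa [Φ, Sigma.ι_desc_assoc, ψm, Sigma.ι_desc_assoc, Category.assoc] at this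
  | zero =>
    refine ⟨zero_mem _, zero_mem _, ?_⟩
    have h0 : Pa D (mon I n 0 (zero_mem _)) = 0 := by
      have e : mon I n 0 (zero_mem _) = (0 : Rees I) := Subtype.ext (Polynomial.monomial_zero_right n)
      have := Pa_add D 0 0
      rw [add_zero] at this
      rw [e]
      exact left_eq_add.1 this
    rw [m_zero D, h0, zero_comp, zero_comp, comp_zero]
  | add x y _ _ hx hy =>
    obtain ⟨h1, h2, e1⟩ := hx
    obtain ⟨h1', h2', e1'⟩ := hy
    refine ⟨add_mem h1 h1', add_mem h2 h2', ?_⟩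
    have em : mon I n (x + y) (add_mem h2 h2') = mon I n x h2 + mon I n y h2' :=
      Subtype.ext (map_add (Polynomial.monomial n) x y)
    rw [D.m_add _ _ _ x y h1 h1', em, Pa_add, Preadditive.add_comp, Preadditive.add_comp, Preadditive.comp_add, e1, e1']
  | smul r x _ hx =>
    obtain ⟨h1, h2, e1⟩ := hx
    refine ⟨Ideal.mul_mem_left _ r h1, Ideal.mul_mem_left _ r h2, ?_⟩
    rw [m_congr D n.zero_le (smul_eq_mul r x), D.m_smul _ _ _ r x h1, Category.assoc, e1, ← Category.assoc (un D),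
      ← Category.assoc (Formal.smulMod A (D.K 0) r), un_Pa_smul, φR_mul_mon, Category.assoc]
    rfl

/-- The action on the module. -/
noncomputable def act (s : Rees I) : Q D ⟶ Q D :=
  (Coh.push (q I Y)).map (Formal.smulModΓ (Kt D) (glob (gR I Y) s))

theorem proj_act (s : Rees I) : proj D ≫ act D s = Pa D s ≫ proj D := by
  refine hom_ext_sections _ _ fun U z => ?_
  exact (Scheme.Modules.Hom.app_smul (cokernel.π (α D)) (scal (gR I Y) (q I Y ⁻¹ᵁ U) s)
    (show Γ((Scheme.Modules.pullback (q I Y)).obj (D.K 0), q I Y ⁻¹ᵁ U) from z)).symm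

theorem ι_act (i k : ℕ) (a : A) (ha : a ∈ I ^ i) (ha' : a ∈ I ^ (i + k - k)) :
    ι D k ≫ act D (mon I i a ha) = D.m k (i + k) (Nat.le_add_left k i) a ha' ≫ ι D (i + k) := by
  haveI := epi_Φ D k
  rw [← cancel_epi (Φ D k), ← Category.assoc, Φ_ι, Category.assoc, proj_act]
  refine Sigma.hom_ext _ _ fun j => ?_
  have hmem : a * genA k j.down ∈ I ^ (i + k) := by
    rw [pow_add]; exact Ideal.mul_mem_mul ha (genA_mem' k j.down)
  have hmem' : a * genA k j.down ∈ I ^ (i + k - 0) := by rwa [Nat.sub_zero]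
  rw [ψm, Sigma.ι_desc_assoc, Φ, Sigma.ι_desc_assoc, ← Category.assoc (D.m 0 k _ _ _),
    D.m_comp 0 k (i + k) k.zero_le (Nat.le_add_left k i) _ a _ ha' hmem', m_ι D (i + k) _ hmem' hmem]
  have e : mon I (i + k) (a * genA k j.down) hmem = mon I i a ha * mon I k (genA k j.down) (genA_mem' k j.down) :=
    Subtype.ext (Polynomial.monomial_mul_monomial i k a _).symm
  rw [e, Pa_mul]
  simp only [Category.assoc]

theorem act_add (s t : Rees I) : act D (s + t) = act D s + act D t := by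
  refine hom_ext_sections _ _ fun U z => ?_
  show scal (gR I Y) (q I Y ⁻¹ᵁ U) (s + t) • (show Γ(Kt D, q I Y ⁻¹ᵁ U) from z) = _
  rw [map_add, add_smul]
  rfl

theorem act_mul (s t : Rees I) : act D (s * t) = act D t ≫ act D s := by
  refine hom_ext_sections _ _ fun U z => ?_
  show scal (gR I Y) (q I Y ⁻¹ᵁ U) (s * t) • (show Γ(Kt D, q I Y ⁻¹ᵁ U) from z) = _
  rw [map_mul, mul_smul]
  rfl

theorem act_one : act D 1 = 𝟙 _ := by
  refine hom_ext_sections _ _ fun U z => ?_
  show scal (gR I Y) (q I Y ⁻¹ᵁ U) 1 • (show Γ(Kt D, q I Y ⁻¹ᵁ U) from z) = _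
  rw [map_one, one_smul]
  rfl

/-- The Rees algebra acts on the cohomology. -/
@[implicit_reducible]
noncomputable def modQ (p : ℕ) : Module (Rees I) (Coh.HH Y (Q D) p) where
  smul s x := Hm (act D s) p x
  one_smul x := show Hm (act D 1) p x = x by rw [act_one, Hm_id]
  mul_smul s t x := show Hm (act D (s * t)) p x = Hm (act D s) p (Hm (act D t) p x) by rw [act_mul, Hm_comp]
  smul_zero s := (Hm (act D s) p).map_zero
  smul_add s := (Hm (act D s) p).map_add
  add_smul s t x := show Hm (act D (s + t)) p x = Hm (act D s) p x + Hm (act D t) p x by rw [act_add, Hm_add]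
  zero_smul x := show Hm (act D 0) p x = 0 by
    have h := act_add D 0 0
    rw [add_zero] at h
    rw [left_eq_add.1 h, Hm_zero]

theorem finite_Q [LocallyOfFiniteType (Y ↘ Spec (CommRingCat.of A))]
    (hM : ProperCoh (Y ↘ Spec (CommRingCat.of A)) (D.K 0)) (p : ℕ) :
    letI := modQ D p
    Module.Finite (Rees I) (Coh.HH Y (Q D) p) := by
  letI := modQ D p
  haveI : IsNoetherianRing (Rees I) := Algebra.FiniteType.isNoetherianRing A (Rees I)
  haveI : IsLocallyNoetherian (XR I Y) := LocallyOfFiniteType.isLocallyNoetherian (gR I Y)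
  haveI := isAffineHom_fst (sqR I Y)
  have hK : Coh.IsCoh (Kt D) :=
    H10Coh.isCoh_cokernel (α D) (H29Fitt.isQCoh_pullback _ _ (qcoh_N D))
      ⟨H29Fitt.isQCoh_pullback _ _ hM.coh.1, H29Fitt.isFT_pullback _ _ hM.coh.1 hM.coh.2⟩
  haveI : (Kt D).IsQuasicoherent := hK.1
  have hfin := finH_of_properCoh (gR I Y) (properCoh_baseChange (sqR I Y) hM hK (cokernel.π (α D))) p
  let τ : H10Coh.ActSh (Rees I) (H10Coh.sh (Q D)) :=
    { s := fun a => (CohTop.push (q I Y).base).map ((H10Coh.actM (glob (gR I Y)) (Kt D)).s a)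
      s_one := by rw [(H10Coh.actM (glob (gR I Y)) (Kt D)).s_one]; exact (CohTop.push (q I Y).base).map_id _
      s_mul := fun a b => by
        rw [(H10Coh.actM (glob (gR I Y)) (Kt D)).s_mul]; exact (CohTop.push (q I Y).base).map_comp _ _
      s_add := fun a b => by
        rw [(H10Coh.actM (glob (gR I Y)) (Kt D)).s_add]; exact (CohTop.push (q I Y).base).map_add }
  have hT : τ.Fin p ⊤ := ((H10Coh.MRes.inj (Kt D)).toF.fin_push (q I Y).base
    (H10Coh.epi_push_of_isAffineHom (q I Y) (Kt D)) (H10Coh.actM (glob (gR I Y)) (Kt D)) τ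
    (fun a => H10Coh.mResSmul (H10Coh.MRes.inj (Kt D)) (glob (gR I Y) a)) (fun _ => rfl) (fun _ => rfl) p ⊤).2
    hfin
  letI := τ.mod p ⊤
  haveI : Module.Finite (Rees I) (H10Coh.HnM (Q D) p ⊤) := hT
  let e : Coh.HH Y (Q D) p ≃ₗ[Rees I] H10Coh.HnM (Q D) p ⊤ :=
    { H10Coh.HHEquiv (Q D) p with
      map_smul' := fun a x => H10Coh.topEquiv_map _ p x }
  exact Module.Finite.equiv e.symm

/-- A stable family is generated in bounded degree. -/
theorem exists_gen [LocallyOfFiniteType (Y ↘ Spec (CommRingCat.of A))]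
    (hM : ProperCoh (Y ↘ Spec (CommRingCat.of A)) (D.K 0)) (p : ℕ)
    (S : ∀ k, AddSubgroup (Coh.HH Y (D.K k) p))
    (hS : ∀ k n (h : k ≤ n) a (ha : a ∈ I ^ (n - k)), ∀ y ∈ S k, Hm (D.m k n h a ha) p y ∈ S n) :
    ∃ c, ∀ n (h : c ≤ n), S n ≤ AddSubgroup.closure
      {z | ∃ a, ∃ ha : a ∈ I ^ (n - c), ∃ y ∈ S c, Hm (D.m c n h a ha) p y = z} := by
  letI := modQ D p
  haveI := finite_Q D hM p
  haveI : IsNoetherianRing (Rees I) := Algebra.FiniteType.isNoetherianRing A (Rees I)
  let G : Set (Coh.HH Y (Q D) p) := {z | ∃ k, ∃ y ∈ S k, Hm (ι D k) p y = z}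
  obtain ⟨s, hs, hsp⟩ := (Submodule.fg_span_iff_fg_span_finset_subset G).1 (IsNoetherian.noetherian (Submodule.span (Rees I) G))
  choose deg y hy hyeq using fun z : (s : Set (Coh.HH Y (Q D) p)) => hs z.2
  refine ⟨Finset.univ.sup deg, fun n hn x hx => ?_⟩
  set c := Finset.univ.sup deg with hc
  set Cl := AddSubgroup.closure {z | ∃ a, ∃ ha : a ∈ I ^ (n - c), ∃ y ∈ S c, Hm (D.m c n hn a ha) p y = z}
  have hterm : ∀ k (hk : k ≤ c) (v : Coh.HH Y (D.K k) p), v ∈ S k →
      ∀ a (ha : a ∈ I ^ (n - k)), Hm (D.m k n (hk.trans hn) a ha) p v ∈ Cl := by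
    intro k hk v hv a ha
    have hmem : a ∈ I ^ (n - c) * I ^ (c - k) := by
      rw [← pow_add, show n - c + (c - k) = n - k by omega]
      exact ha
    suffices h : ∃ h : a ∈ I ^ (n - k), Hm (D.m k n (hk.trans hn) a h) p v ∈ Cl from h.choose_spec
    refine Submodule.mul_induction_on hmem (fun b hb b' hb' => ?_) fun b b' ⟨hb, h₁⟩ ⟨hb', h₂⟩ => ?_
    · have hbb : b * b' ∈ I ^ (n - k) := by
        rw [show n - k = n - c + (c - k) by omega, pow_add]
        exact Ideal.mul_mem_mul hb hb'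
      refine ⟨hbb, AddSubgroup.subset_closure ⟨b, hb, Hm (D.m k c hk b' hb') p v, hS k c hk b' hb' v hv, ?_⟩⟩
      rw [← Hm_comp, D.m_comp k c n hk hn b' b hb' hb hbb]
    · exact ⟨add_mem hb hb', by rw [D.m_add k n (hk.trans hn) b b' hb hb', Hm_add]; exact add_mem h₁ h₂⟩
  have key : ∀ z ∈ Submodule.span (Rees I) (s : Set (Coh.HH Y (Q D) p)), ∀ t : Rees I,
      Hm (π D n) p (t • z) ∈ Cl := by
    intro z hz
    induction hz using Submodule.span_induction with
    | zero => intro t; rw [smul_zero, map_zero]; exact zero_mem _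
    | add a b _ _ ha hb => intro t; rw [smul_add, map_add]; exact add_mem (ha t) (hb t)
    | smul r z _ hz => intro t; rw [smul_smul]; exact hz _
    | mem z hz =>
      intro t
      rw [eq_sum_mon I t, Finset.sum_smul, map_sum]
      refine sum_mem fun i _ => ?_
      show Hm (π D n) p (Hm (act D _) p z) ∈ Cl
      have hz' := hyeq ⟨z, hz⟩
      have hk : deg ⟨z, hz⟩ ≤ c := Finset.le_sup (Finset.mem_univ _)
      have ha' : t.1.coeff i ∈ I ^ (i + deg ⟨z, hz⟩ - deg ⟨z, hz⟩) := by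
        rw [Nat.add_sub_cancel]; exact t.2 i
      rw [← show Hm (ι D (deg ⟨z, hz⟩)) p (y ⟨z, hz⟩) = z from hz', ← Hm_comp, ← Hm_comp,
        ← Category.assoc, ι_act D i _ _ (t.2 i) ha', Category.assoc]
      by_cases he : i + deg ⟨z, hz⟩ = n
      · subst he
        rw [ι_π_self, Category.comp_id]
        exact hterm _ hk _ (hy ⟨z, hz⟩) _ ha'
      · rw [ι_π_ne D he, comp_zero, Hm_zero]
        exact zero_mem _
  have hfin : Hm (ι D n) p x ∈ Submodule.span (Rees I) (s : Set (Coh.HH Y (Q D) p)) := by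
    rw [← hsp]
    exact Submodule.subset_span ⟨n, x, hx, rfl⟩
  have h := key _ hfin 1
  rwa [one_smul, ← Hm_comp, ι_π_self, Hm_id] at h

/-- `exists_gen` for explicitly given pieces. -/
theorem exists_gen_of [LocallyOfFiniteType (Y ↘ Spec (CommRingCat.of A))]
    (K : ℕ → Y.Modules) (qcoh : ∀ k, Coh.IsQCoh (K k)) (m : ∀ k n, k ≤ n → ∀ a ∈ I ^ (n - k), K k ⟶ K n)
    (m_add : ∀ k n h a b (ha : a ∈ I ^ (n - k)) (hb : b ∈ I ^ (n - k)),
      m k n h (a + b) (add_mem ha hb) = m k n h a ha + m k n h b hb)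
    (m_smul : ∀ k n h a b (hb : b ∈ I ^ (n - k)),
      m k n h (a * b) (Ideal.mul_mem_left _ a hb) = Formal.smulMod A (K k) a ≫ m k n h b hb)
    (m_comp : ∀ k c n (h : k ≤ c) (h' : c ≤ n) a b (ha : a ∈ I ^ (c - k)) (hb : b ∈ I ^ (n - c))
      (hab : b * a ∈ I ^ (n - k)), m k c h a ha ≫ m c n h' b hb = m k n (h.trans h') (b * a) hab)
    (gen : ∀ k (U : Y.Opens), IsAffineOpen U → ∀ y : Γ(K k, U), y ∈ AddSubgroup.closure
      {z | ∃ a, ∃ ha : a ∈ I ^ (k - 0), ∃ g, (m 0 k k.zero_le a ha).app U g = z})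
    (hM : ProperCoh (Y ↘ Spec (CommRingCat.of A)) (K 0)) (p : ℕ)
    (S : ∀ k, AddSubgroup (Coh.HH Y (K k) p))
    (hS : ∀ k n (h : k ≤ n) a (ha : a ∈ I ^ (n - k)), ∀ y ∈ S k, Hm (m k n h a ha) p y ∈ S n) :
    ∃ c, ∀ n (h : c ≤ n), S n ≤ AddSubgroup.closure
      {z | ∃ a, ∃ ha : a ∈ I ^ (n - c), ∃ y ∈ S c, Hm (m c n h a ha) p y = z} :=
  exists_gen ({ K := K, qcoh := qcoh, m := m, m_add := m_add, m_smul := m_smul, m_comp := m_comp, gen := gen } :
    Data (Y := Y) I) hM p S hS

end relations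

end Groth.Agent.H24FMod.Gr
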