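import Groth.Agent.H24FMod.GrML
import Groth.Agent.H10Coh.ToSheaf
import Groth.Agent.H10Coh.ExtMap
import Groth.Prelude.Def_ModSite

/-!
# Boundary maps of towers of sheaves of modules on a site

The maps on cohomology of morphisms of sheaves of modules on an arbitrary ringed site, and the Mittag-Leffler bound
for the cohomology of a tower whose kernels have stable families generated in bounded degree.
-/

set_option autoImplicit false
set_option linter.style.haveILetI false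
set_option linter.unusedSectionVars false

universe u v

open CategoryTheory CategoryTheory.Limits Opposite CategoryTheory.Abelian

namespace Groth.Agent.H24FMod.GrTower

/-!
The instances are variables and the groups are written out as `Sheaf.H`: abstracted instance proofs inside
definitions make the kernel compare `Ext` types structurally.
-/

variable {C : Type u} [SmallCategory C] {Jt : GrothendieckTopology C} {O : Sheaf Jt CommRingCat.{u}}
  [HasSheafify Jt AddCommGrpCat.{u}] [HasExt.{u} (Sheaf Jt AddCommGrpCat.{u})]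

set_option quotPrecheck false in
local notation "H[" F ", " p "]" => Sheaf.H ((SheafOfModules.toSheaf (ModSite.ringSh _)).obj F) p

theorem shortExact_sheaf {S : ShortComplex (ModSite.Mod O)} (hS : S.ShortExact) :
    (S.map (SheafOfModules.toSheaf.{u} (ModSite.ringSh O))).ShortExact := by
  have := H10Coh.preservesFiniteColimits_toSheaf (ModSite.ringSh O)
  exact hS.map_of_exact _

/-- The map on cohomology. -/
noncomputable def hm {F G : ModSite.Mod O} (φ : F ⟶ G) (p : ℕ) : H[F, p] →+ H[G, p] :=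
  Sheaf.H.map ((SheafOfModules.toSheaf _).map φ) p

theorem hm_comp {F G H : ModSite.Mod O} (φ : F ⟶ G) (ψ : G ⟶ H) (p : ℕ) (x : H[F, p]) :
    hm (φ ≫ ψ) p x = hm ψ p (hm φ p x) :=
  (congrArg (fun q => Sheaf.H.map q p x) ((SheafOfModules.toSheaf _).map_comp φ ψ)).trans (Sheaf.H.map_comp_apply _ _ _)

theorem hm_id (F : ModSite.Mod O) (p : ℕ) (x : H[F, p]) : hm (𝟙 F) p x = x :=
  (congrArg (fun q => Sheaf.H.map q p x) ((SheafOfModules.toSheaf _).map_id F)).trans (Sheaf.H.map_id_apply _)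

theorem hm_zero {F G : ModSite.Mod O} (p : ℕ) (x : H[F, p]) : hm (0 : F ⟶ G) p x = 0 := by
  have h : ∀ φ ψ : F ⟶ G, hm (φ + ψ) p x = hm φ p x + hm ψ p x := fun φ ψ =>
    (congrArg (fun q => Sheaf.H.map q p x) ((SheafOfModules.toSheaf _).map_add)).trans (Sheaf.H.map_add_apply _ _ _)
  have h' := h 0 0
  rw [add_zero] at h'
  exact left_eq_add.1 h'

/-- The isomorphism on cohomology. -/
noncomputable def hmEquiv {F G : ModSite.Mod O} (φ : F ⟶ G) (hφ : IsIso φ) (p : ℕ) :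
    H[F, p] ≃+ H[G, p] :=
  AddEquiv.ofBijective (hm φ p) (Function.bijective_iff_has_inverse.2 ⟨hm (inv φ) p,
    fun x => by rw [← hm_comp, IsIso.hom_inv_id, hm_id], fun x => by rw [← hm_comp, IsIso.inv_hom_id, hm_id]⟩)

theorem hmEquiv_apply {F G : ModSite.Mod O} (φ : F ⟶ G) (hφ : IsIso φ) (p : ℕ) (x : H[F, p]) :
    hmEquiv φ hφ p x = hm φ p x := rfl

/-- The boundary map. -/
noncomputable def bdry {F G K : ModSite.Mod O} {f : F ⟶ G} {g : G ⟶ K} {z : f ≫ g = 0}
    (hS : (ShortComplex.mk f g z).ShortExact) (p : ℕ) : H[K, p] →+ H[F, (p + 1)] :=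
  (shortExact_sheaf hS).extClass.postcomp _ rfl

theorem exists_of_bdry_eq_zero {F G K : ModSite.Mod O} {f : F ⟶ G} {g : G ⟶ K} {z : f ≫ g = 0}
    (hS : (ShortComplex.mk f g z).ShortExact) (p : ℕ)
    (x : H[K, p]) (hx : bdry hS p x = 0) : ∃ y : H[G, p], hm g p y = x :=
  Ext.covariant_sequence_exact₃ _ (shortExact_sheaf hS) x rfl hx

theorem bdry_natural {F G K F' G' K' : ModSite.Mod O} {f : F ⟶ G} {g : G ⟶ K} {z : f ≫ g = 0}
    {f' : F' ⟶ G'} {g' : G' ⟶ K'} {z' : f' ≫ g' = 0}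
    (hS : (ShortComplex.mk f g z).ShortExact) (hT : (ShortComplex.mk f' g' z').ShortExact)
    (φ₁ : F ⟶ F') (φ₂ : G ⟶ G') (φ₃ : K ⟶ K') (c₁ : φ₁ ≫ f' = f ≫ φ₂) (c₂ : φ₂ ≫ g' = g ≫ φ₃)
    (p : ℕ) (x : H[K, p]) : bdry hT p (hm φ₃ p x) = hm φ₁ (p + 1) (bdry hS p x) := by
  let φ : ShortComplex.mk f g z ⟶ ShortComplex.mk f' g' z' := { τ₁ := φ₁, τ₂ := φ₂, τ₃ := φ₃, comm₁₂ := c₁, comm₂₃ := c₂ }
  have e := ShortComplex.ShortExact.extClass_naturality (shortExact_sheaf hS) (shortExact_sheaf hT)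
    ((SheafOfModules.toSheaf.{u} (ModSite.ringSh O)).mapShortComplex.map φ)
  refine (Ext.comp_assoc_of_second_deg_zero x _ (shortExact_sheaf hT).extClass rfl).trans ?_
  refine Eq.trans ?_ (Ext.comp_assoc_of_third_deg_zero x (shortExact_sheaf hS).extClass _ rfl).symm
  exact congrArg (fun w => Ext.comp x w rfl) e.symm

variable (X : ℕ → ModSite.Mod O) (t : ∀ k, X (k + 1) ⟶ X k)

/-- The system of the cohomology of a tower. -/
noncomputable abbrev sys (p : ℕ) : ℕᵒᵖ ⥤ AddCommGrpCat.{u} :=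
  Functor.ofOpSequence (X := fun k => AddCommGrpCat.of (H[X k, p]))
    (fun k => AddCommGrpCat.ofHom (hm (t k) p))

theorem trHom_sys (p n : ℕ) (x : H[(X (n + 1)), p]) :
    H16Derived.ML.trHom (sys X t p) (Nat.le_succ n) x = hm (t n) p x :=
  congr($(Functor.ofOpSequence_map_homOfLE_succ (X := fun k => AddCommGrpCat.of (H[X k, p]))
    (fun k => AddCommGrpCat.ofHom (hm (t k) p)) n) x)

variable {A : Type u} [CommRing A] (J : Ideal A) (P : ℕ → ModSite.Mod O)
  (ι : ∀ k, P (k + 1) ⟶ X (k + 1)) (z : ∀ k, ι k ≫ t k = 0)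
  (hS : ∀ k, (ShortComplex.mk (ι k) (t k) (z k)).ShortExact)
  (M : ∀ k n, k ≤ n → ∀ a ∈ J ^ (n - k), X k ⟶ X n) (μ : ∀ k n, k ≤ n → ∀ a ∈ J ^ (n - k), P k ⟶ P n)

include hS in
theorem exists_stable
    (hι : ∀ k n (h : k ≤ n) a (ha' : a ∈ J ^ (n + 1 - (k + 1))),
      μ (k + 1) (n + 1) (Nat.succ_le_succ h) a ha' ≫ ι n = ι k ≫ M (k + 1) (n + 1) (Nat.succ_le_succ h) a ha')
    (hM : ∀ k n (h : k ≤ n) a (ha : a ∈ J ^ (n - k)) (ha' : a ∈ J ^ (n + 1 - (k + 1))),
      M (k + 1) (n + 1) (Nat.succ_le_succ h) a ha' ≫ t n = t k ≫ M k n h a ha)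
    (hM0 : ∀ n a (ha : a ∈ J ^ (n + 1 - 0)), M 0 (n + 1) (Nat.zero_le _) a ha ≫ t n = 0)
    (p : ℕ) {T : ℕ → Type v} [∀ k, AddCommGroup (T k)] (m : ∀ k n, k ≤ n → ∀ a ∈ J ^ (n - k), T k →+ T n)
    (E : ∀ k, H[P k, (p + 1)] ≃+ T k)
    (hE : ∀ k n h a ha y, E n (hm (μ k n h a ha) (p + 1) y) = m k n h a ha (E k y))
    (hgen : ∀ S : ∀ k, AddSubgroup (T k), (∀ k n (h : k ≤ n) a (ha : a ∈ J ^ (n - k)), ∀ y ∈ S k, m k n h a ha y ∈ S n) →
      ∃ c, ∀ n (h : c ≤ n), S n ≤ AddSubgroup.closure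
        {w | ∃ a, ∃ ha : a ∈ J ^ (n - c), ∃ y ∈ S c, m c n h a ha y = w}) :
    ∃ c, GrML.Stable (sys X t p) c := by
  refine GrML.exists_stable J (sys X t p) (fun k n h a ha => hm (M k n h a ha) p) m
    (fun k => (E (k + 1)).toAddMonoidHom.comp (bdry (hS k) p)) ?_ ?_ ?_ ?_ hgen
  · intro n a ha x
    refine (trHom_sys X t p n _).trans ((hm_comp _ _ p x).symm.trans ?_)
    exact (congrArg (fun q => hm q p x) (hM0 n a ha)).trans (hm_zero p x)
  · intro k n h a ha ha' x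
    refine (trHom_sys X t p n _).trans ((hm_comp _ _ p x).symm.trans ?_)
    refine (congrArg (fun q => hm q p x) (hM k n h a ha ha')).trans ((hm_comp _ _ p x).trans ?_)
    exact congrArg (hm (M k n h a ha) p) (trHom_sys X t p k x).symm
  · intro n x hx
    obtain ⟨y, hy⟩ := exists_of_bdry_eq_zero (hS n) p x ((E (n + 1)).injective (hx.trans (map_zero _).symm))
    exact ⟨y, (trHom_sys X t p n y).trans hy⟩
  · intro k n h a ha ha' x
    refine Eq.trans (congrArg (E (n + 1)) ?_) (hE (k + 1) (n + 1) (Nat.succ_le_succ h) a ha' (bdry (hS k) p x))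
    exact bdry_natural (hS k) (hS n) (μ (k + 1) (n + 1) (Nat.succ_le_succ h) a ha')
      (M (k + 1) (n + 1) (Nat.succ_le_succ h) a ha') (M k n h a ha) (hι k n h a ha') (hM k n h a ha ha') p x

end Groth.Agent.H24FMod.GrTower
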