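import Groth.Agent.H24FMod.GrLevels
import Groth.Agent.H24FMod.GrFin
import Groth.Agent.H24FMod.GrTower
import Groth.Agent.H24FMod.PushHC
import Groth.Agent.H24GE.FlatIso

/-!
# Mittag-Leffler for the cohomology of the levels of a coherent module on a proper formal scheme
-/

set_option autoImplicit false
set_option linter.style.haveILetI false
set_option linter.unusedSectionVars false

universe u

attribute [-instance] CategoryTheory.catToReflQuiver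

open AlgebraicGeometry CategoryTheory CategoryTheory.Limits TopologicalSpace Opposite CategoryTheory.Abelian

namespace Groth.Agent.H24FMod.GrF

open H15Site.ModTensor H15Site.ModRel H15Site.LocGen H15Site.LocPres LeadFF

variable {A : Type u} [CommRing A] (J : Ideal A) {𝔛 : FSch.Sys.{u}} (f : 𝔛 ⟶ FSch.spf A J)
  (hL : 𝔛.IsLocNoethFormal) (𝔉 : FSch.ModF 𝔛 hL.1)

theorem pull_map_add {𝔊 ℌ : FSch.ModF 𝔛 hL.1} (φ ψ : 𝔊 ⟶ ℌ) :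
    (FSch.levelMor 𝔛 hL.1 0).pull.map (φ + ψ) =
      (FSch.levelMor 𝔛 hL.1 0).pull.map φ + (FSch.levelMor 𝔛 hL.1 0).pull.map ψ := by
  haveI : (FSch.levelMor 𝔛 hL.1 0).push.Additive :=
    ⟨fun {_ _ _ _} => hom_ext_sec fun _ _ => rfl⟩
  haveI := (FSch.levelMor 𝔛 hL.1 0).adj.left_adjoint_additive
  exact Functor.map_add _

/-- The inverse image of a scalar multiplication is a scalar multiplication. -/
theorem pull_map_sm [(𝔛.X 0).Over (Spec (CommRingCat.of A))]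
    (he : 𝔛.X 0 ↘ Spec (CommRingCat.of A) = toA J f 0) (a : A) (𝔊 : FSch.ModF 𝔛 hL.1) :
    (FSch.levelMor 𝔛 hL.1 0).pull.map (sm J f hL a 𝔊) =
      Formal.smulMod A ((FSch.levelMor 𝔛 hL.1 0).pull.obj 𝔊) a := by
  apply ((FSch.levelMor 𝔛 hL.1 0).adj.homEquiv _ _).injective
  refine (((FSch.levelMor 𝔛 hL.1 0).adj.homEquiv_unit _ _ _).trans ?_).trans
    ((FSch.levelMor 𝔛 hL.1 0).adj.homEquiv_unit _ _ _).symm
  refine ((FSch.levelMor 𝔛 hL.1 0).adj.unit.naturality (sm J f hL a 𝔊)).symm.trans (hom_ext_sec fun U x => ?_)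
  show unitSec (FSch.levelMor 𝔛 hL.1 0) 𝔊 (σU J f hL U a • x) =
    (Formal.smulMod A ((FSch.levelMor 𝔛 hL.1 0).pull.obj 𝔊) a).app (𝔛.lvU hL.1 0 U)
      (unitSec (FSch.levelMor 𝔛 hL.1 0) 𝔊 x)
  refine (((FSch.levelMor 𝔛 hL.1 0).adj.unit.app 𝔊).val.app (op U)).hom.map_smul _ x |>.trans ?_
  let N : (𝔛.X 0).Modules := (FSch.levelMor 𝔛 hL.1 0).pull.obj 𝔊
  let y : Γ(N, 𝔛.lvU hL.1 0 U) := unitSec (FSch.levelMor 𝔛 hL.1 0) 𝔊 x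
  show oP hL.1 0 U (σU J f hL U a) • y = scal (𝔛.X 0 ↘ Spec (CommRingCat.of A)) (𝔛.lvU hL.1 0 U) a • y
  rw [oP_σU, he]

variable [IsNoetherianRing A] (hf : FSch.IsAdicHom f) (h𝔉 : FSch.IsCohF 𝔛 hL.1 𝔉)

/-- The pieces on the smallest level. -/
noncomputable abbrev K0 (k : ℕ) : (𝔛.X 0).Modules := (FSch.levelMor 𝔛 hL.1 0).pull.obj (K hL 𝔉 k)

/-- The multiplications on the smallest level. -/
noncomputable abbrev m0 (k n : ℕ) (h : k ≤ n) (a : A) (ha : a ∈ J ^ (n - k)) : K0 hL 𝔉 k ⟶ K0 hL 𝔉 n :=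
  (FSch.levelMor 𝔛 hL.1 0).pull.map (mK J f hL 𝔉 hf h𝔉 k n h a ha)

include hf h𝔉 in
theorem gen_K0 (k : ℕ) (V : (𝔛.X 0).Opens) (hV : IsAffineOpen V) (y : Γ(K0 hL 𝔉 k, V)) :
    y ∈ AddSubgroup.closure {z | ∃ a, ∃ ha : a ∈ J ^ (k - 0), ∃ g, (m0 J f hL 𝔉 hf h𝔉 0 k k.zero_le a ha).app V g = z} := by
  haveI := 𝔛.toX_isClosedImmersion hL.1 0
  obtain ⟨U, hU, rfl⟩ : ∃ U, IsAffineOpen U ∧ 𝔛.lvU hL.1 0 U = V :=
    ⟨pv 0 V, hV.preimage (𝔛.toX 0), lvU_pv (hL := hL) 0 V⟩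
  obtain ⟨z, rfl⟩ := surjective_unitSec hL (isCohF_K hL 𝔉 h𝔉 k) hU 0 y
  induction gen_K J f hL 𝔉 hf h𝔉 k hU z using AddSubgroup.closure_induction with
  | mem z hz =>
    obtain ⟨a, ha, g, rfl⟩ := hz
    refine AddSubgroup.subset_closure ⟨a, ha, unitSec (FSch.levelMor 𝔛 hL.1 0) (K hL 𝔉 0) g, ?_⟩
    exact unitSec_natural hL (mK J f hL 𝔉 hf h𝔉 0 k k.zero_le a ha) 0 U g
  | zero => rw [show unitSec (FSch.levelMor 𝔛 hL.1 0) (K hL 𝔉 k) (U := U) 0 = 0 from map_zero _]; exact zero_mem _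
  | add x x' _ _ hx hx' =>
    rw [show unitSec (FSch.levelMor 𝔛 hL.1 0) (K hL 𝔉 k) (x + x') =
      unitSec (FSch.levelMor 𝔛 hL.1 0) (K hL 𝔉 k) x + unitSec (FSch.levelMor 𝔛 hL.1 0) (K hL 𝔉 k) x' from map_add _ _ _]
    exact add_mem hx hx'
  | neg x _ hx =>
    rw [show unitSec (FSch.levelMor 𝔛 hL.1 0) (K hL 𝔉 k) (-x) =
      -unitSec (FSch.levelMor 𝔛 hL.1 0) (K hL 𝔉 k) x from map_neg _ _]
    exact neg_mem hx

/-- The cohomology of a module on the smallest level. -/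
theorem exists_level0_H (h : 𝔛.IsFormal) (p : ℕ) :
    ∃ Φ : ∀ M : (𝔛.X 0).Modules, Coh.HH (𝔛.X 0) M p ≃+
        Sheaf.H ((SheafOfModules.toSheaf (ModSite.ringSh (𝔛.Osh h))).obj ((FSch.levelMor 𝔛 h 0).push.obj M)) p,
      ∀ (M N : (𝔛.X 0).Modules) (φ : M ⟶ N) (x : Coh.HH (𝔛.X 0) M p),
        GrTower.hm ((FSch.levelMor 𝔛 h 0).push.map φ) p (Φ M x) = Φ N (Hm φ p x) :=
  PushHC.exists_pushMod (OX := 𝔛.Osh h) (OZ := (𝔛.X 0).sheaf) (𝔛.gInv h 0) (𝔛.OshProj h 0)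
    (TopCat.homeoOfIso (asIso (𝔛.gInv h 0))).isClosedEmbedding p

variable (h : 𝔛.IsFormal) (P : ℕ → FSch.ModF 𝔛 h) (P₀ : ℕ → (𝔛.X 0).Modules)
  (μ : ∀ k n, k ≤ n → ∀ a ∈ J ^ (n - k), P k ⟶ P n) (μ₀ : ∀ k n, k ≤ n → ∀ a ∈ J ^ (n - k), P₀ k ⟶ P₀ n)
  (η : ∀ k, P k ⟶ (FSch.levelMor 𝔛 h 0).push.obj (P₀ k)) (hη : ∀ k, IsIso (η k))

include hη in
theorem exists_transfer (hμ : ∀ k n hk a ha, μ k n hk a ha ≫ η n = η k ≫ (FSch.levelMor 𝔛 h 0).push.map (μ₀ k n hk a ha))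
    (p : ℕ) :
    ∃ E : ∀ k, Sheaf.H ((SheafOfModules.toSheaf (ModSite.ringSh (𝔛.Osh h))).obj (P k)) p ≃+ Coh.HH (𝔛.X 0) (P₀ k) p,
      ∀ k n hk a ha y, E n (GrTower.hm (μ k n hk a ha) p y) = Hm (μ₀ k n hk a ha) p (E k y) := by
  obtain ⟨Φ, hΦ⟩ := exists_level0_H h p
  refine ⟨fun k => (GrTower.hmEquiv (η k) (hη k) p).trans (Φ (P₀ k)).symm, fun k n hk a ha y => ?_⟩
  apply (Φ (P₀ n)).injective
  refine ((Φ (P₀ n)).apply_symm_apply _).trans ?_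
  refine (GrTower.hm_comp _ _ p y).symm.trans ((congrArg (fun q => GrTower.hm q p y) (hμ k n hk a ha)).trans ?_)
  refine (GrTower.hm_comp _ _ p y).trans ?_
  refine (congrArg (GrTower.hm ((FSch.levelMor 𝔛 h 0).push.map (μ₀ k n hk a ha)) p)
    ((Φ (P₀ k)).apply_symm_apply (GrTower.hm (η k) p y)).symm).trans ?_
  exact hΦ _ _ (μ₀ k n hk a ha) _

include h𝔉 in
theorem shortExact_L (k : ℕ) :
    (ShortComplex.mk (κ hL 𝔉 (k + 1)) (L hL 𝔉 k) (κ_L hL 𝔉 k)).ShortExact := by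
  haveI := epi_u hL 𝔉 h𝔉 k
  haveI : Epi (L hL 𝔉 k) := epi_of_epi_fac (u_L hL 𝔉 k)
  haveI : Mono (κ hL 𝔉 (k + 1)) := mono_κ hL 𝔉 (k + 1)
  exact { exact := ShortComplex.exact_kernel (L hL 𝔉 k) }

/-- The unit at a piece. -/
noncomputable abbrev η0 (k : ℕ) : K hL 𝔉 k ⟶ (FSch.levelMor 𝔛 hL.1 0).push.obj (K0 hL 𝔉 k) :=
  (FSch.levelMor 𝔛 hL.1 0).adj.unit.app (K hL 𝔉 k)

theorem mK_η0 (k n : ℕ) (h : k ≤ n) (a : A) (ha : a ∈ J ^ (n - k)) :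
    mK J f hL 𝔉 hf h𝔉 k n h a ha ≫ η0 hL 𝔉 n =
      η0 hL 𝔉 k ≫ (FSch.levelMor 𝔛 hL.1 0).push.map (m0 J f hL 𝔉 hf h𝔉 k n h a ha) :=
  (FSch.levelMor 𝔛 hL.1 0).adj.unit.naturality (mK J f hL 𝔉 hf h𝔉 k n h a ha)

include hf h𝔉 in
/-- The images in the cohomology of the levels are stationary, with a uniform bound. -/
theorem exists_stable_sysH (hp : IsProper ((f : FSch.Hom 𝔛 (FSch.spf A J)).app 0)) (p : ℕ) :
    ∃ c, GrML.Stable (GrTower.sys (G hL 𝔉) (L hL 𝔉) p) c := by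
  letI : (𝔛.X 0).Over (Spec (CommRingCat.of A)) := ⟨toA J f 0⟩
  haveI := hL.2.2
  haveI : IsProper (toQ J f 0) := hp
  haveI := H24GE.isClosedImmersion_specQuot J 0
  haveI : IsProper (toA J f 0) := inferInstanceAs (IsProper (toQ J f 0 ≫ CohB1.specQuot J 0))
  haveI : LocallyOfFiniteType (𝔛.X 0 ↘ Spec (CommRingCat.of A)) := inferInstanceAs (LocallyOfFiniteType (toA J f 0))
  obtain ⟨E, hE⟩ := exists_transfer J hL.1 (K hL 𝔉) (K0 hL 𝔉) (mK J f hL 𝔉 hf h𝔉) (m0 J f hL 𝔉 hf h𝔉) (η0 hL 𝔉)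
    (isIso_unit_K J f hL 𝔉 hf h𝔉) (mK_η0 J f hL 𝔉 hf h𝔉) (p + 1)
  exact GrTower.exists_stable (G hL 𝔉) (L hL 𝔉) J (K hL 𝔉) (fun k => κ hL 𝔉 (k + 1)) (κ_L hL 𝔉)
    (shortExact_L hL 𝔉 h𝔉) (M J f hL 𝔉 hf h𝔉) (mK J f hL 𝔉 hf h𝔉)
    (fun k n h a ha' => mK_κ J f hL 𝔉 hf h𝔉 (k + 1) (n + 1) (Nat.succ_le_succ h) a ha')
    (fun k n h a ha ha' => M_L J f hL 𝔉 hf h𝔉 k n h a ha ha') (M_zero_L J f hL 𝔉 hf h𝔉) p
    (fun k n h a ha => Hm (m0 J f hL 𝔉 hf h𝔉 k n h a ha) (p + 1)) E hE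
    (Gr.exists_gen_of (K0 hL 𝔉) (fun k => (isCoh_pullSys hL (isCohF_K hL 𝔉 h𝔉 k) 0).1) (m0 J f hL 𝔉 hf h𝔉)
      (fun k n h a b ha hb => (congrArg (fun q : K hL 𝔉 k ⟶ K hL 𝔉 n => (FSch.levelMor 𝔛 hL.1 0).pull.map q)
        (mK_add J f hL 𝔉 hf h𝔉 k n h a b ha hb)).trans (pull_map_add hL _ _))
      (fun k n h a b hb => ((congrArg (fun q : K hL 𝔉 k ⟶ K hL 𝔉 n => (FSch.levelMor 𝔛 hL.1 0).pull.map q)
        (mK_smul J f hL 𝔉 hf h𝔉 k n h a b hb)).trans ((FSch.levelMor 𝔛 hL.1 0).pull.map_comp _ _)).trans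
        (congrArg (· ≫ m0 J f hL 𝔉 hf h𝔉 k n h b hb) (pull_map_sm J f hL rfl a (K hL 𝔉 k))))
      (fun k c n h h' a b ha hb hab => ((FSch.levelMor 𝔛 hL.1 0).pull.map_comp _ _).symm.trans
        (congrArg (fun q : K hL 𝔉 k ⟶ K hL 𝔉 n => (FSch.levelMor 𝔛 hL.1 0).pull.map q)
          (mK_comp J f hL 𝔉 hf h𝔉 k c n h h' a b ha hb hab)))
      (gen_K0 J f hL 𝔉 hf h𝔉)
      (properCoh_of_isProper (toA J f 0) (isCoh_pullSys hL (isCohF_K hL 𝔉 h𝔉 0) 0)) (p + 1))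

end Groth.Agent.H24FMod.GrF
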