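import Groth.Agent.H24FMod.GrBase
import Groth.Agent.H24FMod.Unit
import Groth.Prelude.Def_FSch5
import Groth.Agent.H15Site.LocPresOps

/-!
# The graded module of a coherent module on an adic formal scheme

For an adic morphism `f : 𝔛 ⟶ Spf A` and a coherent `𝔉`: the levels `G k = 𝔉 / J^(k+1) 𝔉` with the
multiplications by the powers of `J`, and the kernels `K (k+1)` of `G (k+1) ⟶ G k`.
-/

set_option autoImplicit false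
set_option linter.style.haveILetI false
set_option linter.unusedSectionVars false

universe u

open AlgebraicGeometry CategoryTheory CategoryTheory.Limits TopologicalSpace Opposite

namespace Groth.Agent.H24FMod.GrF

open H15Site.ModTensor H15Site.ModRel H15Site.LocGen H15Site.LocPres LeadFF

variable {A : Type u} [CommRing A] (J : Ideal A) {𝔛 : FSch.Sys.{u}} (f : 𝔛 ⟶ FSch.spf A J)
  (hL : 𝔛.IsLocNoethFormal) (𝔉 : FSch.ModF 𝔛 hL.1)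

/-- Multiplication by a scalar. -/
noncomputable abbrev sm (a : A) (𝔊 : FSch.ModF 𝔛 hL.1) : 𝔊 ⟶ 𝔊 := DerComp.smulEnd (σ J f hL a) 𝔊

theorem secMap_sm (a : A) (𝔊 : FSch.ModF 𝔛 hL.1) (U : (𝔛.X 0).Opens) (x : Sec hL.1 𝔊 U) :
    secMap (sm J f hL a 𝔊) U x = σU J f hL U a • x := rfl

theorem sm_add (a b : A) (𝔊 : FSch.ModF 𝔛 hL.1) : sm J f hL (a + b) 𝔊 = sm J f hL a 𝔊 + sm J f hL b 𝔊 := by
  rw [sm, σ_add, DerComp.smulEnd_add]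

theorem sm_mul (a b : A) (𝔊 : FSch.ModF 𝔛 hL.1) : sm J f hL (a * b) 𝔊 = sm J f hL a 𝔊 ≫ sm J f hL b 𝔊 := by
  rw [sm, σ_mul, DerComp.smulEnd_comp]

theorem smul_top_induction {U : (𝔛.X 0).Opens} {I : Ideal A} {P : Sec hL.1 𝔉 U → Prop} (h0 : P 0)
    (hadd : ∀ x y, P x → P y → P (x + y)) (hgen : ∀ a ∈ I, ∀ x, P (σU J f hL U a • x)) {x : Sec hL.1 𝔉 U}
    (hx : x ∈ I.map (σU J f hL U) • (⊤ : Submodule (OSec hL.1 U) (Sec hL.1 𝔉 U))) : P x := by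
  refine Submodule.smul_induction_on hx (fun r hr y _ => ?_) hadd
  have hr' : r ∈ Submodule.span (OSec hL.1 U) ((σU J f hL U) '' I) := hr
  clear hr hx x
  induction hr' using Submodule.span_induction generalizing y with
  | mem r hr =>
    obtain ⟨a, ha, rfl⟩ := hr
    exact hgen a ha y
  | zero => rwa [zero_smul]
  | add r r' _ _ ihr ihr' => rw [add_smul]; exact hadd _ _ (ihr y trivial) (ihr' y trivial)
  | smul s r _ ihr => rw [smul_eq_mul, mul_comm, mul_smul]; exact ihr _ trivial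

/-- `𝔉 / J^(k+1) 𝔉`. -/
noncomputable abbrev G (k : ℕ) : FSch.ModF 𝔛 hL.1 :=
  (FSch.levelMor 𝔛 hL.1 k).push.obj ((FSch.levelMor 𝔛 hL.1 k).pull.obj 𝔉)

/-- The projection. -/
noncomputable abbrev u (k : ℕ) : 𝔉 ⟶ G hL 𝔉 k := (FSch.levelMor 𝔛 hL.1 k).adj.unit.app 𝔉

variable [IsNoetherianRing A] (hf : FSch.IsAdicHom f) (h𝔉 : FSch.IsCohF 𝔛 hL.1 𝔉)

include h𝔉 in
theorem surjective_u (k : ℕ) {U : (𝔛.X 0).Opens} (hU : IsAffineOpen U) :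
    Function.Surjective (secMap (u hL 𝔉 k) U) :=
  surjective_unitSec hL h𝔉 hU k

include h𝔉 in
theorem epi_u (k : ℕ) : Epi (u hL 𝔉 k) :=
  epi_of_surjective_affine hL _ fun _ hB => surjective_u hL 𝔉 h𝔉 k hB

include hf h𝔉 in
theorem u_eq_zero_iff (k : ℕ) {U : (𝔛.X 0).Opens} (hU : IsAffineOpen U) (x : Sec hL.1 𝔉 U) :
    secMap (u hL 𝔉 k) U x = 0 ↔
      x ∈ (J ^ (k + 1)).map (σU J f hL U) • (⊤ : Submodule (OSec hL.1 U) (Sec hL.1 𝔉 U)) := by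
  obtain ⟨hc, hker⟩ := exists_adic_base J f hL hf hU
  rw [Ideal.map_pow]
  exact unitSec_eq_zero_iff hL h𝔉 hU hker hc k x

include hf h𝔉 in
theorem u_smul_eq_zero (k : ℕ) {U : (𝔛.X 0).Opens} (hU : IsAffineOpen U) {a : A} (ha : a ∈ J ^ (k + 1))
    (x : Sec hL.1 𝔉 U) : secMap (u hL 𝔉 k) U (σU J f hL U a • x) = 0 :=
  (u_eq_zero_iff J f hL 𝔉 hf h𝔉 k hU _).2 (Submodule.smul_mem_smul (Ideal.mem_map_of_mem _ ha) Submodule.mem_top)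

include hf h𝔉 in
theorem sm_u_eq_zero (k : ℕ) {a : A} (ha : a ∈ J ^ (k + 1)) : sm J f hL a 𝔉 ≫ u hL 𝔉 k = 0 :=
  hom_ext_affine fun _ hU x => u_smul_eq_zero J f hL 𝔉 hf h𝔉 k hU ha x

include hf h𝔉 in
theorem ker_sm_u (k n : ℕ) (h : k ≤ n) {a : A} (ha : a ∈ J ^ (n - k)) :
    kernel.ι (u hL 𝔉 k) ≫ sm J f hL a 𝔉 ≫ u hL 𝔉 n = 0 := by
  refine hom_ext_affine fun U hU y => ?_
  show secMap (u hL 𝔉 n) U (σU J f hL U a • secMap (kernel.ι (u hL 𝔉 k)) U y) = 0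
  have hy : secMap (u hL 𝔉 k) U (secMap (kernel.ι (u hL 𝔉 k)) U y) = 0 :=
    congrArg (fun q : kernel (u hL 𝔉 k) ⟶ G hL 𝔉 k => secMap q U y) (kernel.condition (u hL 𝔉 k))
  refine smul_top_induction J f hL 𝔉 (P := fun x => secMap (u hL 𝔉 n) U (σU J f hL U a • x) = 0) ?_ ?_ ?_
    ((u_eq_zero_iff J f hL 𝔉 hf h𝔉 k hU _).1 hy)
  · rw [smul_zero, map_zero]
  · intro x x' hx hx'
    rw [smul_add, map_add, hx, hx', add_zero]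
  · intro b hb x
    rw [smul_smul, ← map_mul]
    refine u_smul_eq_zero J f hL 𝔉 hf h𝔉 n hU ?_ x
    rw [show n + 1 = n - k + (k + 1) by omega, pow_add]
    exact Ideal.mul_mem_mul ha hb

/-- The multiplications. -/
noncomputable def M (k n : ℕ) (h : k ≤ n) (a : A) (ha : a ∈ J ^ (n - k)) : G hL 𝔉 k ⟶ G hL 𝔉 n :=
  haveI := epi_u hL 𝔉 h𝔉 k
  Abelian.epiDesc (u hL 𝔉 k) (sm J f hL a 𝔉 ≫ u hL 𝔉 n) (ker_sm_u J f hL 𝔉 hf h𝔉 k n h ha)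

theorem u_M (k n : ℕ) (h : k ≤ n) (a : A) (ha : a ∈ J ^ (n - k)) :
    u hL 𝔉 k ≫ M J f hL 𝔉 hf h𝔉 k n h a ha = sm J f hL a 𝔉 ≫ u hL 𝔉 n :=
  haveI := epi_u hL 𝔉 h𝔉 k
  Abelian.comp_epiDesc _ _ _

theorem secMap_M (k n : ℕ) (h : k ≤ n) (a : A) (ha : a ∈ J ^ (n - k)) (U : (𝔛.X 0).Opens) (x : Sec hL.1 𝔉 U) :
    secMap (M J f hL 𝔉 hf h𝔉 k n h a ha) U (secMap (u hL 𝔉 k) U x) = secMap (u hL 𝔉 n) U (σU J f hL U a • x) :=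
  congrArg (fun q : 𝔉 ⟶ G hL 𝔉 n => secMap q U x) (u_M J f hL 𝔉 hf h𝔉 k n h a ha)

/-- The transitions. -/
noncomputable abbrev L (k : ℕ) : G hL 𝔉 (k + 1) ⟶ G hL 𝔉 k := FSch.levelTrans 𝔛 hL.1 𝔉 k

theorem u_L (k : ℕ) : u hL 𝔉 (k + 1) ≫ L hL 𝔉 k = u hL 𝔉 k := FSch.unit_levelTrans 𝔛 hL.1 𝔉 k

theorem secMap_L (k : ℕ) (U : (𝔛.X 0).Opens) (x : Sec hL.1 𝔉 U) :
    secMap (L hL 𝔉 k) U (secMap (u hL 𝔉 (k + 1)) U x) = secMap (u hL 𝔉 k) U x :=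
  congrArg (fun q : 𝔉 ⟶ G hL 𝔉 k => secMap q U x) (u_L hL 𝔉 k)

theorem M_L (k n : ℕ) (h : k ≤ n) (a : A) (ha : a ∈ J ^ (n - k)) (ha' : a ∈ J ^ (n + 1 - (k + 1))) :
    M J f hL 𝔉 hf h𝔉 (k + 1) (n + 1) (Nat.succ_le_succ h) a ha' ≫ L hL 𝔉 n =
      L hL 𝔉 k ≫ M J f hL 𝔉 hf h𝔉 k n h a ha := by
  haveI := epi_u hL 𝔉 h𝔉 (k + 1)
  rw [← cancel_epi (u hL 𝔉 (k + 1)), ← Category.assoc, u_M, Category.assoc, u_L, ← Category.assoc, u_L, u_M]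

theorem M_zero_L (n : ℕ) (a : A) (ha : a ∈ J ^ (n + 1 - 0)) :
    M J f hL 𝔉 hf h𝔉 0 (n + 1) (Nat.zero_le _) a ha ≫ L hL 𝔉 n = 0 := by
  haveI := epi_u hL 𝔉 h𝔉 0
  rw [← cancel_epi (u hL 𝔉 0), ← Category.assoc, u_M, Category.assoc, u_L, comp_zero]
  exact sm_u_eq_zero J f hL 𝔉 hf h𝔉 n ha

theorem M_add (k n : ℕ) (h : k ≤ n) (a b : A) (ha : a ∈ J ^ (n - k)) (hb : b ∈ J ^ (n - k)) :
    M J f hL 𝔉 hf h𝔉 k n h (a + b) (add_mem ha hb) =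
      M J f hL 𝔉 hf h𝔉 k n h a ha + M J f hL 𝔉 hf h𝔉 k n h b hb := by
  haveI := epi_u hL 𝔉 h𝔉 k
  rw [← cancel_epi (u hL 𝔉 k), Preadditive.comp_add, u_M, u_M, u_M, sm_add, Preadditive.add_comp]

theorem M_smul (k n : ℕ) (h : k ≤ n) (a b : A) (hb : b ∈ J ^ (n - k)) :
    M J f hL 𝔉 hf h𝔉 k n h (a * b) (Ideal.mul_mem_left _ a hb) =
      sm J f hL a (G hL 𝔉 k) ≫ M J f hL 𝔉 hf h𝔉 k n h b hb := by
  haveI := epi_u hL 𝔉 h𝔉 k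
  rw [← cancel_epi (u hL 𝔉 k), u_M, sm_mul, Category.assoc, ← u_M J f hL 𝔉 hf h𝔉 k n h b hb, ← Category.assoc,
    ← Category.assoc]
  exact congrArg (· ≫ _) (DerComp.smulEnd_comm _ _)

theorem M_comp (k c n : ℕ) (h : k ≤ c) (h' : c ≤ n) (a b : A) (ha : a ∈ J ^ (c - k)) (hb : b ∈ J ^ (n - c))
    (hab : b * a ∈ J ^ (n - k)) :
    M J f hL 𝔉 hf h𝔉 k c h a ha ≫ M J f hL 𝔉 hf h𝔉 c n h' b hb =
      M J f hL 𝔉 hf h𝔉 k n (h.trans h') (b * a) hab := by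
  haveI := epi_u hL 𝔉 h𝔉 k
  rw [← cancel_epi (u hL 𝔉 k), ← Category.assoc, u_M, Category.assoc, u_M, u_M, ← Category.assoc, ← sm_mul,
    mul_comm]

/-- The pieces of the graded module. -/
noncomputable def K : ℕ → FSch.ModF 𝔛 hL.1
  | 0 => G hL 𝔉 0
  | k + 1 => kernel (L hL 𝔉 k)

/-- The pieces inside the levels. -/
noncomputable def κ : ∀ k, K hL 𝔉 k ⟶ G hL 𝔉 k
  | 0 => 𝟙 _
  | k + 1 => kernel.ι (L hL 𝔉 k)

theorem κ_L (k : ℕ) : κ hL 𝔉 (k + 1) ≫ L hL 𝔉 k = 0 := kernel.condition (L hL 𝔉 k)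

theorem mono_κ : ∀ k, Mono (κ hL 𝔉 k)
  | 0 => inferInstanceAs (Mono (𝟙 (G hL 𝔉 0)))
  | k + 1 => inferInstanceAs (Mono (kernel.ι (L hL 𝔉 k)))

theorem exists_mK (k n : ℕ) (h : k ≤ n) (a : A) (ha : a ∈ J ^ (n - k)) :
    ∃ m : K hL 𝔉 k ⟶ K hL 𝔉 n, m ≫ κ hL 𝔉 n = κ hL 𝔉 k ≫ M J f hL 𝔉 hf h𝔉 k n h a ha := by
  rcases n with _ | n
  · exact ⟨κ hL 𝔉 k ≫ M J f hL 𝔉 hf h𝔉 k 0 h a ha, Category.comp_id _⟩
  · have hz : (κ hL 𝔉 k ≫ M J f hL 𝔉 hf h𝔉 k (n + 1) h a ha) ≫ L hL 𝔉 n = 0 := by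
      rcases k with _ | k
      · rw [Category.assoc, M_zero_L, comp_zero]
      · rw [Category.assoc, M_L J f hL 𝔉 hf h𝔉 k n (Nat.le_of_succ_le_succ h) a
          (by rwa [Nat.succ_sub_succ] at ha) ha, ← Category.assoc, κ_L, zero_comp]
    exact ⟨kernel.lift (L hL 𝔉 n) _ hz, kernel.lift_ι _ _ _⟩

/-- The multiplications on the pieces. -/
noncomputable def mK (k n : ℕ) (h : k ≤ n) (a : A) (ha : a ∈ J ^ (n - k)) : K hL 𝔉 k ⟶ K hL 𝔉 n :=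
  (exists_mK J f hL 𝔉 hf h𝔉 k n h a ha).choose

theorem mK_κ (k n : ℕ) (h : k ≤ n) (a : A) (ha : a ∈ J ^ (n - k)) :
    mK J f hL 𝔉 hf h𝔉 k n h a ha ≫ κ hL 𝔉 n = κ hL 𝔉 k ≫ M J f hL 𝔉 hf h𝔉 k n h a ha :=
  (exists_mK J f hL 𝔉 hf h𝔉 k n h a ha).choose_spec

theorem mK_add (k n : ℕ) (h : k ≤ n) (a b : A) (ha : a ∈ J ^ (n - k)) (hb : b ∈ J ^ (n - k)) :
    mK J f hL 𝔉 hf h𝔉 k n h (a + b) (add_mem ha hb) =
      mK J f hL 𝔉 hf h𝔉 k n h a ha + mK J f hL 𝔉 hf h𝔉 k n h b hb := by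
  haveI := mono_κ hL 𝔉 n
  rw [← cancel_mono (κ hL 𝔉 n), Preadditive.add_comp, mK_κ, mK_κ, mK_κ, M_add, Preadditive.comp_add]

theorem mK_smul (k n : ℕ) (h : k ≤ n) (a b : A) (hb : b ∈ J ^ (n - k)) :
    mK J f hL 𝔉 hf h𝔉 k n h (a * b) (Ideal.mul_mem_left _ a hb) =
      sm J f hL a (K hL 𝔉 k) ≫ mK J f hL 𝔉 hf h𝔉 k n h b hb := by
  haveI := mono_κ hL 𝔉 n
  rw [← cancel_mono (κ hL 𝔉 n), Category.assoc, mK_κ, mK_κ, M_smul, ← Category.assoc, ← Category.assoc]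
  exact congrArg (· ≫ _) (DerComp.smulEnd_comm _ _).symm

theorem mK_comp (k c n : ℕ) (h : k ≤ c) (h' : c ≤ n) (a b : A) (ha : a ∈ J ^ (c - k)) (hb : b ∈ J ^ (n - c))
    (hab : b * a ∈ J ^ (n - k)) :
    mK J f hL 𝔉 hf h𝔉 k c h a ha ≫ mK J f hL 𝔉 hf h𝔉 c n h' b hb =
      mK J f hL 𝔉 hf h𝔉 k n (h.trans h') (b * a) hab := by
  haveI := mono_κ hL 𝔉 n
  rw [← cancel_mono (κ hL 𝔉 n), Category.assoc, mK_κ, ← Category.assoc, mK_κ, Category.assoc,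
    M_comp J f hL 𝔉 hf h𝔉 k c n h h' a b ha hb hab, mK_κ]

include hf h𝔉 in
/-- A section of a piece comes from `J^k 𝔉`. -/
theorem exists_u_eq_κ : ∀ (k : ℕ) {U : (𝔛.X 0).Opens}, IsAffineOpen U → ∀ z : Sec hL.1 (K hL 𝔉 k) U,
    ∃ x ∈ (J ^ k).map (σU J f hL U) • (⊤ : Submodule (OSec hL.1 U) (Sec hL.1 𝔉 U)),
      secMap (u hL 𝔉 k) U x = secMap (κ hL 𝔉 k) U z
  | 0, U, hU, z => by
    obtain ⟨x, hx⟩ := surjective_u hL 𝔉 h𝔉 0 hU z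
    refine ⟨x, ?_, hx⟩
    rw [pow_zero, Ideal.one_eq_top, Ideal.map_top, Submodule.top_smul]
    trivial
  | k + 1, U, hU, z => by
    obtain ⟨x, hx⟩ := surjective_u hL 𝔉 h𝔉 (k + 1) hU (secMap (κ hL 𝔉 (k + 1)) U z)
    refine ⟨x, (u_eq_zero_iff J f hL 𝔉 hf h𝔉 k hU x).1 ?_, hx⟩
    rw [← secMap_L hL 𝔉 k U x, hx]
    exact congrArg (fun q : K hL 𝔉 (k + 1) ⟶ G hL 𝔉 k => secMap q U z) (κ_L hL 𝔉 k)

/-- Generation in degree zero. -/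
theorem gen_K (k : ℕ) {U : (𝔛.X 0).Opens} (hU : IsAffineOpen U) (z : Sec hL.1 (K hL 𝔉 k) U) :
    z ∈ AddSubgroup.closure {y | ∃ a, ∃ ha : a ∈ J ^ (k - 0), ∃ g,
      secMap (mK J f hL 𝔉 hf h𝔉 0 k k.zero_le a ha) U g = y} := by
  haveI := mono_κ hL 𝔉 k
  obtain ⟨x, hx, e⟩ := exists_u_eq_κ J f hL 𝔉 hf h𝔉 k hU z
  suffices h : ∃ y ∈ AddSubgroup.closure {y | ∃ a, ∃ ha : a ∈ J ^ (k - 0), ∃ g,
      secMap (mK J f hL 𝔉 hf h𝔉 0 k k.zero_le a ha) U g = y}, secMap (κ hL 𝔉 k) U y = secMap (u hL 𝔉 k) U x by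
    obtain ⟨y, hy, hy'⟩ := h
    rwa [← injective_app (κ hL 𝔉 k) (op U) (hy'.trans e)]
  refine smul_top_induction J f hL 𝔉 (P := fun x => ∃ y ∈ AddSubgroup.closure {y | ∃ a, ∃ ha : a ∈ J ^ (k - 0), ∃ g,
      secMap (mK J f hL 𝔉 hf h𝔉 0 k k.zero_le a ha) U g = y}, secMap (κ hL 𝔉 k) U y = secMap (u hL 𝔉 k) U x)
    ⟨0, zero_mem _, (map_zero _).trans (map_zero _).symm⟩ ?_ ?_ hx
  · rintro x x' ⟨y, hy, hy'⟩ ⟨y', hy1, hy1'⟩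
    exact ⟨y + y', add_mem hy hy1, by rw [map_add, map_add, hy', hy1']⟩
  · intro a ha x
    have ha' : a ∈ J ^ (k - 0) := by rwa [Nat.sub_zero]
    refine ⟨_, AddSubgroup.subset_closure ⟨a, ha', secMap (u hL 𝔉 0) U x, rfl⟩, ?_⟩
    exact (congrArg (fun q : K hL 𝔉 0 ⟶ G hL 𝔉 k => secMap q U (secMap (u hL 𝔉 0) U x))
      (mK_κ J f hL 𝔉 hf h𝔉 0 k k.zero_le a ha')).trans (secMap_M J f hL 𝔉 hf h𝔉 0 k k.zero_le a ha' U x)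

include hf h𝔉 in
/-- The pieces are killed by `J`. -/
theorem smul_K_eq_zero (k : ℕ) {U : (𝔛.X 0).Opens} (hU : IsAffineOpen U) {a : A} (ha : a ∈ J)
    (z : Sec hL.1 (K hL 𝔉 k) U) : σU J f hL U a • z = 0 := by
  haveI := mono_κ hL 𝔉 k
  obtain ⟨x, hx, e⟩ := exists_u_eq_κ J f hL 𝔉 hf h𝔉 k hU z
  refine injective_app (κ hL 𝔉 k) (op U) (Eq.trans ?_ (map_zero _).symm)
  refine ((κ hL 𝔉 k).val.app (op U)).hom.map_smul _ z |>.trans ?_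
  show σU J f hL U a • secMap (κ hL 𝔉 k) U z = 0
  rw [← e]
  refine ((u hL 𝔉 k).val.app (op U)).hom.map_smul _ x |>.symm.trans ?_
  refine (u_eq_zero_iff J f hL 𝔉 hf h𝔉 k hU _).2 ?_
  rw [pow_succ', Ideal.map_mul, Submodule.mul_smul]
  exact Submodule.smul_mem_smul (Ideal.mem_map_of_mem _ ha) hx

include h𝔉 in
theorem isCohF_G (k : ℕ) : FSch.IsCohF 𝔛 hL.1 (G hL 𝔉 k) := by
  haveI := epi_u hL 𝔉 h𝔉 k
  haveI := isFiniteType_kernel_unit hL h𝔉 k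
  haveI : SheafOfModules.IsFinitePresentation (R := ModSite.ringSh (𝔛.Osh hL.1)) 𝔉 := h𝔉
  exact (SheafOfModules.isFinitePresentation (ModSite.ringSh (𝔛.Osh hL.1))).prop_of_iso
    ((cokernelIsCokernel (kernel.ι (u hL 𝔉 k))).coconePointUniqueUpToIso
      (Abelian.epiIsCokernelOfKernel (KernelFork.ofι _ (kernel.condition (u hL 𝔉 k))) (kernelIsKernel (u hL 𝔉 k))))
    (H15Site.LocPres.isFinitePresentation_cokernel (kernel.ι (u hL 𝔉 k)))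

include h𝔉 in
theorem isCohF_K : ∀ k, FSch.IsCohF 𝔛 hL.1 (K hL 𝔉 k)
  | 0 => isCohF_G hL 𝔉 h𝔉 0
  | k + 1 => isCohF_kernel hL (isCohF_G hL 𝔉 h𝔉 (k + 1)) (isCohF_G hL 𝔉 h𝔉 k) (L hL 𝔉 k)

include hf h𝔉 in
/-- The pieces are modules on the smallest level. -/
theorem isIso_unit_K (k : ℕ) : IsIso ((FSch.levelMor 𝔛 hL.1 0).adj.unit.app (K hL 𝔉 k)) := by
  let η := (FSch.levelMor 𝔛 hL.1 0).adj.unit.app (K hL 𝔉 k)
  have hK := isCohF_K hL 𝔉 h𝔉 k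
  haveI : Epi η := epi_u hL (K hL 𝔉 k) hK 0
  haveI : Mono η := by
    refine Preadditive.mono_of_cancel_zero _ fun {T} g hg => hom_ext_affine fun U hU t => ?_
    show secMap g U t = 0
    have h := (u_eq_zero_iff J f hL (K hL 𝔉 k) hf hK 0 hU _).1
      (congrArg (fun q : T ⟶ G hL (K hL 𝔉 k) 0 => secMap q U t) hg)
    rw [zero_add, pow_one] at h
    refine smul_top_induction J f hL (K hL 𝔉 k) (P := fun x => x = 0) rfl ?_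
      (fun a ha x => smul_K_eq_zero J f hL 𝔉 hf h𝔉 k hU ha x) h
    rintro x y rfl rfl
    exact add_zero _
  exact isIso_of_mono_of_epi η

end Groth.Agent.H24FMod.GrF
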