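import Groth.Agent.H24FMod.GrCoh
import Groth.Agent.H24FMod.GrLimit
import Groth.Agent.H24FMod.LimTop
import Groth.Agent.H10Coh.Affine

/-!
# The cohomology of a coherent module on a proper formal scheme as the limit over the levels
-/

set_option autoImplicit false
set_option linter.style.haveILetI false
set_option linter.unusedSectionVars false

universe u

attribute [-instance] CategoryTheory.catToReflQuiver

open AlgebraicGeometry CategoryTheory CategoryTheory.Limits TopologicalSpace Opposite CategoryTheory.Abelian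

namespace Groth.Agent.H24FMod.GrF

open H15Site.ModTensor H15Site.ModRel H15Site.LocGen H15Site.LocPres LeadFF

theorem nonempty_push_id_iso {Z : TopCat.{u}} (θ : Z ⟶ Z) (hθ : θ = 𝟙 Z) (F : CohTop.Ab Z) :
    Nonempty ((CohTop.push θ).obj F ≅ F) := by
  subst hθ
  exact ⟨(sheafToPresheaf _ _).preimageIso (Iso.refl _)⟩

theorem exists_limit_iso_of_eq {C : Type*} [Category C] [HasLimitsOfShape ℕᵒᵖ C] {X : ℕ → C}
    {t t' : ∀ k, X (k + 1) ⟶ X k} (ht : t = t') {pt : C} (e : pt ≅ limit (Functor.ofOpSequence t))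
    (u : ∀ k, pt ⟶ X k) (he : ∀ k, e.hom ≫ limit.π (Functor.ofOpSequence t) (op k) = u k) :
    ∃ e' : pt ≅ limit (Functor.ofOpSequence t'), ∀ k, e'.hom ≫ limit.π (Functor.ofOpSequence t') (op k) = u k := by
  subst ht
  exact ⟨e, he⟩

variable {A : Type u} [CommRing A] (J : Ideal A) {𝔛 : FSch.Sys.{u}} (f : 𝔛 ⟶ FSch.spf A J)
  (hL : 𝔛.IsLocNoethFormal) (𝔉 : FSch.ModF 𝔛 hL.1) [IsNoetherianRing A] (hf : FSch.IsAdicHom f)
  (h𝔉 : FSch.IsCohF 𝔛 hL.1 𝔉)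

include h𝔉 in
theorem exists_iso_limit :
    ∃ e : 𝔉 ≅ limit (Functor.ofOpSequence (L hL 𝔉)),
      ∀ k, e.hom ≫ limit.π (Functor.ofOpSequence (L hL 𝔉)) (op k) = u hL 𝔉 k := by
  let S := pullSys hL 𝔉
  let t : ∀ k, G hL 𝔉 (k + 1) ⟶ G hL 𝔉 k := fun k =>
    (FSch.levelMor 𝔛 hL.1 (k + 1)).push.map (S.toPush k) ≫ (FSch.pushCompare 𝔛 hL.1 k).app (S.F k)
  have ht : t = L hL 𝔉 := funext fun k => by
    haveI := epi_u hL 𝔉 h𝔉 (k + 1)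
    exact (cancel_epi (u hL 𝔉 (k + 1))).1 ((unit_step hL 𝔉 k).trans (u_L hL 𝔉 k).symm)
  exact exists_limit_iso_of_eq ht (@asIso _ _ _ _ (toReal hL 𝔉) (isIso_toReal hL h𝔉)) (u hL 𝔉) (toReal_proj hL 𝔉)

include hf h𝔉 f in
theorem acyc_K (k : ℕ) : LimH.Acyc {U : (𝔛.X 0).Opens | IsAffineOpen U}
    ((SheafOfModules.toSheaf.{u} (ModSite.ringSh (𝔛.Osh hL.1))).obj (K hL 𝔉 k)) := by
  haveI := isIso_unit_K J f hL 𝔉 hf h𝔉 k
  let M : (𝔛.X 0).Modules := K0 hL 𝔉 k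
  haveI : M.IsQuasicoherent := (isCoh_pullSys hL (isCohF_K hL 𝔉 h𝔉 k) 0).1
  have hθ : 𝔛.gInv hL.1 0 = 𝟙 _ := (Category.comp_id _).symm.trans (𝔛.gInv_toX_base hL.1 0)
  obtain ⟨e⟩ := nonempty_push_id_iso (𝔛.gInv hL.1 0) hθ ((H10Coh.shF (𝔛.X 0)).obj M)
  let i : (SheafOfModules.toSheaf.{u} (ModSite.ringSh (𝔛.Osh hL.1))).obj (K hL 𝔉 k) ≅
      (CohTop.push (𝔛.gInv hL.1 0)).obj ((H10Coh.shF (𝔛.X 0)).obj M) :=
    (SheafOfModules.toSheaf.{u} (ModSite.ringSh (𝔛.Osh hL.1))).mapIso (asIso (η0 hL 𝔉 k))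
  refine GrLimit.acyc_of_iso (i ≪≫ e).symm fun U hU p => ?_
  exact H10Coh.subsingleton_HnM_of_isAffineOpen M hU p

include hf h𝔉 f in
theorem acyc_G : ∀ k, LimH.Acyc {U : (𝔛.X 0).Opens | IsAffineOpen U}
    ((SheafOfModules.toSheaf.{u} (ModSite.ringSh (𝔛.Osh hL.1))).obj (G hL 𝔉 k))
  | 0 => acyc_K J f hL 𝔉 hf h𝔉 0
  | k + 1 => GrLimit.acyc_X₂ (GrTower.shortExact_sheaf (shortExact_L hL 𝔉 h𝔉 k))
      (acyc_K J f hL 𝔉 hf h𝔉 (k + 1)) (acyc_G k)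

include h𝔉 in
theorem surjective_L (U : (𝔛.X 0).Opens) (hU : IsAffineOpen U) (k : ℕ) :
    Function.Surjective
      (((SheafOfModules.toSheaf.{u} (ModSite.ringSh (𝔛.Osh hL.1))).map (L hL 𝔉 k)).hom.app (op U)).hom := fun y => by
  obtain ⟨x, rfl⟩ := surjective_u hL 𝔉 h𝔉 k hU y
  exact ⟨secMap (u hL 𝔉 (k + 1)) U x, secMap_L hL 𝔉 k U x⟩

include hf h𝔉 in
theorem bijective_toLevels (hp : IsProper ((f : FSch.Hom 𝔛 (FSch.spf A J)).app 0)) (p : ℕ) :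
    (∀ x : Sheaf.H ((SheafOfModules.toSheaf (ModSite.ringSh (𝔛.Osh hL.1))).obj 𝔉) p,
      (∀ k, GrTower.hm (u hL 𝔉 k) p x = 0) → x = 0) ∧
    (∀ y : ∀ k, Sheaf.H ((SheafOfModules.toSheaf (ModSite.ringSh (𝔛.Osh hL.1))).obj (G hL 𝔉 k)) p,
      (∀ k, GrTower.hm (L hL 𝔉 k) p (y (k + 1)) = y k) →
      ∃ x : Sheaf.H ((SheafOfModules.toSheaf (ModSite.ringSh (𝔛.Osh hL.1))).obj 𝔉) p,
        ∀ k, GrTower.hm (u hL 𝔉 k) p x = y k) := by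
  obtain ⟨e, he⟩ := exists_iso_limit hL 𝔉 h𝔉
  exact GrLimit.bijective (L hL 𝔉) e (u hL 𝔉) he (LimTop.isCovering_of_isBasis (𝔛.X 0).isBasis_affineOpens)
    (acyc_G J f hL 𝔉 hf h𝔉) (fun U hU => surjective_L hL 𝔉 h𝔉 U hU) p
    (exists_stable_sysH J f hL 𝔉 hf h𝔉 hp)

end Groth.Agent.H24FMod.GrF
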