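import Groth.Agent.LeadFF.BaseChange

/-!
# Additive maps out of the sections of an affine base change
-/

set_option autoImplicit false
set_option linter.style.haveILetI false
set_option linter.unusedSectionVars false

universe u v

open AlgebraicGeometry CategoryTheory Limits TopologicalSpace Opposite TensorProduct

namespace Groth.Agent.H24FMod

open LeadFF

variable {A : Type u} [CommRing A] {X : Scheme.{u}} {g : X ⟶ Spec (CommRingCat.of A)} {S : Type u} [CommRing S]
  {φ : A →+* S} {X' : Scheme.{u}} {q : X' ⟶ X}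
  {g' : X' ⟶ Spec (CommRingCat.of S)} (hsq : IsPullback q g' g (Spec.map (CommRingCat.ofHom φ))) (M : X.Modules)

include hsq in
/-- Balanced pairings on `S × M(U)` give maps from the sections of `q^* M`. -/
theorem exists_sections_lift (hM : Coh.IsQCoh M) {U : X.Opens} (hU : IsAffineOpen U) {N : Type v} [AddCommGroup N]
    (f : S →+ Γ(M, U) →+ N) (hf : ∀ (a : A) (s : S) (m : Γ(M, U)), f (φ a * s) m = f s (scal g U a • m)) :
    ∃ L : Γ((Scheme.Modules.pullback q).obj M, q ⁻¹ᵁ U) →+ N,
      ∀ (s : S) (m : Γ(M, U)), L (scal g' (q ⁻¹ᵁ U) s • OmegaSh.pullSect q M U m) = f s m := by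
  haveI := isAffineHom_fst hsq
  let B := Γ(X, U)
  let B' := Γ(X', q ⁻¹ᵁ U)
  let N' := Γ((Scheme.Modules.pullback q).obj M, q ⁻¹ᵁ U)
  letI : Algebra A B := (scal g U).toAlgebra
  letI : Algebra A S := φ.toAlgebra
  letI : Algebra B B' := (q.app U).hom.toAlgebra
  letI : Algebra S B' := (scal g' (q ⁻¹ᵁ U)).toAlgebra
  letI : Algebra A B' := ((scal g' (q ⁻¹ᵁ U)).comp φ).toAlgebra
  haveI : IsScalarTower A B B' := .of_algebraMap_eq fun a => (app_scal hsq U a).symm
  haveI : IsScalarTower A S B' := .of_algebraMap_eq fun _ => rfl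
  haveI hpo : Algebra.IsPushout A B S B' :=
    CommRingCat.isPushout_iff_isPushout.mp (by simpa using! isPushout_scal hsq hU)
  haveI : Algebra.IsPushout A S B B' := hpo.symm
  letI : Module A Γ(M, U) := Module.compHom _ (scal g U)
  haveI : IsScalarTower A B Γ(M, U) := .of_algebraMap_smul fun _ _ => rfl
  have h : q ⁻¹ᵁ U ≤ q ⁻¹ᵁ U := le_rfl
  have happ : q.appLE U (q ⁻¹ᵁ U) h = q.app U := (Scheme.Hom.app_eq_appLE q).symm
  letI : Module B N' := Module.compHom _ (q.appLE U (q ⁻¹ᵁ U) h).hom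
  letI alg : Algebra B B' := (q.appLE U (q ⁻¹ᵁ U) h).hom.toAlgebra
  haveI : IsScalarTower B B' N' := .of_algebraMap_smul fun _ _ => rfl
  haveI : IsScalarTower A B B' := .of_algebraMap_eq fun a => by
    show _ = q.appLE U (q ⁻¹ᵁ U) h (scal g U a)
    rw [happ]; exact (app_scal hsq U a).symm
  haveI : Algebra.IsPushout A S B B' := by
    haveI : Algebra.IsPushout A B S B' := CommRingCat.isPushout_iff_isPushout.mp (by
      have := isPushout_scal hsq hU
      rw [← happ] at this
      exact this)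
    exact Algebra.IsPushout.symm inferInstance
  have hbc : IsBaseChange B' (H8Props.PullSections.pullLin q M h) :=
    H8Props.PullSections.isBaseChange_pullLin q M h hM hU (hU.preimage q)
  let e₁ : B' ⊗[B] Γ(M, U) ≃ₗ[B'] N' := hbc.equiv
  let e₂ := Algebra.IsPushout.cancelBaseChangeAux A S B B' Γ(M, U)
  have he : ∀ (s : S) (m : Γ(M, U)), e₁ (e₂.symm (s ⊗ₜ m)) = scal g' (q ⁻¹ᵁ U) s • OmegaSh.pullSect q M U m := by
    intro s m
    rw [Algebra.IsPushout.cancelBaseChangeAux_symm_tmul, IsBaseChange.equiv_tmul]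
    refine congrArg (scal g' (q ⁻¹ᵁ U) s • ·) ?_
    show ((Scheme.Modules.pullback q).obj M).presheaf.map (homOfLE h).op (OmegaSh.pullSect q M U m) = _
    rw [show (homOfLE h).op = 𝟙 _ from rfl, CategoryTheory.Functor.map_id]
    rfl
  let c : S ⊗[A] Γ(M, U) →+ N := TensorProduct.liftAddHom f fun r s m => hf r s m
  refine ⟨c.comp (e₂.toAddMonoidHom.comp e₁.symm.toAddMonoidHom), fun s m => ?_⟩
  rw [← he]
  show c (e₂ (e₁.symm (e₁ (e₂.symm (s ⊗ₜ m))))) = _
  rw [LinearEquiv.symm_apply_apply, LinearEquiv.apply_symm_apply]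
  exact TensorProduct.liftAddHom_tmul f _ s m

end Groth.Agent.H24FMod
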