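import Groth.Agent.H24FMod.LimTop
import Groth.Agent.H10Coh.Affine
import Groth.Agent.H10Coh.QCohOps
import Groth.Prelude.Def_Formal2
import Mathlib.Algebra.Category.ModuleCat.Sheaf.Limits

/-!
# Cohomology of the limit of a tower of quasi-coherent modules with epimorphic transition maps
-/

set_option autoImplicit false
set_option linter.style.haveILetI false
set_option linter.unusedSectionVars false

universe u

open CategoryTheory CategoryTheory.Limits Opposite TopologicalSpace CategoryTheory.Abelian AlgebraicGeometry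

namespace Groth.Agent.H24FMod.LimScheme

section Generic

variable {C : Type u} [SmallCategory C] {J : GrothendieckTopology C}
  [HasSheafify J AddCommGrpCat.{u}] [HasExt.{u} (Sheaf J AddCommGrpCat.{u})]
  (F : ℕᵒᵖ ⥤ Sheaf J AddCommGrpCat.{u}) {B : Set C}
  (hB : LimH.IsCovering J B) (hF : ∀ n, LimH.Acyc B (F.obj (op n)))
  (hs : ∀ U ∈ B, ∀ n, Function.Surjective ((LimH.trans F n).hom.app (op U)).hom)
  (Q : Sheaf J AddCommGrpCat.{u}) {pt : Sheaf J AddCommGrpCat.{u}} (π : ∀ n, pt ⟶ F.obj (op n))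
  (i : pt ≅ limit F) (hi : ∀ n, i.hom ≫ limit.π F (op n) = π n)

include hB hF hs hi in
/-- The exact sequence `0 → lim¹ → H^{p+1}(lim) → lim H^{p+1} → 0`. -/
theorem exists_ses (p : ℕ) :
    ∃ (α : Formal2.limOne (fun n : ℕ => Ext Q (F.obj (op n)) p)
          (fun n => (Ext.mk₀ (LimH.trans F n)).postcomp Q (add_zero p)) →+ Ext Q pt (p + 1))
      (β : Ext Q pt (p + 1) →+ Formal2.limZero (fun n : ℕ => Ext Q (F.obj (op n)) (p + 1))
          (fun n => (Ext.mk₀ (LimH.trans F n)).postcomp Q (add_zero (p + 1)))),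
      Function.Injective α ∧ Function.Surjective β ∧ α.range = β.ker ∧
      ∀ (x : Ext Q pt (p + 1)) (n : ℕ),
        (β x : ∀ n : ℕ, Ext Q (F.obj (op n)) (p + 1)) n = x.comp (Ext.mk₀ (π n)) (add_zero (p + 1)) := by
  let I : Ext Q pt (p + 1) →+ Ext Q (limit F) (p + 1) := (Ext.mk₀ i.hom).postcomp Q (add_zero _)
  let I' : Ext Q (limit F) (p + 1) →+ Ext Q pt (p + 1) := (Ext.mk₀ i.inv).postcomp Q (add_zero _)
  have hI : ∀ x, I (I' x) = x := fun x => by
    show (x.comp (Ext.mk₀ i.inv) (add_zero _)).comp (Ext.mk₀ i.hom) (add_zero _) = x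
    rw [Ext.comp_assoc_of_second_deg_zero, Ext.mk₀_comp_mk₀, i.inv_hom_id, Ext.comp_mk₀_id]
  have hI' : ∀ x, I' (I x) = x := fun x => by
    show (x.comp (Ext.mk₀ i.hom) (add_zero _)).comp (Ext.mk₀ i.inv) (add_zero _) = x
    rw [Ext.comp_assoc_of_second_deg_zero, Ext.mk₀_comp_mk₀, i.hom_inv_id, Ext.comp_mk₀_id]
  have hπ : ∀ (x : Ext Q pt (p + 1)) (n : ℕ),
      (I x).comp (Ext.mk₀ (limit.π F (op n))) (add_zero _) = x.comp (Ext.mk₀ (π n)) (add_zero _) := fun x n => by
    show (x.comp (Ext.mk₀ i.hom) (add_zero _)).comp (Ext.mk₀ (limit.π F (op n))) (add_zero _) = _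
    rw [Ext.comp_assoc_of_second_deg_zero, Ext.mk₀_comp_mk₀, hi]
  have hπt : ∀ n, π (n + 1) ≫ LimH.trans F n = π n := fun n => by
    rw [← hi (n + 1), ← hi n, Category.assoc]
    exact congrArg (i.hom ≫ ·) (limit.w F _)
  let β₀ : Ext Q pt (p + 1) →+ ∀ n : ℕ, Ext Q (F.obj (op n)) (p + 1) :=
    AddMonoidHom.pi fun n => (Ext.mk₀ (π n)).postcomp Q (add_zero _)
  let β := β₀.codRestrict (Formal2.limZero (fun n : ℕ => Ext Q (F.obj (op n)) (p + 1))
      (fun n => (Ext.mk₀ (LimH.trans F n)).postcomp Q (add_zero (p + 1)))) fun x => by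
    refine AddMonoidHom.mem_ker.2 (funext fun n => ?_)
    show x.comp (Ext.mk₀ (π n)) (add_zero _) -
      (x.comp (Ext.mk₀ (π (n + 1))) (add_zero _)).comp (Ext.mk₀ (LimH.trans F n)) (add_zero _) = 0
    rw [Ext.comp_assoc_of_second_deg_zero, Ext.mk₀_comp_mk₀, hπt, sub_self]
  obtain ⟨e₀⟩ := LimH.nonempty_kerEquiv F hB hF hs Q p
  have hd : (AddMonoidHom.pi fun n : ℕ =>
        Pi.evalAddMonoidHom (fun m : ℕ => Ext Q (F.obj (op m)) p) n -
        ((Ext.mk₀ (LimH.trans F n)).postcomp Q (add_zero p)).comp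
          (Pi.evalAddMonoidHom (fun m : ℕ => Ext Q (F.obj (op m)) p) (n + 1))) =
      Formal2.towerDiff (fun n : ℕ => Ext Q (F.obj (op n)) p)
        (fun n => (Ext.mk₀ (LimH.trans F n)).postcomp Q (add_zero p)) := by
    refine AddMonoidHom.ext fun z => funext fun n => ?_
    rw [AddMonoidHom.pi_apply, AddMonoidHom.sub_apply]
    rfl
  let e := e₀.trans (QuotientAddGroup.quotientAddEquivOfEq (congrArg AddMonoidHom.range hd))
  let α := I'.comp ((AddSubgroup.subtype _).comp e.symm.toAddMonoidHom)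
  refine ⟨α, β, fun a b h => ?_, fun ξ => ?_, ?_, fun x n => rfl⟩
  · exact e.symm.injective (Subtype.ext (((hI _).symm.trans (congrArg I h)).trans (hI _)))
  · obtain ⟨η, hη⟩ := LimH.exists_lift F hB hF hs Q (p + 1) ξ.1 fun n =>
      (sub_eq_zero.1 (congrFun (AddMonoidHom.mem_ker.1 ξ.2) n)).symm
    exact ⟨I' η, Subtype.ext (funext fun n => ((hπ _ n).symm.trans
      (congrArg (fun z => Ext.comp z (Ext.mk₀ (limit.π F (op n))) (add_zero _)) (hI η))).trans (hη n))⟩
  · refine le_antisymm ?_ fun x (hx : x ∈ β.ker) => ?_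
    · rintro _ ⟨a, rfl⟩
      refine AddMonoidHom.mem_ker.2 (Subtype.ext (funext fun n => ?_))
      refine (hπ _ n).symm.trans ?_
      refine (congrArg (fun z => Ext.comp z (Ext.mk₀ (limit.π F (op n))) (add_zero _)) (hI _)).trans ?_
      exact congrFun (AddMonoidHom.mem_ker.1 (e.symm a).2) n
    · have h1 : β x = 0 := AddMonoidHom.mem_ker.1 hx
      have h2 : ∀ n, x.comp (Ext.mk₀ (π n)) (add_zero _) = 0 := fun n => by
        have h3 : (β x).1 n = 0 := by rw [h1]; rfl
        exact h3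
      have hk : I x ∈ (AddMonoidHom.pi fun n : ℕ =>
          (Ext.mk₀ (limit.π F (op n))).postcomp Q (add_zero (p + 1))).ker :=
        AddMonoidHom.mem_ker.2 (funext fun n => (hπ x n).trans (h2 n))
      refine ⟨e ⟨I x, hk⟩, ?_⟩
      show I' (e.symm (e ⟨I x, hk⟩)).1 = x
      rw [AddEquiv.symm_apply_apply]
      exact hI' x

include hB hF hs hi in
/-- The limit is acyclic on the covering family. -/
theorem acyc_pt : LimH.Acyc B pt := fun U hU p => by
  haveI := H15Site.SiteInst.hasSheafifySite J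
  haveI := H15Site.SiteInst.hasExtSite J
  have h0 : ∀ η : Ext (CohCx.freeSheaf J U) (limit F) (p + 1), η = 0 := fun η => by
    refine LimH.eq_zero_of_limOne F hB hF hs (CohCx.freeSheaf J U) p (fun z => ?_) η fun n => ?_
    · have hlift : ∀ (n : ℕ) (y : Ext (CohCx.freeSheaf J U) (F.obj (op n)) p),
          ∃ x : Ext (CohCx.freeSheaf J U) (F.obj (op (n + 1))) p,
            x.comp (Ext.mk₀ (LimH.trans F n)) (add_zero p) = y := fun n y => by
        cases p with
        | zero =>
          obtain ⟨φ, rfl⟩ := (Ext.mk₀_bijective _ _).2 y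
          obtain ⟨ψ, hψ⟩ := hs U hU n (CohFree.evalGen J U _ φ)
          refine ⟨Ext.mk₀ (CohFree.ofSect J U _ ψ), (Ext.mk₀_comp_mk₀ _ _).trans (congrArg Ext.mk₀ ?_)⟩
          have h4 : CohFree.evalGen J U (F.obj (op n)) (CohFree.ofSect J U _ ψ ≫ LimH.trans F n) =
              CohFree.evalGen J U (F.obj (op n)) φ := by
            rw [LimH.evalGen_comp, CohFree.evalGen_ofSect, hψ]
          have h5 := congrArg (CohFree.ofSect J U (F.obj (op n))) h4
          rwa [CohFree.ofSect_evalGen, CohFree.ofSect_evalGen] at h5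
        | succ q =>
          haveI := hF n U hU q
          exact ⟨0, Subsingleton.elim (α := CohSite.HU (F.obj (op n)) (q + 1) U) _ _⟩
      choose g hg using hlift
      let w : ∀ n, Ext (CohCx.freeSheaf J U) (F.obj (op n)) p := fun n =>
        Nat.rec (motive := fun n => Ext (CohCx.freeSheaf J U) (F.obj (op n)) p) 0
          (fun k wk => g k (wk - z k)) n
      refine ⟨w, fun n => ?_⟩
      rw [show w (n + 1) = g n (w n - z n) from rfl, hg, sub_sub_cancel]
    · haveI := hF n U hU p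
      exact Subsingleton.elim (α := CohSite.HU (F.obj (op n)) (p + 1) U) _ _
  refine ⟨fun x y => ?_⟩
  have hz : ∀ x : Ext (CohCx.freeSheaf J U) pt (p + 1), x = 0 := fun x => by
    have h2 := congrArg (fun z => Ext.comp z (Ext.mk₀ i.inv) (add_zero _)) (h0 (x.comp (Ext.mk₀ i.hom) (add_zero _)))
    simpa using h2
  exact (hz x).trans (hz y).symm

variable {D : Type*} [Category.{u} D] (S : D ⥤ Sheaf J AddCommGrpCat.{u}) (G : ℕᵒᵖ ⥤ D)
  [HasLimit G] [PreservesLimit G S]
  (hF' : ∀ n, LimH.Acyc B (S.obj (G.obj (op n))))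
  (hs' : ∀ U ∈ B, ∀ n, Function.Surjective
    ((S.map (G.map (homOfLE (Nat.le_succ n)).op)).hom.app (op U)).hom)

include hB hF' hs' in
/-- The exact sequence for sheaf cohomology of a limit, with the groups of the terms. -/
theorem exists_ses_H (p : ℕ) :
    ∃ (α : Formal2.limOne (fun n => Sheaf.H (S.obj (G.obj (op n))) p)
          (fun n => Sheaf.H.map (S.map (G.map (homOfLE (Nat.le_succ n)).op)) p) →+
        Sheaf.H (S.obj (limit G)) (p + 1))
      (β : Sheaf.H (S.obj (limit G)) (p + 1) →+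
        Formal2.limZero (fun n => Sheaf.H (S.obj (G.obj (op n))) (p + 1))
          (fun n => Sheaf.H.map (S.map (G.map (homOfLE (Nat.le_succ n)).op)) (p + 1))),
      Function.Injective α ∧ Function.Surjective β ∧ α.range = β.ker ∧
      ∀ (x : Sheaf.H (S.obj (limit G)) (p + 1)) (n : ℕ),
        (β x : ∀ n, Sheaf.H (S.obj (G.obj (op n))) (p + 1)) n =
          Sheaf.H.map (S.map (limit.π G (op n))) (p + 1) x :=
  exists_ses (G ⋙ S) hB hF' hs' _ _ (preservesLimitIso S G) (fun n => preservesLimitIso_hom_π S G (op n)) p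

include hB hF' hs' in
theorem acyc_limit : LimH.Acyc B (S.obj (limit G)) :=
  acyc_pt (G ⋙ S) hB hF' hs' (fun n => S.map (limit.π G (op n))) (preservesLimitIso S G)
    (fun n => preservesLimitIso_hom_π S G (op n))

end Generic

section Scheme

attribute [local instance 10000] H15Site.SiteInst.hasSheafifySite H15Site.SiteInst.hasWeakSheafifySite
  H15Site.SiteInst.hasExtSite H15Site.SiteInst.enoughInjSite

variable {X : Scheme.{u}} (G : ℕᵒᵖ ⥤ X.Modules) (hq : ∀ n, Coh.IsQCoh (G.obj (op n)))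
  (hepi : ∀ n : ℕ, Epi (G.map (homOfLE (Nat.le_succ n)).op))

theorem preservesLimit_sh : PreservesLimit G (H10Coh.shF X) := by
  haveI : PreservesLimitsOfSize.{u, u} (SheafOfModules.toSheaf.{u} X.ringCatSheaf ⋙
      sheafToPresheaf (Opens.grothendieckTopology X.toTopCat) AddCommGrpCat.{u}) :=
    inferInstanceAs (PreservesLimitsOfSize.{u, u}
      (SheafOfModules.forget.{u} X.ringCatSheaf ⋙ PresheafOfModules.toPresheaf _))
  haveI : PreservesLimitsOfSize.{u, u} (SheafOfModules.toSheaf.{u} X.ringCatSheaf) :=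
    preservesLimits_of_reflects_of_preserves _ (sheafToPresheaf (Opens.grothendieckTopology X.toTopCat) AddCommGrpCat.{u})
  haveI : PreservesLimitsOfSize.{0, 0} (H10Coh.shF X) :=
    preservesSmallestLimits_of_preservesLimits (SheafOfModules.toSheaf.{u} X.ringCatSheaf)
  infer_instance

include hq in
theorem acyc_term (n : ℕ) :
    LimH.Acyc {U : X.Opens | IsAffineOpen U} ((H10Coh.shF X).obj (G.obj (op n))) := fun U hU p => by
  haveI : (G.obj (op n)).IsQuasicoherent := hq n
  exact H10Coh.subsingleton_HnM_of_isAffineOpen (G.obj (op n)) hU p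

include hq hepi in
theorem surjective_trans (U : X.Opens) (hU : IsAffineOpen U) (n : ℕ) :
    Function.Surjective
      (((H10Coh.shF X).map (G.map (homOfLE (Nat.le_succ n)).op)).hom.app (op U)).hom := by
  haveI : (G.obj (op n)).IsQuasicoherent := hq n
  haveI : (G.obj (op (n + 1))).IsQuasicoherent := hq (n + 1)
  haveI := hepi n
  exact H10Coh.surjective_app_of_epi (G.map (homOfLE (Nat.le_succ n)).op) hU

include hq hepi in
/-- The limit has no higher cohomology on affine opens. -/
theorem subsingleton_HHon_limit {U : X.Opens} (hU : IsAffineOpen U) {p : ℕ} (hp : 0 < p) :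
    Subsingleton (Coh.HHon X (limit G) U p) := by
  obtain ⟨q, rfl⟩ := Nat.exists_eq_succ_of_ne_zero hp.ne'
  haveI := preservesLimit_sh G
  have hA := acyc_limit (LimTop.isCovering_of_isBasis X.isBasis_affineOpens) (H10Coh.shF X) G
      (acyc_term G hq) (fun V hV => surjective_trans G hq hepi V hV)
  have h : Subsingleton (H10Coh.HnM (limit G) (q + 1) U) := hA U hU q
  rw [show U = U.ι ''ᵁ ⊤ by simp] at h
  have := (H10Coh.restrEquivM U.ι (limit G) (q + 1) ⊤).symm.toEquiv.subsingleton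
  exact (H10Coh.HHEquiv ((limit G).restrict U.ι) (q + 1)).toEquiv.subsingleton

include hq hepi in
theorem exists_ses_HH (p : ℕ) :
    ∃ (α : Formal2.limOne (fun n => Coh.HH X (G.obj (op n)) p) (Formal2.HHsysMap G p) →+
        Coh.HH X (limit G) (p + 1))
      (β : Coh.HH X (limit G) (p + 1) →+
        Formal2.limZero (fun n => Coh.HH X (G.obj (op n)) (p + 1)) (Formal2.HHsysMap G (p + 1))),
      Function.Injective α ∧ Function.Surjective β ∧ α.range = β.ker ∧
      ∀ (x : Coh.HH X (limit G) (p + 1)) (n : ℕ),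
        (β x : ∀ n, Coh.HH X (G.obj (op n)) (p + 1)) n =
          Sheaf.H.map ((SheafOfModules.toSheaf _).map (limit.π G (op n))) (p + 1) x := by
  haveI := preservesLimit_sh G
  exact exists_ses_H (LimTop.isCovering_of_isBasis X.isBasis_affineOpens) (H10Coh.shF X) G
    (acyc_term G hq) (fun V hV => surjective_trans G hq hepi V hV) p

end Scheme

theorem epi_of_isQCohFormal {A : Type u} [CommRing A] {I : Ideal A} {X : Scheme.{u}}
    [X.Over (Spec (CommRingCat.of A))] {G : ℕᵒᵖ ⥤ X.Modules} (hG : Formal2.IsQCohFormal I G) (n : ℕ) :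
    Epi (G.map (homOfLE (Nat.le_succ n)).op) := by
  obtain ⟨h, hiso⟩ := hG.2.2 n
  rw [← cokernel.π_desc _ _ h]
  exact epi_comp _ _

end Groth.Agent.H24FMod.LimScheme
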