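import Groth.Agent.H15Site.ModTensor
import Groth.Agent.H15Site.ModRel
import Mathlib.CategoryTheory.Limits.Types.Limits
import Mathlib.Algebra.Category.ModuleCat.Sheaf.Limits
import Mathlib.CategoryTheory.Functor.OfSequence

/-!
# Sections of limits of sequences of sheaves of modules and of rings on a ringed site
-/

set_option autoImplicit false
set_option linter.style.haveILetI false
universe u

open CategoryTheory CategoryTheory.Limits Opposite

namespace Groth.Agent.H24FMod

open H15Site.ModTensor H15Site.ModRel

variable {C : Type u} [SmallCategory C] {J : GrothendieckTopology C} {O : Sheaf J CommRingCat.{u}}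

/-- Sections over an object. -/
noncomputable def secFun (O : Sheaf J CommRingCat.{u}) (U : C) : ModSite.Mod O ⥤ Type u :=
  forg O ⋙ PresheafOfModules.evaluation _ (op U) ⋙ forget (ModuleCat.{u} _)

theorem preservesLimit_secFun (G : ℕᵒᵖ ⥤ ModSite.Mod O) (U : C) : PreservesLimit G (secFun O U) :=
  let G' : ℕᵒᵖ ⥤ SheafOfModules.{u} (ModSite.ringSh O) := G
  haveI : PreservesLimit G (forg O) :=
    inferInstanceAs (PreservesLimit G' (SheafOfModules.forget.{u} (ModSite.ringSh O)))
  haveI : PreservesLimit (G ⋙ forg O)
      (PresheafOfModules.evaluation (O.obj ⋙ forget₂ CommRingCat.{u} RingCat.{u}) (op U)) := inferInstance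
  haveI : PreservesLimit ((G ⋙ forg O) ⋙
      PresheafOfModules.evaluation (O.obj ⋙ forget₂ CommRingCat.{u} RingCat.{u}) (op U))
      (forget (ModuleCat.{u} _)) := inferInstance
  inferInstanceAs (PreservesLimit G (_ ⋙ _ ⋙ _))

/-- A compatible sequence of sections is a section of the limit. -/
theorem exists_limit_section (G : ℕᵒᵖ ⥤ ModSite.Mod O) (U : C)
    (s : ∀ n : ℕ, ((forg O).obj (G.obj (op n))).obj (op U))
    (hs : ∀ n, ((G.map (homOfLE (Nat.le_add_right n 1)).op).val.app (op U)).hom (s (n + 1)) = s n) :
    ∃ t : ((forg O).obj (limit G)).obj (op U), ∀ n, ((limit.π G (op n)).val.app (op U)).hom t = s n := by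
  haveI := preservesLimit_secFun G U
  let h := isLimitOfPreserves (secFun O U) (limit.isLimit G)
  have hm : ∀ (m n : ℕ) (hmn : m ≤ n), (secFun O U).map (G.map (homOfLE hmn).op) (s n) = s m := by
    intro m n hmn
    induction hmn with
    | refl =>
      rw [show (homOfLE (le_refl m)).op = 𝟙 (op m) from Subsingleton.elim _ _, G.map_id, (secFun O U).map_id]
      rfl
    | @step n hle ih =>
      rw [show (homOfLE (Nat.le_succ_of_le hle)).op = (homOfLE (Nat.le_add_right n 1)).op ≫ (homOfLE hle).op from
        Subsingleton.elim _ _, G.map_comp, (secFun O U).map_comp]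
      exact (congrArg ((secFun O U).map (G.map (homOfLE hle).op)) (hs n)).trans ih
  let sec : (G ⋙ secFun O U).sections := ⟨fun j => s j.unop, fun {i j} f => by
    have hf : f = (homOfLE (leOfHom f.unop)).op := Subsingleton.elim _ _
    rw [hf]
    exact hm j.unop i.unop (leOfHom f.unop)⟩
  refine ⟨(Types.isLimitEquivSections h).symm sec, fun n => ?_⟩
  exact Types.isLimitEquivSections_symm_apply h sec (op n)

/-- Sections of the limit are determined by their projections. -/
theorem limit_section_ext (G : ℕᵒᵖ ⥤ ModSite.Mod O) (U : C) (x y : ((forg O).obj (limit G)).obj (op U))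
    (hxy : ∀ n, ((limit.π G (op n)).val.app (op U)).hom x = ((limit.π G (op n)).val.app (op U)).hom y) :
    x = y := by
  haveI := preservesLimit_secFun G U
  let h := isLimitOfPreserves (secFun O U) (limit.isLimit G)
  refine (Types.isLimitEquivSections h).injective (Subtype.ext (funext fun j => ?_))
  exact hxy j.unop

/-- Sections of a limit of a sequence of sheaves of rings are determined by their projections. -/
theorem limit_ring_ext (R : ℕᵒᵖ ⥤ Sheaf J CommRingCat.{u}) (U : C) (x y : (limit R).obj.obj (op U))
    (hxy : ∀ n, (limit.π R (op n)).hom.app (op U) x = (limit.π R (op n)).hom.app (op U) y) : x = y := by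
  let G : Sheaf J CommRingCat.{u} ⥤ Type u :=
    sheafToPresheaf _ _ ⋙ (evaluation _ _).obj (op U) ⋙ forget CommRingCat.{u}
  let h := isLimitOfPreserves G (limit.isLimit R)
  refine (Types.isLimitEquivSections h).injective (Subtype.ext (funext fun j => ?_))
  exact hxy j.unop

/-- A compatible sequence of sections of a sequence of sheaves of rings comes from the limit. -/
theorem exists_limit_ring (R : ℕᵒᵖ ⥤ Sheaf J CommRingCat.{u}) (U : C)
    (s : ∀ n : ℕ, (R.obj (op n)).obj.obj (op U))
    (hs : ∀ n, (R.map (homOfLE (Nat.le_add_right n 1)).op).hom.app (op U) (s (n + 1)) = s n) :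
    ∃ t : (limit R).obj.obj (op U), ∀ n, (limit.π R (op n)).hom.app (op U) t = s n := by
  let G : Sheaf J CommRingCat.{u} ⥤ Type u :=
    sheafToPresheaf _ _ ⋙ (evaluation _ _).obj (op U) ⋙ forget CommRingCat.{u}
  let h := isLimitOfPreserves G (limit.isLimit R)
  have hm : ∀ (m n : ℕ) (hmn : m ≤ n), G.map (R.map (homOfLE hmn).op) (s n) = s m := by
    intro m n hmn
    induction hmn with
    | refl =>
      rw [show (homOfLE (le_refl m)).op = 𝟙 (op m) from Subsingleton.elim _ _, R.map_id, G.map_id]
      rfl
    | @step n hle ih =>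
      rw [show (homOfLE (Nat.le_succ_of_le hle)).op = (homOfLE (Nat.le_add_right n 1)).op ≫ (homOfLE hle).op from
        Subsingleton.elim _ _, R.map_comp, G.map_comp]
      exact (congrArg (G.map (R.map (homOfLE hle).op)) (hs n)).trans ih
  let sec : (R ⋙ G).sections := ⟨fun j => s j.unop, fun {i j} f => by
    have hf : f = (homOfLE (leOfHom f.unop)).op := Subsingleton.elim _ _
    rw [hf]
    exact hm j.unop i.unop (leOfHom f.unop)⟩
  exact ⟨(Types.isLimitEquivSections h).symm sec, fun n => Types.isLimitEquivSections_symm_apply h sec (op n)⟩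

end Groth.Agent.H24FMod
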