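import Groth.Agent.H29Fitt.LocFree
import Groth.Agent.H29Fitt.Comap
import Groth.Agent.H24GE.Sys
import Groth.Prelude.Def_FSch3
import Mathlib.RingTheory.Filtration
import Mathlib.RingTheory.Spectrum.Prime.Topology

/-!
# Local freeness can be checked on the thickenings of the closed fibre
-/

set_option autoImplicit false
set_option linter.style.haveILetI false
universe u

open CategoryTheory AlgebraicGeometry TopologicalSpace

namespace Groth.Agent.H24FMod

variable {X : Scheme.{u}}

/-- Over a closed map to a complete base an open containing the closed fibre is everything. -/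
theorem eq_top_of_fibre_subset {A : Type u} [CommRing A] (J : Ideal A) [IsAdicComplete J A]
    (f : X ⟶ Spec (CommRingCat.of A)) (hf : IsClosedMap f.base) (O : X.Opens)
    (h : ∀ x : X, f x ∈ (FSch.idealSpec A J).support → x ∈ O) : O = ⊤ := by
  refine eq_top_iff.2 fun x _ => ?_
  by_contra hx
  have hC := hf _ (O.isOpen.isClosed_compl)
  let p : PrimeSpectrum A := f x
  obtain ⟨m, hm, hpm⟩ := Ideal.exists_le_maximal p.asIdeal p.isPrime.ne_top
  let q : PrimeSpectrum A := ⟨m, hm.isPrime⟩
  have hq : q ∈ f.base '' (O : Set X)ᶜ :=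
    hC.closure_subset_iff.2 (Set.singleton_subset_iff.2 ⟨x, hx, rfl⟩) ((PrimeSpectrum.le_iff_mem_closure p q).1 hpm)
  obtain ⟨y, hy, hyq⟩ := hq
  refine hy (h y ?_)
  rw [FSch.idealSpec, ← SetLike.mem_coe, Scheme.Hom.support_ker]
  refine subset_closure ?_
  have hJm : J ≤ m := (IsAdicComplete.le_jacobson_bot J).trans (sInf_le ⟨bot_le, hm⟩)
  have hq' : q ∈ Set.range (PrimeSpectrum.comap (Ideal.Quotient.mk J)) := by
    rw [range_comap_of_surjective _ _ Ideal.Quotient.mk_surjective, Ideal.mk_ker]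
    exact hJm
  obtain ⟨r, hr⟩ := hq'
  exact ⟨r, hr.trans hyq.symm⟩

/-- An ideal sheaf inside all powers of another one vanishes near its zero locus. -/
theorem exists_affine_ideal_eq_bot [IsLocallyNoetherian X] (I K : X.IdealSheafData) (h : ∀ n : ℕ, K ≤ I ^ n)
    {x : X} (hx : x ∈ I.support) : ∃ W : X.affineOpens, x ∈ W.1 ∧ K.ideal W = ⊥ := by
  classical
  obtain ⟨V, hV, hxV, -⟩ := exists_isAffineOpen_mem_and_subset (x := x) (U := (⊤ : X.Opens)) trivial
  obtain ⟨U, hxU⟩ : ∃ U : X.affineOpens, x ∈ U.1 := ⟨⟨V, hV⟩, hxV⟩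
  haveI := H24GE.isNoetherianRing_sections U.2
  obtain ⟨s, hs⟩ := IsNoetherian.noetherian (K.ideal U)
  have hg : ∀ g ∈ s, ∃ i ∈ I.ideal U, i * g = g := fun g hg => by
    have hm : g ∈ ⨅ n : ℕ, I.ideal U ^ n • (⊤ : Submodule Γ(X, U.1) Γ(X, U.1)) := by
      refine (Submodule.mem_iInf _).2 fun n => ?_
      rw [smul_eq_mul, Ideal.mul_top, ← Pi.pow_apply, ← Scheme.IdealSheafData.ideal_pow]
      exact h n U (hs ▸ Submodule.subset_span hg)
    obtain ⟨r, hr⟩ := (Ideal.mem_iInf_smul_pow_eq_bot_iff _ g).1 hm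
    exact ⟨r, r.2, hr⟩
  choose i hi hig using hg
  let c : Γ(X, U.1) := ∏ g ∈ s.attach, (1 - i g.1 g.2)
  have hc : ∀ g ∈ s, c * g = 0 := fun g hgs => by
    rw [show c = (1 - i g hgs) * ∏ e ∈ s.attach.erase ⟨g, hgs⟩, (1 - i e.1 e.2) from
      (Finset.mul_prod_erase _ (fun e => 1 - i e.1 e.2) (Finset.mem_attach _ ⟨g, hgs⟩)).symm, mul_right_comm, sub_mul, one_mul,
      hig g hgs, sub_self, zero_mul]
  have hxc : x ∈ X.basicOpen c := by
    refine (X.mem_basicOpen c x hxU).2 ?_
    simp only [c, map_prod]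
    refine (IsUnit.prod_iff.2 fun e _ => ?_)
    rw [map_sub, map_one]
    refine IsLocalRing.isUnit_one_sub_self_of_mem_nonunits _ fun hu => ?_
    have hz := (I.coe_support_inter U).le ⟨hx, hxU⟩
    exact (Scheme.mem_zeroLocus_iff _ _ _).1 hz.1 _ (hi e.1 e.2) ((X.mem_basicOpen _ x hxU).2 hu)
  refine ⟨X.affineBasicOpen c, hxc, ?_⟩
  refine (K.map_ideal_basicOpen U c).symm.trans (eq_bot_iff.2 (Ideal.map_le_iff_le_comap.2 (hs.ge.trans (Submodule.span_le.2 ?_))))
  intro g hgs
  let r := (X.presheaf.map (homOfLE (X.basicOpen_le c)).op).hom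
  have hu : IsUnit (r c) := X.toRingedSpace.isUnit_res_basicOpen c
  refine Ideal.mem_comap.2 (Ideal.mem_bot.2 ?_)
  exact hu.mul_right_eq_zero.1 ((map_mul r c g).symm.trans ((congrArg r (hc g hgs)).trans (map_zero r)))

/-- A coherent module locally free of rank `r` on all thickenings of the closed fibre is locally free of rank `r`. -/
theorem isFinLocFreeOfRank_of_levels [IsLocallyNoetherian X] {A : Type u} [CommRing A] (J : Ideal A)
    [IsAdicComplete J A] (f : X ⟶ Spec (CommRingCat.of A)) (hf : IsClosedMap f.base) (I : X.IdealSheafData)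
    (hI : I = (FSch.idealSpec A J).comap f) (F : X.Modules) (hF : Coh.IsCoh F) (r : ℕ)
    (h : ∀ n : ℕ, FlatMod.IsFinLocFreeOfRank r ((Scheme.Modules.pullback (FSch.completionToX X I n)).obj F)) :
    FlatMod.IsFinLocFreeOfRank r F := by
  have hft := hF.2
  have hl := fun n => (H29Fitt.isFinLocFreeOfRank_iff _ (H29Fitt.isQCoh_pullback _ F hF.1)
    (H29Fitt.isFT_pullback _ F hF.1 hft) r).1 (h n)
  have hfib : ∀ x : X, f x ∈ (FSch.idealSpec A J).support → x ∈ I.support := fun x hx => by
    rw [hI, Scheme.IdealSheafData.support_comap]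
    exact hx
  refine (H29Fitt.isFinLocFreeOfRank_iff F hF.1 hft r).2 ⟨fun k hk => ?_, fun k hk => ?_⟩
  · have hle : ∀ n : ℕ, Fitt.sheafIdeal F k ≤ I ^ n := fun n => by
      rcases n with _ | n
      · rw [pow_zero]; exact le_top
      · have e := (H29Fitt.sheafIdeal_comap (FSch.completionToX X I n) F hF.1 hft k).trans ((hl n).1 k hk)
        refine ((Scheme.IdealSheafData.le_map_iff_comap_le).2 e.le).trans ?_
        exact (Scheme.IdealSheafData.map_bot _).le.trans (Scheme.IdealSheafData.ker_subschemeι _).le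
    let O : X.Opens := ⨆ W : { W : X.affineOpens // (Fitt.sheafIdeal F k).ideal W = ⊥ }, W.1.1
    have hO : O = ⊤ := eq_top_of_fibre_subset J f hf O fun x hx => by
      obtain ⟨W, hxW, hW⟩ := exists_affine_ideal_eq_bot I _ hle (hfib x hx)
      exact Opens.mem_iSup.2 ⟨⟨W, hW⟩, hxW⟩
    exact Scheme.IdealSheafData.ext_of_iSup_eq_top _ hO fun W => W.2.trans (by simp)
  · rw [← Scheme.IdealSheafData.support_eq_bot_iff]
    let K := Fitt.sheafIdeal F k
    let O : X.Opens := ⟨(K.support : Set X)ᶜ, K.support.isClosed.isOpen_compl⟩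
    have hO : O = ⊤ := eq_top_of_fibre_subset J f hf O fun x hx hxK => by
      have hx0 : x ∈ Set.range (FSch.completionToX X I 0) := by
        show x ∈ Set.range (I ^ (0 + 1)).subschemeι
        erw [Scheme.IdealSheafData.range_subschemeι]
        rw [zero_add, pow_one]
        exact hfib x hx
      obtain ⟨z, rfl⟩ := hx0
      have hz : z ∈ (K.comap (FSch.completionToX X I 0)).support := by
        rw [Scheme.IdealSheafData.support_comap]; exact hxK
      rw [H29Fitt.sheafIdeal_comap (FSch.completionToX X I 0) F hF.1 hft k, (hl 0).2 k hk,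
        Scheme.IdealSheafData.support_top] at hz
      exact hz
    exact Closeds.ext (Set.eq_empty_of_forall_notMem fun x hx => (hO.ge (Set.mem_univ x) : x ∈ O) hx)

end Groth.Agent.H24FMod
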