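import Groth.Agent.H24FMod.AlgPred
import Mathlib.RingTheory.AdicCompletion.Basic
import Mathlib.RingTheory.Spectrum.Prime.Topology

/-!
# Injectivity and surjectivity can be checked on the completion along the closed fibre
-/

set_option autoImplicit false
set_option linter.style.haveILetI false
set_option linter.unusedSectionVars false
universe u

open CategoryTheory CategoryTheory.Limits AlgebraicGeometry TopologicalSpace Opposite

namespace Groth.Agent.H24FMod

variable {X : Scheme.{u}} {𝔛 : FSch.Sys.{u}} (c : ∀ n, 𝔛.X n ⟶ X)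
  (T : ∀ n, Scheme.Modules.pullback (c (n + 1)) ⋙ Scheme.Modules.pullback (𝔛.ι n) ≅ Scheme.Modules.pullback (c n))
  (h : 𝔛.IsFormal)

/-- The completion of a morphism. -/
noncomputable abbrev cplM {F G : X.Modules} (f : F ⟶ G) :
    (pbSys c T F).realMod h ⟶ (pbSys c T G).realMod h :=
  FSch.ModSys.realModMap h (pbMap c T f)

theorem cplM_proj {F G : X.Modules} (f : F ⟶ G) (k : ℕ) :
    cplM c T h f ≫ FSch.realProj 𝔛 h (pbSys c T G).F (pbSys c T G).toPush k =
      FSch.realProj 𝔛 h (pbSys c T F).F (pbSys c T F).toPush k ≫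
        (FSch.levelMor 𝔛 h k).push.map ((Scheme.Modules.pullback (c k)).map f) :=
  FSch.realLimMap_realProj 𝔛 h (pbMap c T f).app (FSch.ModSys.Hom.toPush_comm (pbMap c T f)) k

theorem cplM_comp {F G H : X.Modules} (f : F ⟶ G) (g : G ⟶ H) :
    cplM c T h (f ≫ g) = cplM c T h f ≫ cplM c T h g := by
  refine limit.hom_ext fun j => ?_
  obtain ⟨k⟩ := j
  show cplM c T h (f ≫ g) ≫ FSch.realProj 𝔛 h (pbSys c T H).F (pbSys c T H).toPush k = _
  refine (cplM_proj c T h _ k).trans (Eq.trans ?_ (Category.assoc _ _ _).symm)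
  refine Eq.trans ?_ (congrArg (cplM c T h f ≫ ·) (cplM_proj c T h g k)).symm
  refine Eq.trans ?_ ((Category.assoc _ _ _).symm.trans
    (congrArg (· ≫ (FSch.levelMor 𝔛 h k).push.map ((Scheme.Modules.pullback (c k)).map g)) (cplM_proj c T h f k))).symm
  refine Eq.trans ?_ (Category.assoc _ _ _).symm
  refine congrArg (FSch.realProj 𝔛 h (pbSys c T F).F (pbSys c T F).toPush k ≫ ·) ?_
  exact (congrArg _ ((Scheme.Modules.pullback (c k)).map_comp f g)).trans ((FSch.levelMor 𝔛 h k).push.map_comp _ _)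

theorem cplM_zero (F G : X.Modules) : cplM c T h (0 : F ⟶ G) = 0 := by
  refine limit.hom_ext fun j => ?_
  obtain ⟨k⟩ := j
  show cplM c T h (0 : F ⟶ G) ≫ FSch.realProj 𝔛 h (pbSys c T G).F (pbSys c T G).toPush k = _
  haveI := (Scheme.Modules.pullbackPushforwardAdjunction (c k)).left_adjoint_additive
  have e : (FSch.levelMor 𝔛 h k).push.map ((Scheme.Modules.pullback (c k)).map (0 : F ⟶ G)) = 0 :=
    (congrArg _ (Functor.map_zero (Scheme.Modules.pullback (c k)) F G)).trans (hom_ext_sec fun U x => rfl)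
  refine (cplM_proj c T h _ k).trans ((congrArg (_ ≫ ·) e).trans (comp_zero.trans zero_comp.symm))

variable [IsLocallyNoetherian X] [∀ n, IsClosedImmersion (c n)] (hc : ∀ n, 𝔛.ι n ≫ c (n + 1) = c n)
  (hT : ∀ n, T n = Scheme.Modules.pullbackComp (𝔛.ι n) (c (n + 1)) ≪≫ Scheme.Modules.pullbackCongr (hc n))

/-- A coherent module with zero completion does not meet the closed subscheme. -/
theorem disjoint_support_of_isZero (hL : 𝔛.IsLocNoethFormal) {K : X.Modules} (hK : Coh.IsCoh K)
    (hz : IsZero ((pbSys c T K).realMod hL.1)) (z : 𝔛.X 0) : c 0 z ∉ CohB1.support K := by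
  intro hx
  have h0 : Coh.IsCoh ((pbSys c T K).F 0) := H17.ConsProp.isCoh_pullback _ hK
  haveI := epi_realProj (hL := hL) (𝔐 := pbSys c T K) (fun n => H17.ConsProp.isCoh_pullback _ hK) 0
  have hp : IsZero ((FSch.levelMor 𝔛 hL.1 0).push.obj ((pbSys c T K).F 0)) :=
    IsZero.of_epi (FSch.realProj 𝔛 hL.1 (pbSys c T K).F (pbSys c T K).toPush 0) hz
  have hF : IsZero ((pbSys c T K).F 0) := (IsZero.iff_id_eq_zero _).2 (push_map_injective (hL := hL) (hp.eq_of_src _ _))
  have hz' : z ∈ CohB1.support ((Scheme.Modules.pullback (c 0)).obj K) := by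
    rw [LeadProper.support_pullback K hK.1 hK.2 (c 0)]; exact hx
  exact (LeadDev.support_eq_empty_of_isZero hF).le hz'

variable {I : X.IdealSheafData}
  (hc𝓘 : ∀ n (V : X.Opens) (hV : IsAffineOpen V), RingHom.ker ((c n).app V).hom = (I.ideal ⟨V, hV⟩) ^ (n + 1))

include hc hT hc𝓘 in
/-- Completion is exact. -/
theorem shortExact_cplM {S : ShortComplex X.Modules} (hS : S.ShortExact) (h1 : Coh.IsCoh S.X₁)
    (h2 : Coh.IsCoh S.X₂) (h3 : Coh.IsCoh S.X₃) :
    ∃ w : cplM c T h S.f ≫ cplM c T h S.g = 0, (ShortComplex.mk _ _ w).ShortExact :=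
  ⟨(cplM_comp c T h S.f S.g).symm.trans ((congrArg _ S.zero).trans (cplM_zero c T h _ _)),
    shortExact_complMod h c hc T hT I hc𝓘 hS h1 h2 h3 _⟩

theorem shortExact_kernel {C : Type*} [Category C] [Abelian C] {P Q : C} (u : P ⟶ Q) [Epi u] :
    (ShortComplex.mk (kernel.ι u) u (kernel.condition u)).ShortExact :=
  { exact := ShortComplex.exact_of_f_is_kernel _ (kernelIsKernel u), mono_f := inferInstance, epi_g := inferInstance }

theorem shortExact_cokernel {C : Type*} [Category C] [Abelian C] {P Q : C} (u : P ⟶ Q) [Mono u] :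
    (ShortComplex.mk u (cokernel.π u) (cokernel.condition u)).ShortExact :=
  { exact := ShortComplex.exact_of_g_is_cokernel _ (cokernelIsCokernel u), mono_f := inferInstance, epi_g := inferInstance }

variable {F G : X.Modules} (hF : Coh.IsCoh F) (hG : Coh.IsCoh G) (u : F ⟶ G)

include hc hT hc𝓘 hF hG in
/-- The kernel of a monomorphism after completion has zero completion, and dually. -/
theorem isZero_of_mono_epi (hL : 𝔛.IsLocNoethFormal) :
    (Mono (cplM c T hL.1 u) → IsZero ((pbSys c T (kernel u)).realMod hL.1)) ∧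
    (Epi (cplM c T hL.1 u) → IsZero ((pbSys c T (cokernel u)).realMod hL.1)) := by
  have hK := H10Coh.isCoh_kernel u hF hG.1
  have hC := H10Coh.isCoh_cokernel u hF.1 hG
  refine ⟨fun hm => ?_, fun he => ?_⟩
  · obtain ⟨w, hw⟩ := shortExact_cplM c T hL.1 hc hT hc𝓘 (shortExact_cokernel (kernel.ι u)) hK hF
      (H10Coh.isCoh_cokernel _ hK.1 hF)
    haveI : Mono (cplM c T hL.1 (kernel.ι u)) := hw.mono_f
    have : cplM c T hL.1 (kernel.ι u) = 0 := by
      rw [← cancel_mono (cplM c T hL.1 u), zero_comp, ← cplM_comp, kernel.condition, cplM_zero]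
    exact IsZero.of_mono_eq_zero _ this
  · obtain ⟨w, hw⟩ := shortExact_cplM c T hL.1 hc hT hc𝓘 (shortExact_kernel (cokernel.π u))
      (H10Coh.isCoh_kernel _ hG hC.1) hG hC
    haveI : Epi (cplM c T hL.1 (cokernel.π u)) := hw.epi_g
    have : cplM c T hL.1 (cokernel.π u) = 0 := by
      rw [← cancel_epi (cplM c T hL.1 u), comp_zero, ← cplM_comp, cokernel.condition, cplM_zero]
    exact IsZero.of_epi_eq_zero _ this

include hc hT hc𝓘 hF hG in
theorem mono_epi_cplM : (Mono u → Mono (cplM c T h u)) ∧ (Epi u → Epi (cplM c T h u)) := by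
  refine ⟨fun hm => ?_, fun he => ?_⟩
  · obtain ⟨w, hw⟩ := shortExact_cplM c T h hc hT hc𝓘 (shortExact_cokernel u) hF hG (H10Coh.isCoh_cokernel _ hF.1 hG)
    exact hw.mono_f
  · obtain ⟨w, hw⟩ := shortExact_cplM c T h hc hT hc𝓘 (shortExact_kernel u) (H10Coh.isCoh_kernel _ hF hG.1) hF hG
    exact hw.epi_g

/-- A module whose support avoids the zero locus of an ideal in the Jacobson radical vanishes, over a closed map. -/
theorem isZero_of_disjoint {A : Type u} [CommRing A] (J : Ideal A) [IsAdicComplete J A]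
    (f : X ⟶ Spec (CommRingCat.of A)) (hf : IsClosedMap f.base) (M : X.Modules) (hM : Coh.IsCoh M)
    (hd : ∀ x : X, f x ∈ (FSch.idealSpec A J).support → x ∉ CohB1.support M) : IsZero M := by
  suffices h : CohB1.support M = ∅ by
    refine (IsZero.iff_id_eq_zero _).2 (Scheme.Modules.hom_ext _ _ fun V => ?_)
    haveI := subsingleton_sections_of_disjoint M V fun y _ => by rw [h]; exact Set.notMem_empty y
    ext m
    exact Subsingleton.elim (α := Γ(M, V)) _ _
  by_contra h
  obtain ⟨x, hx⟩ := Set.nonempty_iff_ne_empty.2 h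
  have hC := hf _ (LeadProper.isClosed_support M hM.1 hM.2)
  let p : PrimeSpectrum A := f x
  obtain ⟨m, hm, hpm⟩ := Ideal.exists_le_maximal p.asIdeal p.isPrime.ne_top
  let q : PrimeSpectrum A := ⟨m, hm.isPrime⟩
  have hq : q ∈ f.base '' CohB1.support M :=
    hC.closure_subset_iff.2 (Set.singleton_subset_iff.2 ⟨x, hx, rfl⟩) ((PrimeSpectrum.le_iff_mem_closure p q).1 hpm)
  obtain ⟨y, hy, hyq⟩ := hq
  refine hd y ?_ hy
  rw [FSch.idealSpec, ← SetLike.mem_coe, Scheme.Hom.support_ker]
  refine subset_closure ?_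
  have hJm : J ≤ m := (IsAdicComplete.le_jacobson_bot J).trans (sInf_le ⟨bot_le, hm⟩)
  have hq' : q ∈ Set.range (PrimeSpectrum.comap (Ideal.Quotient.mk J)) := by
    rw [range_comap_of_surjective _ _ Ideal.Quotient.mk_surjective, Ideal.mk_ker]
    exact hJm
  obtain ⟨r, hr⟩ := hq'
  exact ⟨r, hr.trans hyq.symm⟩

end Groth.Agent.H24FMod
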