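import Groth.Agent.H24FMod.SysBridge
import Groth.Agent.H24FMod.PullSys
import Groth.Agent.H24FMod.Level

/-!
# Direct image of a completion along a proper morphism
-/

set_option autoImplicit false
set_option linter.style.haveILetI false
set_option linter.unusedSectionVars false
universe u

open CategoryTheory CategoryTheory.Limits AlgebraicGeometry TopologicalSpace Opposite

namespace Groth.Agent.H24FMod

open H15Site.ModTensor H15Site.ModRel H15Site.LocGen H15Site.LocPres H24GE H24Formal H24Formal.HomC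

theorem preimage_sq_le {P Q R S : Scheme.{u}} {a : P ⟶ Q} {b : Q ⟶ S} {c : P ⟶ R} {d : R ⟶ S} (h : a ≫ b = c ≫ d)
    (W : S.Opens) : a ⁻¹ᵁ (b ⁻¹ᵁ W) ≤ c ⁻¹ᵁ (d ⁻¹ᵁ W) :=
  (congrArg (· ⁻¹ᵁ W) h).le

variable {A : Type u} [CommRing A] {X Z : Scheme.{u}} (g : Z ⟶ X) {𝔛 ℨ : FSch.Sys.{u}}
  (c : ∀ n, 𝔛.X n ⟶ X) (hc : ∀ n, 𝔛.ι n ≫ c (n + 1) = c n)
  (T : ∀ n, Scheme.Modules.pullback (c (n + 1)) ⋙ Scheme.Modules.pullback (𝔛.ι n) ≅ Scheme.Modules.pullback (c n))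
  (hT : ∀ n, T n = Scheme.Modules.pullbackComp (𝔛.ι n) (c (n + 1)) ≪≫ Scheme.Modules.pullbackCongr (hc n))
  (k : ∀ n, ℨ.X n ⟶ Z) (hk' : ∀ n, ℨ.ι n ≫ k (n + 1) = k n)
  (T' : ∀ n, Scheme.Modules.pullback (k (n + 1)) ⋙ Scheme.Modules.pullback (ℨ.ι n) ≅ Scheme.Modules.pullback (k n))
  (hT' : ∀ n, T' n = Scheme.Modules.pullbackComp (ℨ.ι n) (k (n + 1)) ≪≫ Scheme.Modules.pullbackCongr (hk' n))
  (φ : ℨ ⟶ 𝔛) (hsq : ∀ n, k n ≫ g = (φ : FSch.Hom ℨ 𝔛).app n ≫ c n) (G : Z.Modules)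

/-- The base change maps of a direct image to the levels. -/
noncomputable def bcLevel (n : ℕ) :
    (Scheme.Modules.pullback (c n)).obj ((Scheme.Modules.pushforward g).obj G) ⟶
      (Scheme.Modules.pushforward ((φ : FSch.Hom ℨ 𝔛).app n)).obj ((Scheme.Modules.pullback (k n)).obj G) :=
  ((Scheme.Modules.pullbackPushforwardAdjunction (c n)).homEquiv _ _).symm
    ((Scheme.Modules.pushforward g).map ((Scheme.Modules.pullbackPushforwardAdjunction (k n)).unit.app G) ≫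
      ((Scheme.Modules.pushforwardComp (k n) g).app _ ≪≫ (Scheme.Modules.pushforwardCongr (hsq n)).app _ ≪≫
        ((Scheme.Modules.pushforwardComp ((φ : FSch.Hom ℨ 𝔛).app n) (c n)).app _).symm).hom)

theorem bcLevel_pullSect (n : ℕ) (V : X.Opens) (m : Γ((Scheme.Modules.pushforward g).obj G, V)) :
    (bcLevel g c k φ hsq G n).app (c n ⁻¹ᵁ V) (OmegaSh.pullSect (c n) ((Scheme.Modules.pushforward g).obj G) V m) =
      ((Scheme.Modules.pullback (k n)).obj G).presheaf.map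
        (homOfLE (show (φ : FSch.Hom ℨ 𝔛).app n ⁻¹ᵁ (c n ⁻¹ᵁ V) ≤ k n ⁻¹ᵁ (g ⁻¹ᵁ V) by
          rw [← Scheme.Hom.comp_preimage, ← Scheme.Hom.comp_preimage, hsq])).op
        (OmegaSh.pullSect (k n) G (g ⁻¹ᵁ V) m) := by
  have h := ((Scheme.Modules.pullbackPushforwardAdjunction (c n)).homEquiv_unit _ _ (bcLevel g c k φ hsq G n)).symm.trans
    (Equiv.apply_symm_apply _ _)
  refine (congrArg (fun q : (Scheme.Modules.pushforward g).obj G ⟶ (Scheme.Modules.pushforward (c n)).obj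
    ((Scheme.Modules.pushforward ((φ : FSch.Hom ℨ 𝔛).app n)).obj ((Scheme.Modules.pullback (k n)).obj G)) =>
      q.app V m) h).trans ?_
  exact rfl

include hc hT hk' hT' in
/-- The base change maps are compatible with the transitions. -/
theorem bcLevel_step (n : ℕ) :
    bcLevel g c k φ hsq G (n + 1) ≫
        (Scheme.Modules.pushforward ((φ : FSch.Hom ℨ 𝔛).app (n + 1))).map ((pbSys k T' G).toPush n) =
      (pbSys c T ((Scheme.Modules.pushforward g).obj G)).toPush n ≫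
        (Scheme.Modules.pushforward (𝔛.ι n)).map (bcLevel g c k φ hsq G n) ≫
        ((Scheme.Modules.pushforwardComp ((φ : FSch.Hom ℨ 𝔛).app n) (𝔛.ι n)).app _ ≪≫
          (Scheme.Modules.pushforwardCongr ((φ : FSch.Hom ℨ 𝔛).comm n)).app _ ≪≫
          ((Scheme.Modules.pushforwardComp (ℨ.ι n) ((φ : FSch.Hom ℨ 𝔛).app (n + 1))).app _).symm).hom := by
  refine ((Scheme.Modules.pullbackPushforwardAdjunction (c (n + 1))).homEquiv _ _).injective ?_
  refine (Adjunction.homEquiv_unit _ _ _ _).trans (Eq.trans ?_ (Adjunction.homEquiv_unit _ _ _ _).symm)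
  refine Scheme.Modules.hom_ext _ _ fun V => ?_
  ext m
  let M := (Scheme.Modules.pushforward g).obj G
  let G₀ := (Scheme.Modules.pullback (k n)).obj G
  let W := c (n + 1) ⁻¹ᵁ V
  let f₁ := (φ : FSch.Hom ℨ 𝔛).app (n + 1)
  let f₀ := (φ : FSch.Hom ℨ 𝔛).app n
  show ((pbSys k T' G).toPush n).app (f₁ ⁻¹ᵁ W) ((bcLevel g c k φ hsq G (n + 1)).app W (OmegaSh.pullSect (c (n + 1)) M V m)) =
    G₀.presheaf.map (homOfLE (preimage_sq_le ((φ : FSch.Hom ℨ 𝔛).comm n).symm W)).op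
      ((bcLevel g c k φ hsq G n).app (𝔛.ι n ⁻¹ᵁ W)
        (((pbSys c T M).toPush n).app W (OmegaSh.pullSect (c (n + 1)) M V m)))
  have l₀ : 𝔛.ι n ⁻¹ᵁ W ≤ c n ⁻¹ᵁ V := by rw [← Scheme.Hom.comp_preimage, hc]
  have l₁ : f₁ ⁻¹ᵁ W ≤ k (n + 1) ⁻¹ᵁ (g ⁻¹ᵁ V) := by
    rw [← Scheme.Hom.comp_preimage, ← Scheme.Hom.comp_preimage, hsq]
  have eL : ((pbSys k T' G).toPush n).app (f₁ ⁻¹ᵁ W) ((bcLevel g c k φ hsq G (n + 1)).app W
      (OmegaSh.pullSect (c (n + 1)) M V m)) =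
      G₀.presheaf.map (homOfLE (show ℨ.ι n ⁻¹ᵁ (f₁ ⁻¹ᵁ W) ≤ k n ⁻¹ᵁ (g ⁻¹ᵁ V) from
        (Scheme.Hom.preimage_mono _ l₁).trans (by rw [← Scheme.Hom.comp_preimage, hk']))).op
        (OmegaSh.pullSect (k n) G (g ⁻¹ᵁ V) m) := by
    refine (congrArg (((pbSys k T' G).toPush n).app (f₁ ⁻¹ᵁ W)) (bcLevel_pullSect g c k φ hsq G (n + 1) V m)).trans ?_
    refine (congr($(((pbSys k T' G).toPush n).mapPresheaf.naturality (homOfLE l₁).op)
      (OmegaSh.pullSect (k (n + 1)) G (g ⁻¹ᵁ V) m))).trans ?_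
    refine (congrArg (((Scheme.Modules.pushforward (ℨ.ι n)).obj G₀).presheaf.map (homOfLE l₁).op)
      (toPush_pullSect k hk' T' hT' G (g ⁻¹ᵁ V) n m)).trans ?_
    exact map_map_eq G₀ _ _ _
  have eR : (bcLevel g c k φ hsq G n).app (𝔛.ι n ⁻¹ᵁ W)
      (((pbSys c T M).toPush n).app W (OmegaSh.pullSect (c (n + 1)) M V m)) =
      G₀.presheaf.map (homOfLE (show f₀ ⁻¹ᵁ (𝔛.ι n ⁻¹ᵁ W) ≤ k n ⁻¹ᵁ (g ⁻¹ᵁ V) from
        (Scheme.Hom.preimage_mono _ l₀).trans (by rw [← Scheme.Hom.comp_preimage, ← Scheme.Hom.comp_preimage, hsq]))).op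
        (OmegaSh.pullSect (k n) G (g ⁻¹ᵁ V) m) := by
    refine (congrArg ((bcLevel g c k φ hsq G n).app (𝔛.ι n ⁻¹ᵁ W)) (toPush_pullSect c hc T hT M V n m)).trans ?_
    refine (congr($((bcLevel g c k φ hsq G n).mapPresheaf.naturality (homOfLE l₀).op)
      (OmegaSh.pullSect (c n) M V m))).trans ?_
    refine (congrArg (((Scheme.Modules.pushforward f₀).obj G₀).presheaf.map (homOfLE l₀).op)
      (bcLevel_pullSect g c k φ hsq G n V m)).trans ?_
    exact map_map_eq G₀ _ _ _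
  refine eL.trans (Eq.trans ?_ (congrArg (G₀.presheaf.map _) eR).symm)
  exact (map_map_eq G₀ _ _ _).symm

variable (h𝔛 : 𝔛.IsFormal) (hℨ : ℨ.IsFormal)

/-- The base change maps on sections over the opens of the common space. -/
noncomputable def bcSec (n : ℕ) (U : (𝔛.X 0).Opens) :
    Γ((pbSys c T ((Scheme.Modules.pushforward g).obj G)).F n, 𝔛.lvU h𝔛 n U) →+
      Γ((pbSys k T' G).F n, ℨ.lvU hℨ n (((φ : FSch.Hom ℨ 𝔛).app 0) ⁻¹ᵁ U)) where
  toFun y := ((pbSys k T' G).F n).presheaf.map (homOfLE (FSch.Hom.lvU_preimage φ hℨ h𝔛 n U).ge).op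
    ((bcLevel g c k φ hsq G n).app (𝔛.lvU h𝔛 n U) y)
  map_zero' := (congrArg _ (map_zero ((bcLevel g c k φ hsq G n).app (𝔛.lvU h𝔛 n U)).hom)).trans (map_zero _)
  map_add' a b := (congrArg _ (map_add ((bcLevel g c k φ hsq G n).app (𝔛.lvU h𝔛 n U)).hom a b)).trans (map_add _ _ _)

include hc hT hk' hT' in
theorem tr_bcSec (n : ℕ) (U : (𝔛.X 0).Opens)
    (y : Γ((pbSys c T ((Scheme.Modules.pushforward g).obj G)).F (n + 1), 𝔛.lvU h𝔛 (n + 1) U)) :
    tr hℨ (pbSys k T' G).F (pbSys k T' G).toPush n (((φ : FSch.Hom ℨ 𝔛).app 0) ⁻¹ᵁ U)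
        (bcSec g c T k T' φ hsq G h𝔛 hℨ (n + 1) U y) =
      bcSec g c T k T' φ hsq G h𝔛 hℨ n U
        (tr h𝔛 (pbSys c T ((Scheme.Modules.pushforward g).obj G)).F
          (pbSys c T ((Scheme.Modules.pushforward g).obj G)).toPush n U y) := by
  let P := pbSys k T' G
  let M := pbSys c T ((Scheme.Modules.pushforward g).obj G)
  let f₀ := (φ : FSch.Hom ℨ 𝔛).app n
  let W := 𝔛.lvU h𝔛 (n + 1) U
  let B := bcLevel g c k φ hsq G n
  show (P.F n).presheaf.map (homOfLE (ℨ.lvU_le hℨ n _)).op ((P.toPush n).app _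
      ((P.F (n + 1)).presheaf.map _ ((bcLevel g c k φ hsq G (n + 1)).app W y))) =
    (P.F n).presheaf.map _ (B.app _ ((M.F n).presheaf.map (homOfLE (𝔛.lvU_le h𝔛 n U)).op ((M.toPush n).app W y)))
  refine (congrArg _ (congr($((P.toPush n).mapPresheaf.naturality
    (homOfLE (FSch.Hom.lvU_preimage φ hℨ h𝔛 (n + 1) U).ge).op) ((bcLevel g c k φ hsq G (n + 1)).app W y)))).trans ?_
  refine (map_map_eq (P.F n) _ _ _).trans ?_
  refine (congrArg _ (congrArg (fun q : M.F (n + 1) ⟶ (Scheme.Modules.pushforward ((φ : FSch.Hom ℨ 𝔛).app (n + 1))).obj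
    ((Scheme.Modules.pushforward (ℨ.ι n)).obj (P.F n)) => q.app W y)
      (bcLevel_step g c hc T hT k hk' T' hT' φ hsq G n))).trans ?_
  refine Eq.trans ?_ (congrArg _ (congr($(B.mapPresheaf.naturality (homOfLE (𝔛.lvU_le h𝔛 n U)).op)
    ((M.toPush n).app W y)))).symm
  refine Eq.trans ?_ (map_map_eq (P.F n) _ _ _).symm
  exact map_map_eq (P.F n) _ _ _

/-- The comparison to the direct images of the levels. -/
noncomputable def bcProj (n : ℕ) :
    (pbSys c T ((Scheme.Modules.pushforward g).obj G)).realMod h𝔛 ⟶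
      (FSch.pushF φ hℨ h𝔛).obj ((FSch.levelMor ℨ hℨ n).push.obj ((pbSys k T' G).F n)) :=
  FSch.realProj 𝔛 h𝔛 _ _ n ≫ (FSch.levelMor 𝔛 h𝔛 n).push.map (bcLevel g c k φ hsq G n) ≫
    (FSch.lvPushSq φ hℨ h𝔛 n).inv.app ((pbSys k T' G).F n)

theorem bcProj_app (n : ℕ) (U : (𝔛.X 0).Opens)
    (x : Sec h𝔛 ((pbSys c T ((Scheme.Modules.pushforward g).obj G)).realMod h𝔛) U) :
    ((bcProj g c T k T' φ hsq G h𝔛 hℨ n).val.app (op U)).hom x =
      bcSec g c T k T' φ hsq G h𝔛 hℨ n U (prS h𝔛 _ _ n U x) :=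
  congrArg (fun z => ((pbSys k T' G).F n).presheaf.map z
      ((bcLevel g c k φ hsq G n).app (𝔛.lvU h𝔛 n U) (prS h𝔛 _ _ n U x)))
    (Subsingleton.elim _ _)

include hc hT hk' hT' in
/-- The comparison with the direct image of the completion. -/
theorem exists_compare :
    ∃ Φ : (pbSys c T ((Scheme.Modules.pushforward g).obj G)).realMod h𝔛 ⟶
        (FSch.pushF φ hℨ h𝔛).obj ((pbSys k T' G).realMod hℨ),
      ∀ (n : ℕ) (U : (𝔛.X 0).Opens) (x : Sec h𝔛 ((pbSys c T ((Scheme.Modules.pushforward g).obj G)).realMod h𝔛) U),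
        prS hℨ (pbSys k T' G).F (pbSys k T' G).toPush n (((φ : FSch.Hom ℨ 𝔛).app 0) ⁻¹ᵁ U) ((Φ.val.app (op U)).hom x) =
          bcSec g c T k T' φ hsq G h𝔛 hℨ n U (prS h𝔛 _ _ n U x) := by
  let P := pbSys k T' G
  haveI : PreservesLimitsOfShape ℕᵒᵖ (FSch.pushF φ hℨ h𝔛) :=
    ((FSch.homMor φ hℨ h𝔛).adj.rightAdjoint_preservesLimits).preservesLimitsOfShape
  let L := FSch.levelSysOf ℨ hℨ P.F P.toPush
  let hl := isLimitOfPreserves (FSch.pushF φ hℨ h𝔛) (limit.isLimit L)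
  let cn : Cone (L ⋙ FSch.pushF φ hℨ h𝔛) :=
    { pt := (pbSys c T ((Scheme.Modules.pushforward g).obj G)).realMod h𝔛
      π := NatTrans.ofOpSequence (fun n => bcProj g c T k T' φ hsq G h𝔛 hℨ n) fun n => by
        rw [Functor.comp_map, FSch.levelSysOf_map_succ]
        refine (Category.id_comp _).trans (Eq.symm (hom_ext_sec fun U x => ?_))
        refine Eq.trans ?_ (bcProj_app g c T k T' φ hsq G h𝔛 hℨ n U x).symm
        refine (congrArg (tr hℨ P.F P.toPush n (((φ : FSch.Hom ℨ 𝔛).app 0) ⁻¹ᵁ U))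
          (bcProj_app g c T k T' φ hsq G h𝔛 hℨ (n + 1) U x)).trans ?_
        exact (tr_bcSec g c hc T hT k hk' T' hT' φ hsq G h𝔛 hℨ n U _).trans
          (congrArg _ (tr_prS h𝔛 _ _ n U x)) }
  refine ⟨hl.lift cn, fun n U x => ?_⟩
  refine Eq.trans ?_ (bcProj_app g c T k T' φ hsq G h𝔛 hℨ n U x)
  exact congrArg (fun q : _ ⟶ (FSch.pushF φ hℨ h𝔛).obj ((FSch.levelMor ℨ hℨ n).push.obj (P.F n)) =>
    (q.val.app (op U)).hom x) (hl.fac cn (op n))

end Groth.Agent.H24FMod
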