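import Groth.Agent.H24FMod.PushAlg

/-!
# The direct image of a completion along a proper morphism is the completion of the direct image
-/

set_option autoImplicit false
set_option linter.style.haveILetI false
set_option linter.unusedSectionVars false
universe u

open CategoryTheory CategoryTheory.Limits AlgebraicGeometry TopologicalSpace Opposite

namespace Groth.Agent.H24FMod

open H15Site.ModTensor H15Site.ModRel H15Site.LocGen H15Site.LocPres H24GE H24Formal H24Formal.HomC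

variable {A : Type u} [CommRing A] {X Z : Scheme.{u}} [X.Over (Spec (CommRingCat.of A))]
  [Z.Over (Spec (CommRingCat.of A))] [IsLocallyNoetherian X] [IsLocallyNoetherian Z] (g : Z ⟶ X) [IsProper g]
  (hg : g ≫ (X ↘ Spec (CommRingCat.of A)) = Z ↘ Spec (CommRingCat.of A)) (J : Ideal A)
  {𝔛 ℨ : FSch.Sys.{u}}
  (c : ∀ n, 𝔛.X n ⟶ X) (hc : ∀ n, 𝔛.ι n ≫ c (n + 1) = c n) [∀ n, IsClosedImmersion (c n)]
  (T : ∀ n, Scheme.Modules.pullback (c (n + 1)) ⋙ Scheme.Modules.pullback (𝔛.ι n) ≅ Scheme.Modules.pullback (c n))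
  (hT : ∀ n, T n = Scheme.Modules.pullbackComp (𝔛.ι n) (c (n + 1)) ≪≫ Scheme.Modules.pullbackCongr (hc n))
  (hkX : ∀ n, (c n).ker = idealOf X J ^ (n + 1))
  (k : ∀ n, ℨ.X n ⟶ Z) (hk' : ∀ n, ℨ.ι n ≫ k (n + 1) = k n) [∀ n, IsClosedImmersion (k n)]
  (T' : ∀ n, Scheme.Modules.pullback (k (n + 1)) ⋙ Scheme.Modules.pullback (ℨ.ι n) ≅ Scheme.Modules.pullback (k n))
  (hT' : ∀ n, T' n = Scheme.Modules.pullbackComp (ℨ.ι n) (k (n + 1)) ≪≫ Scheme.Modules.pullbackCongr (hk' n))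
  (hkZ : ∀ n, (k n).ker = idealOf Z J ^ (n + 1))
  (φ : ℨ ⟶ 𝔛) (hsq : ∀ n, k n ≫ g = (φ : FSch.Hom ℨ 𝔛).app n ≫ c n)
  (h𝔛 : 𝔛.IsFormal) (hℨ : ℨ.IsFormal) (G : Z.Modules)

include hc hsq h𝔛 in
theorem lvU_pre_trOpen (n : ℕ) (V : X.Opens) :
    ℨ.lvU hℨ n (((φ : FSch.Hom ℨ 𝔛).app 0) ⁻¹ᵁ trOpen c V) = k n ⁻¹ᵁ (g ⁻¹ᵁ V) := by
  rw [← FSch.Hom.lvU_preimage φ hℨ h𝔛 n, lvU_trOpen h𝔛 c hc, ← Scheme.Hom.comp_preimage, ← hsq,
    Scheme.Hom.comp_preimage]

/-- The base change on the sections coming from the scheme. -/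
theorem bcSec_κ (n : ℕ) (V : X.Opens) (m : Γ((Scheme.Modules.pushforward g).obj G, V)) :
    bcSec g c T k T' φ hsq G h𝔛 hℨ n (trOpen c V) (κ h𝔛 c hc T ((Scheme.Modules.pushforward g).obj G) V n m) =
      ((pbSys k T' G).F n).presheaf.map (homOfLE (lvU_pre_trOpen g c hc k φ hsq h𝔛 hℨ n V).le).op
        (OmegaSh.pullSect (k n) G (g ⁻¹ᵁ V) m) := by
  let B := bcLevel g c k φ hsq G n
  let Gn := (pbSys k T' G).F n
  show Gn.presheaf.map _ (B.app _ (((pbSys c T ((Scheme.Modules.pushforward g).obj G)).F n).presheaf.map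
    (homOfLE (lvU_trOpen h𝔛 c hc n V).le).op (OmegaSh.pullSect (c n) _ V m))) = _
  refine (congrArg _ (congr($(B.mapPresheaf.naturality (homOfLE (lvU_trOpen h𝔛 c hc n V).le).op)
    (OmegaSh.pullSect (c n) _ V m)))).trans ?_
  refine (map_map_eq Gn _ _ _).trans ((congrArg _ (bcLevel_pullSect g c k φ hsq G n V m)).trans ?_)
  exact map_map_eq Gn _ _ _

include hg hT hT' hkX hkZ hsq in
set_option maxHeartbeats 800000 in
/-- The direct image of the completion of a coherent module is the completion of the direct image. -/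
theorem nonempty_pushF_iso (hJ : J.FG) (hG : Coh.IsCoh G) :
    Nonempty ((FSch.pushF φ hℨ h𝔛).obj ((pbSys k T' G).realMod hℨ) ≅
      (pbSys c T ((Scheme.Modules.pushforward g).obj G)).realMod h𝔛) := by
  obtain ⟨Φ, hΦ⟩ := exists_compare g c hc T hT k hk' T' hT' φ hsq G h𝔛 hℨ
  obtain ⟨e, he⟩ := exists_complIso k hk' J hkZ T' hT' hJ G hG
  let H := (Scheme.Modules.pushforward g).obj G
  let P := pbSys k T' G
  let Q := pbSys c T H
  have hH : Coh.IsCoh H := isCoh_pushforward g hG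
  have hI : ∀ n (V : X.Opens) (hV : IsAffineOpen V),
      RingHom.ker ((c n).app V).hom = ((idealOf X J).ideal ⟨V, hV⟩) ^ (n + 1) := fun n V hV => by
    rw [← Pi.pow_apply, ← Scheme.IdealSheafData.ideal_pow, ← hkX n, Scheme.Hom.ker_apply]
  have hres : ∀ n (V : X.Opens), Function.Bijective
      ((P.F n).presheaf.map (homOfLE (lvU_pre_trOpen g c hc k φ hsq h𝔛 hℨ n V).le).op) :=
    fun n V => bijective_res_of_le_le (P.F n) (lvU_pre_trOpen g c hc k φ hsq h𝔛 hℨ n V).le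
      (lvU_pre_trOpen g c hc k φ hsq h𝔛 hℨ n V).ge
  have hπ : ∀ n (V : X.Opens) (m : Γ(H, V)), (e.hom.app (op n)).app (g ⁻¹ᵁ V)
      ((Formal.modPowπ J (n + 1) G).app (g ⁻¹ᵁ V) m) = OmegaSh.pullSect (k n) G (g ⁻¹ᵁ V) m :=
    fun n V m => comp_app_eq (he n) (g ⁻¹ᵁ V) m
  have hinj : ∀ n (W : Z.Opens), Function.Injective ((e.hom.app (op n)).app W) := fun n W a b hab =>
    (comp_app_eq (congr($(e.hom_inv_id).app (op n))) W a).symm.trans
      ((congrArg _ hab).trans (comp_app_eq (congr($(e.hom_inv_id).app (op n))) W b))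
  haveI hmono : Mono Φ := by
    refine (Preadditive.mono_iff_cancel_zero _).2 fun P' ψ hψ => hom_ext_sec fun U y => ?_
    let x : Sec h𝔛 (Q.realMod h𝔛) U := secMap ψ U y
    have hx : secMap Φ U x = 0 :=
      congrArg (fun (q : P' ⟶ (FSch.pushF φ hℨ h𝔛).obj (P.realMod hℨ)) => (q.val.app (op U)).hom y) hψ
    show x = 0
    obtain ⟨R, hR, hR'⟩ := exists_trOpen c U
    refine separated_forg _ (X := op U) R hR _ _ fun W q hq => ?_
    obtain ⟨V, hV, hW, hVU⟩ := hR' q hq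
    let xV : Sec h𝔛 (Q.realMod h𝔛) (trOpen c V) := rs _ (homOfLE hVU).op x
    have hxV : secMap Φ (trOpen c V) xV = 0 :=
      (rs_app Φ.val (homOfLE hVU).op x).trans ((congrArg _ hx).trans (rs_zero _ _))
    obtain ⟨cs, hcs⟩ := exists_rep h𝔛 c hc T hT (idealOf X J) hI hV hH xV
    have hc' : ∀ n, cs (n + 1 + 1) - cs (n + 1) ∈ secIdeal J V ^ (n + 1) •
        (⊤ : Submodule Γ(X, V) (preSec g G V)) := fun n => by
      exact Submodule.smul_mono_left (Ideal.pow_right_mono (ideal_idealOf J ⟨V, hV⟩).le _)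
        (SModEq.sub_mem.1 (cs.2 (Nat.le_succ (n + 1))).symm)
    have h0 : ∀ n, (Formal.modPowπ J (n + 1) G).app (g ⁻¹ᵁ V) (cs (n + 1)) = 0 := fun n => by
      refine hinj n _ ((hπ n V _).trans (((hres n V).1 ?_).trans (map_zero _).symm))
      refine (bcSec_κ g c hc T k T' φ hsq h𝔛 hℨ G n V _).symm.trans ?_
      refine ((congrArg _ (hcs n)).trans (hΦ n (trOpen c V) xV).symm).trans ?_
      exact ((congrArg _ hxV).trans (map_zero _)).trans (map_zero _).symm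
    have hzero : xV = 0 := prS_ext h𝔛 _ _ _ _ fun n => by
      refine ((hcs n).symm.trans (((κ_isQuot h𝔛 c hc T (idealOf X J) hI hV hH n).2 _).2 ?_)).trans (map_zero _).symm
      exact Submodule.smul_mono_left (Ideal.pow_right_mono (ideal_idealOf J ⟨V, hV⟩).ge _)
        (ff_injective g hg hV hG (fun n => cs (n + 1)) hc' h0 hJ n)
    rw [rs_zero, show q.op = (homOfLE hVU).op ≫ (homOfLE hW).op from Subsingleton.elim _ _, ← rs_rs]
    exact (congrArg _ hzero).trans (rs_zero _ _)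
  haveI hepi : Epi Φ := by
    rw [epi_iff_locSurj]
    intro U t
    obtain ⟨R, hR, hR'⟩ := exists_trOpen c U
    refine ⟨R, hR, fun W q hq => ?_⟩
    obtain ⟨V, hV, hW, hVU⟩ := hR' q hq
    let t₀ := rs ((forg (𝔛.Osh h𝔛)).obj ((FSch.pushF φ hℨ h𝔛).obj (P.realMod hℨ))) (homOfLE hVU).op t
    let tV : Sec hℨ (P.realMod hℨ) (((φ : FSch.Hom ℨ 𝔛).app 0) ⁻¹ᵁ trOpen c V) := t₀
    choose w hw using fun n => (hres n V).2 (prS hℨ P.F P.toPush n _ tV)
    let z : ∀ n, preSec g (Formal.modPow J (n + 1) G) V := fun n => (e.inv.app (op n)).app (g ⁻¹ᵁ V) (w n)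
    have hz : ∀ n, (Formal.modPowTrans J (n + 1) G).app (g ⁻¹ᵁ V) (z (n + 1)) = z n := fun n => by
      have nat := e.inv.naturality (homOfLE (Nat.le_succ n)).op
      rw [completion_map_succ, sysOf_map_succ] at nat
      refine (comp_app_eq nat.symm (g ⁻¹ᵁ V) (w (n + 1))).trans ?_
      show (e.inv.app (op n)).app (g ⁻¹ᵁ V) ((stepMap k hk' P n).app (g ⁻¹ᵁ V) (w (n + 1))) = _
      refine congrArg ((e.inv.app (op n)).app (g ⁻¹ᵁ V)) ((hres n V).1 (Eq.trans ?_ (hw n).symm))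
      refine Eq.trans ?_ ((congrArg _ (hw (n + 1))).trans (tr_prS hℨ P.F P.toPush n _ tV))
      let a := (homOfLE (lvU_pre_trOpen g c hc k φ hsq h𝔛 hℨ (n + 1) V).le).op
      show (P.F n).presheaf.map _ ((P.F n).presheaf.map
          (homOfLE (show k n ⁻¹ᵁ (g ⁻¹ᵁ V) ≤ ℨ.ι n ⁻¹ᵁ (k (n + 1) ⁻¹ᵁ (g ⁻¹ᵁ V)) from
            (congrArg (· ⁻¹ᵁ (g ⁻¹ᵁ V)) (hk' n)).ge)).op ((P.toPush n).app _ (w (n + 1)))) =
        (P.F n).presheaf.map (homOfLE (ℨ.lvU_le hℨ n _)).op ((P.toPush n).app _ ((P.F (n + 1)).presheaf.map a (w (n + 1))))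
      refine (map_map_eq (P.F n) _ _ _).trans (Eq.trans ?_
        (congrArg _ (congr($((P.toPush n).mapPresheaf.naturality a) (w (n + 1))))).symm)
      exact (map_map_eq (P.F n) _ _ _).symm
    obtain ⟨h, hch, hh⟩ := ff_surjective g hg hV hG z hz hJ
    let b : AdicCompletion.AdicCauchySequence ((idealOf X J).ideal ⟨V, hV⟩) Γ(H, V) :=
      AdicCompletion.AdicCauchySequence.mk _ _ (fun n => h (n - 1)) fun n => by
        rcases n with _ | n
        · simp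
        · refine SModEq.symm (SModEq.sub_mem.2 ?_)
          exact Submodule.smul_mono_left (Ideal.pow_right_mono (ideal_idealOf J ⟨V, hV⟩).ge _) (hch n)
    obtain ⟨y, hy⟩ := exists_section h𝔛 c hc T hT (idealOf X J) hI hV hH b
    refine ⟨rs _ (homOfLE hW).op y, ?_⟩
    rw [show q.op = (homOfLE hVU).op ≫ (homOfLE hW).op from Subsingleton.elim _ _, ← rs_rs]
    refine (rs_app Φ.val (homOfLE hW).op y).trans (congrArg _ ?_)
    refine prS_ext hℨ P.F P.toPush (U := ((φ : FSch.Hom ℨ 𝔛).app 0) ⁻¹ᵁ trOpen c V) _ tV fun n => ?_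
    refine (hΦ n (trOpen c V) y).trans ((congrArg _ (hy n)).trans ?_)
    refine (bcSec_κ g c hc T k T' φ hsq h𝔛 hℨ G n V _).trans ((congrArg _ ?_).trans (hw n))
    refine (hπ n V (h n)).symm.trans ((congrArg _ (hh n)).trans ?_)
    exact comp_app_eq (congr($(e.inv_hom_id).app (op n))) (g ⁻¹ᵁ V) (w n)
  haveI := isIso_of_mono_of_epi Φ
  exact ⟨(asIso Φ).symm⟩

end Groth.Agent.H24FMod
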