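import Groth.Agent.H24FMod.Limit
import Groth.Prelude.Def_FSch5

/-!
# Sections of the structure sheaf and of limit modules of a formal scheme
-/

set_option autoImplicit false
set_option linter.style.haveILetI false
set_option linter.unusedSectionVars false
universe u

open CategoryTheory CategoryTheory.Limits AlgebraicGeometry TopologicalSpace Opposite

namespace Groth.Agent.H24FMod

open H15Site.ModTensor H15Site.ModRel

variable {𝔛 : FSch.Sys.{u}} (h : 𝔛.IsFormal)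

/-- Sections of a module on a formal scheme. -/
abbrev Sec (𝔉 : FSch.ModF 𝔛 h) (U : (𝔛.X 0).Opens) : Type u :=
  ((forg (𝔛.Osh h)).obj 𝔉).obj (op U)

/-- Sections of the structure sheaf of a formal scheme. -/
abbrev OSec (U : (𝔛.X 0).Opens) : Type u := (𝔛.Osh h).obj.obj (op U)

theorem lvU_mono (n : ℕ) {U V : (𝔛.X 0).Opens} (l : V ≤ U) : 𝔛.lvU h n V ≤ 𝔛.lvU h n U :=
  fun _ hx => l hx

/-- The projection to the sections of a level. -/
noncomputable def oP (n : ℕ) (U : (𝔛.X 0).Opens) : OSec h U →+* Γ(𝔛.X n, 𝔛.lvU h n U) :=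
  ((𝔛.OshProj h n).hom.app (op U)).hom

/-- The transition on sections of the levels. -/
noncomputable def trO (n : ℕ) (U : (𝔛.X 0).Opens) : Γ(𝔛.X (n + 1), 𝔛.lvU h (n + 1) U) →+* Γ(𝔛.X n, 𝔛.lvU h n U) :=
  ((𝔛.ι n).appLE (𝔛.lvU h (n + 1) U) (𝔛.lvU h n U) (𝔛.lvU_le h n U)).hom

theorem trO_oP (n : ℕ) (U : (𝔛.X 0).Opens) (r : OSec h U) : trO h n U (oP h (n + 1) U r) = oP h n U r :=
  (congrArg (fun (q : 𝔛.Osh h ⟶ 𝔛.levelObj h n) => (q.hom.app (op U)).hom r) (𝔛.OshProj_levelMap h n) :)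

theorem oP_ext {U : (𝔛.X 0).Opens} (r r' : OSec h U) (e : ∀ n, oP h n U r = oP h n U r') : r = r' :=
  limit_ring_ext (𝔛.levelRing h) U r r' e

theorem exists_oP (U : (𝔛.X 0).Opens) (s : ∀ n, Γ(𝔛.X n, 𝔛.lvU h n U)) (hs : ∀ n, trO h n U (s (n + 1)) = s n) :
    ∃ r : OSec h U, ∀ n, oP h n U r = s n :=
  exists_limit_ring (𝔛.levelRing h) U s fun n => by
    rw [𝔛.levelRing_map_succ h n]
    exact hs n

theorem oP_res (n : ℕ) {U V : (𝔛.X 0).Opens} (l : V ⟶ U) (r : OSec h U) :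
    oP h n V (rr (𝔛.Osh h) l.op r) = (𝔛.X n).presheaf.map (homOfLE (lvU_mono h n (leOfHom l))).op (oP h n U r) :=
  congr($((𝔛.OshProj h n).hom.naturality l.op) r)

variable (G : ∀ k, (𝔛.X k).Modules) (t : ∀ k, G (k + 1) ⟶ (Scheme.Modules.pushforward (𝔛.ι k)).obj (G k))

/-- The transition on sections of modules on the levels. -/
noncomputable def tr (n : ℕ) (U : (𝔛.X 0).Opens) : Γ(G (n + 1), 𝔛.lvU h (n + 1) U) →+ Γ(G n, 𝔛.lvU h n U) where
  toFun y := (G n).presheaf.map (homOfLE (𝔛.lvU_le h n U)).op ((t n).app (𝔛.lvU h (n + 1) U) y)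
  map_zero' := (congrArg _ (map_zero ((t n).app _).hom)).trans (map_zero _)
  map_add' a b := (congrArg _ (map_add ((t n).app _).hom a b)).trans (map_add _ _ _)

theorem tr_smul (n : ℕ) (U : (𝔛.X 0).Opens) (r : Γ(𝔛.X (n + 1), 𝔛.lvU h (n + 1) U))
    (y : Γ(G (n + 1), 𝔛.lvU h (n + 1) U)) : tr h G t n U (r • y) = trO h n U r • tr h G t n U y := by
  show (G n).presheaf.map _ ((t n).app _ (r • y)) = _
  rw [Scheme.Modules.Hom.app_smul]
  exact Scheme.Modules.map_smul (G n) (homOfLE (𝔛.lvU_le h n U)) _ _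

/-- The projections of the limit module on sections. -/
noncomputable def prS (n : ℕ) (U : (𝔛.X 0).Opens) : Sec h (FSch.realLim 𝔛 h G t) U →+ Γ(G n, 𝔛.lvU h n U) where
  toFun x := ((FSch.realProj 𝔛 h G t n).val.app (op U)).hom x
  map_zero' := map_zero ((FSch.realProj 𝔛 h G t n).val.app (op U)).hom
  map_add' a b := map_add ((FSch.realProj 𝔛 h G t n).val.app (op U)).hom a b

theorem prS_smul (n : ℕ) (U : (𝔛.X 0).Opens) (r : OSec h U) (x : Sec h (FSch.realLim 𝔛 h G t) U) :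
    prS h G t n U (r • x) = oP h n U r • prS h G t n U x :=
  ((FSch.realProj 𝔛 h G t n).val.app (op U)).hom.map_smul r x

theorem tr_prS (n : ℕ) (U : (𝔛.X 0).Opens) (x : Sec h (FSch.realLim 𝔛 h G t) U) :
    tr h G t n U (prS h G t (n + 1) U x) = prS h G t n U x := by
  have e := congrArg (fun (q : FSch.realLim 𝔛 h G t ⟶ (FSch.levelMor 𝔛 h n).push.obj (G n)) =>
    (q.val.app (op U)).hom x) (FSch.realProj_map 𝔛 h G t n)
  exact e

theorem prS_ext {U : (𝔛.X 0).Opens} (x y : Sec h (FSch.realLim 𝔛 h G t) U)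
    (e : ∀ n, prS h G t n U x = prS h G t n U y) : x = y :=
  limit_section_ext (FSch.levelSysOf 𝔛 h G t) U x y e

theorem exists_prS (U : (𝔛.X 0).Opens) (s : ∀ n, Γ(G n, 𝔛.lvU h n U)) (hs : ∀ n, tr h G t n U (s (n + 1)) = s n) :
    ∃ x : Sec h (FSch.realLim 𝔛 h G t) U, ∀ n, prS h G t n U x = s n :=
  exists_limit_section (FSch.levelSysOf 𝔛 h G t) U s fun n => by
    rw [FSch.levelSysOf_map_succ]
    exact hs n

theorem prS_res (n : ℕ) {U V : (𝔛.X 0).Opens} (l : V ⟶ U) (x : Sec h (FSch.realLim 𝔛 h G t) U) :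
    prS h G t n V (rs ((forg (𝔛.Osh h)).obj (FSch.realLim 𝔛 h G t)) l.op x) =
      (G n).presheaf.map (homOfLE (lvU_mono h n (leOfHom l))).op (prS h G t n U x) :=
  rs_app (FSch.realProj 𝔛 h G t n).val l.op x

end Groth.Agent.H24FMod
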